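import Cfsg.Agent.Lib.Block.FreeInertial.Count
import Cfsg.Agent.Lib.Block.AbelianDefect.Watanabe

/-!
# Two-blocks with abelian defect group with three involutions

The stabilizer of the maximal pair acts freely modulo the centralizer, through a group of order one
or three (`odd_auts`), and the block has one or three as rank (`counts_fourTorsion`).
-/

open Finset MonoidAlgebra

set_option autoImplicit false
set_option linter.unusedSectionVars false

namespace CfsgLib.Block.FreeInertial

open Cfsg CfsgLib CfsgLib.Block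

universe u

/-- An automorphism of order prime to `p` of an abelian `p`-group fixing the elements of order `p` is
trivial. -/
theorem aut_eq_one_of_fix {A : Type u} [CommGroup A] [Finite A] {p : ℕ} (hp : p.Prime)
    (hA : IsPGroup p A) (a : MulAut A) (ha : ¬ p ∣ orderOf a)
    (hfix : ∀ x : A, x ^ p = 1 → a x = x) : a = 1 := by
  have key : ∀ k : ℕ, ∀ x : A, x ^ p ^ k = 1 → a x = x := by
    intro k
    induction k with
    | zero => intro x hx; rw [pow_zero, pow_one] at hx; rw [hx, map_one]
    | succ k ih =>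
      intro x hx
      have h1 : a (x ^ p) = x ^ p := ih _ (by rw [← pow_mul, ← pow_succ']; exact hx)
      set z := x⁻¹ * a x with hz
      have hzp : z ^ p = 1 := by rw [hz, mul_pow, inv_pow, ← map_pow, h1, inv_mul_cancel]
      have hax : a x = x * z := by rw [hz, mul_inv_cancel_left]
      have hiter : ∀ n : ℕ, (a ^ n) x = x * z ^ n := by
        intro n
        induction n with
        | zero => simp
        | succ n ihn =>
          rw [pow_succ', MulAut.mul_apply, ihn, map_mul, map_pow, hax, hfix z hzp, pow_succ']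
          exact mul_assoc _ _ _
      have hzn : z ^ orderOf a = 1 := by
        have h := hiter (orderOf a)
        rw [pow_orderOf_eq_one, MulAut.one_apply] at h
        exact mul_left_cancel (a := x) (h.symm.trans (mul_one x).symm)
      have hcop : Nat.gcd p (orderOf a) = 1 := (hp.coprime_iff_not_dvd.mpr ha)
      have hz1 : z = 1 := by
        have h := pow_gcd_eq_one.mpr ⟨hzp, hzn⟩
        rwa [hcop, pow_one] at h
      rw [hax, hz1, mul_one]
  refine MulEquiv.ext fun x => ?_
  obtain ⟨k, hk⟩ := hA x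
  exact key k x hk

/-- Odd groups of automorphisms of an abelian two-group with four elements of square one. -/
theorem odd_auts {A : Type u} [CommGroup A] [Finite A] (hA : IsPGroup 2 A)
    (h4 : Nat.card {x : A // x ^ 2 = 1} = 4) (H : Subgroup (MulAut A)) (hH : ¬ 2 ∣ Nat.card H) :
    (∀ a ∈ H, ∀ y : A, y ≠ 1 → a y = y → a = 1) ∧ (Nat.card H = 1 ∨ Nat.card H = 3) := by
  classical
  have := Fintype.ofFinite A
  have h4' : (Finset.univ.filter fun x : A => x ^ 2 = 1).card = 4 := by
    rw [← Fintype.card_subtype, ← Nat.card_eq_fintype_card, h4]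
  set S := Finset.univ.filter fun x : A => x ^ 2 = 1 with hS
  have hmemS : ∀ x, x ∈ S ↔ x ^ 2 = 1 := fun x => by simp [hS]
  have hfree : ∀ a ∈ H, ∀ y : A, y ≠ 1 → a y = y → a = 1 := by
    intro a ha y hy hay
    have hodd : ¬ 2 ∣ orderOf a := fun h =>
      hH (h.trans (H.orderOf_dvd_natCard ha))
    obtain ⟨z, hz1, hz2, haz⟩ : ∃ z : A, z ≠ 1 ∧ z ^ 2 = 1 ∧ a z = z := by
      obtain ⟨k, hk⟩ := IsPGroup.iff_orderOf.mp hA y
      cases k with
      | zero => exact absurd (orderOf_eq_one_iff.mp hk) hy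
      | succ k =>
        refine ⟨y ^ 2 ^ k, fun h => ?_, by rw [← pow_mul, ← pow_succ, ← hk, pow_orderOf_eq_one],
          by rw [map_pow, hay]⟩
        have h1 := orderOf_dvd_of_pow_eq_one h
        rw [hk, Nat.pow_dvd_pow_iff_le_right (by norm_num)] at h1
        omega
    refine aut_eq_one_of_fix Nat.prime_two hA a hodd fun x hx => ?_
    set R := (S.erase 1).erase z with hR
    have hRc : R.card = 2 := by
      rw [hR, Finset.card_erase_of_mem (Finset.mem_erase.mpr ⟨hz1, (hmemS z).mpr hz2⟩),
        Finset.card_erase_of_mem ((hmemS 1).mpr (one_pow 2)), h4']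
    have hmap : ∀ v ∈ R, a v ∈ R := fun v hv => by
      simp only [hR, Finset.mem_erase, hmemS] at hv ⊢
      exact ⟨fun h => hv.1 (a.injective (h.trans haz.symm)),
        fun h => hv.2.1 (a.injective (h.trans (map_one a).symm)), by rw [← map_pow, hv.2.2, map_one]⟩
    have hsq : (a * a) x = x := by
      rcases eq_or_ne x 1 with rfl | hx1
      · simp
      rcases eq_or_ne x z with rfl | hxz
      · rw [MulAut.mul_apply, haz, haz]
      have hxR : x ∈ R := by simp [hR, hmemS, hx, hx1, hxz]
      by_contra hne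
      have hax : a x ≠ x := fun h => hne (by rw [MulAut.mul_apply, h, h])
      have hsub : ({x, a x, a (a x)} : Finset A) ⊆ R := by
        intro v hv
        simp only [Finset.mem_insert, Finset.mem_singleton] at hv
        rcases hv with rfl | rfl | rfl
        exacts [hxR, hmap _ hxR, hmap _ (hmap _ hxR)]
      have h3 : ({x, a x, a (a x)} : Finset A).card = 3 := by
        rw [Finset.card_insert_of_notMem, Finset.card_pair]
        · exact fun h => hax (a.injective h).symm
        · simp only [Finset.mem_insert, Finset.mem_singleton, not_or]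
          exact ⟨Ne.symm hax, fun h => hne h.symm⟩
      have := Finset.card_le_card hsub
      omega
    obtain ⟨c, hc⟩ : ∃ c, orderOf a + 1 = 2 * c := ⟨(orderOf a + 1) / 2, by omega⟩
    have hac : a = (a * a) ^ c := by
      rw [← pow_two, ← pow_mul, ← hc, pow_succ, pow_orderOf_eq_one, one_mul]
    rw [hac]
    exact Subgroup.pow_mem (MulAction.stabilizer (MulAut A) x) hsq c
  refine ⟨hfree, ?_⟩
  have h4c : 1 ≤ (S.erase 1).card ∧ (S.erase 1).card = 3 := by
    rw [Finset.card_erase_of_mem ((hmemS 1).mpr (one_pow 2)), h4']; omega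
  obtain ⟨v, hv⟩ := Finset.card_pos.mp h4c.1
  obtain ⟨hv1, hv2⟩ := Finset.mem_erase.mp hv
  have := Fintype.ofFinite H
  have hle : Nat.card H ≤ 3 := by
    rw [Nat.card_eq_fintype_card, ← Finset.card_univ, ← h4c.2]
    refine Finset.card_le_card_of_injOn (fun a : H => (a : MulAut A) v) (fun a _ => ?_) fun a _ b _ hab => ?_
    · exact Finset.mem_erase.mpr ⟨fun h => hv1 ((a : MulAut A).injective (h.trans (map_one _).symm)),
        (hmemS _).mpr (by rw [← map_pow, (hmemS v).mp hv2, map_one])⟩
    · have h := hfree ((b : MulAut A)⁻¹ * a) (H.mul_mem (H.inv_mem b.2) a.2) v hv1 (by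
        dsimp only at hab
        rw [MulAut.mul_apply, hab, MulAut.inv_apply_self])
      exact Subtype.ext (inv_mul_eq_one.mp h).symm
  have hpos : 0 < Nat.card H := Nat.card_pos
  omega

variable {M : Ideal AlgInt} [M.IsMaximal] {G : Type u} [Group G] [Fintype G] [DecidableEq G]
  [Fintype (IrrCharacter G)]

/-- The frame at a given maximal pair with three involutions. -/
theorem exists_frame_of_pair (hM : IsPModular 2 M) {B : Set (IrrCharacter G)}
    {P : Subgroup G} {c : Set (IrrCharacter (CQ P))} (hmax : IsMaximalBrauerPair 2 M B P c)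
    (hab : ∀ x ∈ P, ∀ y ∈ P, x * y = y * x)
    (h4 : Nat.card {x : P // x ^ 2 = 1} = 4) {T : Subgroup G}
    (hT : ∀ g, g ∈ T ↔ g ∈ Subgroup.normalizer (P : Set G) ∧ StabilizesBlock (CQ P) c g) :
    ∃ F : FreeFrame 2 M G, F.B = B ∧ F.P = P ∧
      (∀ g, g ∈ T ↔ g ∈ Subgroup.normalizer (F.P : Set G) ∧ StabilizesBlock (CQ F.P) F.e g) ∧
      ((CQ F.P).relIndex T = 1 ∨ (CQ F.P).relIndex T = 3) := by
  classical
  haveI : Fact (Nat.Prime 2) := ⟨Nat.prime_two⟩
  obtain ⟨χ₀, hχ₀, h0⟩ := exists_height_zero hM hmax.1.2.1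
  obtain ⟨i, hi, -⟩ := exists_sourceIdem hM hmax hχ₀ h0
  letI : CommGroup P := { (inferInstance : Group P) with
    mul_comm := fun a b => Subtype.ext (hab a a.2 b b.2) }
  have hTN : T ≤ Subgroup.normalizer (P : Set G) := fun t ht => ((hT t).mp ht).1
  set φ : T →* MulAut P := P.normalizerMonoidHom.comp (Subgroup.inclusion hTN) with hφdef
  have hφ : ∀ (t : T) (v : P), (φ t v : G) = (t : G) * v * (t : G)⁻¹ := fun t v => rfl
  obtain ⟨hfree, hcard⟩ := odd_auts (A := P) hmax.1.1.1 h4 φ.range
    (AbelianDefect.not_dvd_card_range hM hmax hab hT φ hφ)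
  have hker : φ.ker = (CQ P).subgroupOf T := by
    ext t
    rw [MonoidHom.mem_ker, Subgroup.mem_subgroupOf, Subgroup.mem_centralizer_iff]
    constructor
    · intro h v hv
      have h1 := hφ t ⟨v, hv⟩
      rw [h, MulAut.one_apply] at h1
      exact mul_inv_eq_iff_eq_mul.mp h1.symm |>.symm
    · intro h
      refine MulEquiv.ext fun v => Subtype.ext ?_
      rw [hφ, MulAut.one_apply, ← h v v.2, mul_inv_cancel_right]
  let F : FreeFrame 2 M G :=
    { hM := hM, B := B, P := P, e := c, hmax := hmax, hab := hab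
      hfree := fun g hgN hgS x hx hx1 hgx => by
        have ht : g ∈ T := (hT g).mpr ⟨hgN, hgS⟩
        have h1 := hfree (φ ⟨g, ht⟩) ⟨_, rfl⟩ ⟨x, hx⟩ (fun h => hx1 (congrArg Subtype.val h))
          (Subtype.ext (by rw [hφ]; show g * x * g⁻¹ = x; rw [hgx.eq, mul_inv_cancel_right]))
        have h2 : (⟨g, ht⟩ : T) ∈ φ.ker := MonoidHom.mem_ker.mpr h1
        rwa [hker, Subgroup.mem_subgroupOf] at h2
      χ₀ := χ₀, hχ₀ := hχ₀, i := i, hsrc := hi }
  refine ⟨F, rfl, rfl, hT, ?_⟩
  show ((CQ P).subgroupOf T).index = 1 ∨ ((CQ P).subgroupOf T).index = 3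
  rw [← hker, Subgroup.index_ker]
  exact hcard

/-- The frame of a block with abelian defect group with three involutions. -/
theorem exists_frame_fourTorsion (hM : IsPModular 2 M) {B : Set (IrrCharacter G)} (hB : IsPBlock M B)
    {P : Subgroup G} (hPD : IsDefectGroup 2 M B P) (hab : ∀ x ∈ P, ∀ y ∈ P, x * y = y * x)
    (h4 : Nat.card {x : P // x ^ 2 = 1} = 4) :
    ∃ (F : FreeFrame 2 M G) (T : Subgroup G), F.B = B ∧ F.P = P ∧
      (∀ g, g ∈ T ↔ g ∈ Subgroup.normalizer (F.P : Set G) ∧ StabilizesBlock (CQ F.P) F.e g) ∧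
      ((CQ F.P).relIndex T = 1 ∨ (CQ F.P).relIndex T = 3) := by
  classical
  haveI : Fact (Nat.Prime 2) := ⟨Nat.prime_two⟩
  obtain ⟨c, hmax⟩ := exists_maximalPair_at hM hB hPD
  obtain ⟨T, hT⟩ := exists_stab_subgroup hM hmax.1.1.2
  obtain ⟨F, h⟩ := exists_frame_of_pair hM hmax hab h4 hT
  exact ⟨F, T, h⟩

/-- The invariants of a block with abelian defect group with three involutions. -/
theorem counts_fourTorsion (hM : IsPModular 2 M) {B : Set (IrrCharacter G)} (hB : IsPBlock M B)
    {P : Subgroup G} (hPD : IsDefectGroup 2 M B P) (hab : ∀ x ∈ P, ∀ y ∈ P, x * y = y * x)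
    (h4 : Nat.card {x : P // x ^ 2 = 1} = 4) :
    (blockRank 2 B = 1 ∧ Nat.card B = Nat.card P) ∨
      (blockRank 2 B = 3 ∧ 3 * Nat.card B = Nat.card P + 8) := by
  classical
  obtain ⟨F, T, hFB, hFP, hT, he⟩ := exists_frame_fourTorsion hM hB hPD hab h4
  have hP1 : F.P ≠ ⊥ := by
    rw [hFP]
    intro h
    have h1 := Nat.card_le_card_of_injective (fun x : {x : P // x ^ 2 = 1} => x.1)
      Subtype.val_injective
    rw [h4, h, Subgroup.card_bot] at h1
    omega
  obtain ⟨hdvd, hk, hl, hsmall⟩ := F.counts T hT hP1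
  have hl1 := one_le_blockRank (p := 2) (by norm_num : (2 : ℕ) ≠ 1) (⟨F.χ₀, F.hχ₀⟩ : F.B.Nonempty)
  have hcyc : ¬ IsCyclic F.P := by
    rw [hFP]
    intro hc
    have h1 := IsCyclic.card_pow_eq_one_le (α := P) (n := 2) (by norm_num)
    have := Fintype.ofFinite P
    rw [Nat.card_eq_fintype_card, Fintype.card_subtype] at h4
    have h2 : 4 ≤ 2 := by
      refine le_trans (le_of_eq h4.symm) (le_trans (le_of_eq ?_) h1)
      exact congrArg Finset.card (Finset.ext fun x => by simp)
    omega
  have hpos : 0 < Nat.card F.P := Nat.card_pos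
  rcases he with he | he
  · rw [he] at hk hl hdvd
    rw [hFB] at hk hl hl1
    rw [hFP] at hk hpos
    left
    omega
  · have hr := (hsmall (by omega)).resolve_right hcyc
    rw [he] at hk hr hdvd
    obtain ⟨c, hc⟩ := hdvd
    rw [hFB] at hk hr
    rw [hFP] at hk hpos hc
    right
    omega

end CfsgLib.Block.FreeInertial
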