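import Cfsg.Agent.Lib.Block.NilpotentBijection
import Cfsg.Agent.Lib.Block.StarLocal
import Cfsg.Agent.Lib.Block.CyclicDefect.IdemValue
import Cfsg.Agent.Lib.Block.AbelianDefect.Fusion

/-!
# Subsections whose block has a unit row

The part of a character in such a subsection is a cyclotomic integer times the row
(`exists_rowCoeff`); at an idempotent it takes that integer times the value of the row
(`liftVal_eq_mul`).  Blocks whose maximal pair has abelian group and trivial inertial quotient are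
nilpotent (`isNilpotentBlock_of_stab_le`).
-/

open Finset MonoidAlgebra
open scoped ComplexConjugate

set_option autoImplicit false
set_option linter.unusedSectionVars false

namespace CfsgLib.Block.FreeInertial

open Cfsg CfsgLib CfsgLib.Block CfsgLib.Block.CyclicDefect
open scoped Pair

universe u v

variable {p : ℕ} {M : Ideal AlgInt} [M.IsMaximal] {G : Type u} [Group G] [Fintype G] [DecidableEq G]
  [Fintype (IrrCharacter G)]

/-- The multiple of the row in the part of `θ` in the subsection. -/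
noncomputable def rowCoeff {Q : Subgroup G} (η₀ : IrrCharacter (CQ Q)) (θ : IrrCharacter G) (u : G)
    (b : Set (IrrCharacter (CQ Q))) : ℂ :=
  secPart θ u ⟨Q, b⟩ 1 / (η₀ : CQ Q → ℂ) 1

theorem rowCoeff_spec (hM : IsPModular p M) {u : G} {n : ℕ} (hn : n ≠ 0) (hun : u ^ n = 1)
    {b : Set (IrrCharacter (CQ (Subgroup.zpowers u)))} {η₀ : IrrCharacter (CQ (Subgroup.zpowers u))}
    (d : IrrCharacter (CQ (Subgroup.zpowers u)) → ℕ)
    (hd : ∀ η ∈ b, ∀ t : CQ (Subgroup.zpowers u), ¬ p ∣ orderOf t →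
      (η : CQ (Subgroup.zpowers u) → ℂ) t = (d η : ℂ) * (η₀ : CQ (Subgroup.zpowers u) → ℂ) t)
    (θ : IrrCharacter G) :
    rowCoeff η₀ θ u b ∈ cycInt n ∧ ∀ s : CQ (Subgroup.zpowers u), ¬ p ∣ orderOf s →
      secPart θ u ⟨_, b⟩ (s : G) = rowCoeff η₀ θ u b * (η₀ : CQ (Subgroup.zpowers u) → ℂ) s := by
  classical
  have := Fintype.ofFinite (IrrCharacter (CQ (Subgroup.zpowers u)))
  have hC : ∀ t : CQ (Subgroup.zpowers u), Commute (t : G) u := fun t => mem_cq_zpowers_iff.mp t.2
  set u' : CQ (Subgroup.zpowers u) := ⟨u, mem_cq_zpowers_iff.mpr (Commute.refl _)⟩ with hu'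
  have hu'n : u' ^ n = 1 := Subtype.ext (by simpa [hu'] using hun)
  choose lam hlam hlamt using fun η : IrrCharacter (CQ (Subgroup.zpowers u)) =>
    exists_central_scalar η (z := u') (fun t => Subtype.ext (hC t).symm.eq) hu'n
  let c : IrrCharacter (CQ (Subgroup.zpowers u)) → ℂ := fun η => (resMult θ η : ℂ) * lam η
  have hsec : secFun u (CQ (Subgroup.zpowers u)) θ = ∑ η : IrrCharacter (CQ (Subgroup.zpowers u)), c η • (η : CQ (Subgroup.zpowers u) → ℂ) := by
    funext t
    simp only [Finset.sum_apply, Pi.smul_apply, smul_eq_mul]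
    show (θ : G → ℂ) ((u' * t : CQ (Subgroup.zpowers u)) : G) = _
    rw [res_eq_sum_resMult]
    exact Finset.sum_congr rfl fun η _ => by rw [hlamt]; simp only [c]; ring
  set K : ℂ := ∑ η ∈ Finset.univ.filter (· ∈ b), c η * (d η : ℂ) with hK
  have hpart : ∀ s : CQ (Subgroup.zpowers u), ¬ p ∣ orderOf s →
      secPart θ u ⟨(Subgroup.zpowers u), b⟩ (s : G) = K * (η₀ : CQ (Subgroup.zpowers u) → ℂ) s := by
    intro s hs
    rw [secPart_eq_blockPart b hC, blockPart_eq, hK, Finset.sum_mul]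
    refine Finset.sum_congr rfl fun η hη => ?_
    rw [hd η (Finset.mem_filter.mp hη).2 s hs, ← mul_assoc]
    congr 2
    rw [hsec, Char.classInner_sum_left, Finset.sum_eq_single η]
    · rw [Char.classInner_smul_left, Char.classInner_irr_self, mul_one]
    · intro η' _ hne
      rw [Char.classInner_smul_left, Char.classInner_irr_ne hne, mul_zero]
    · simp
  have hKe : rowCoeff η₀ θ u b = K := by
    have h := hpart 1 (by rw [orderOf_one]; exact hM.1.not_dvd_one)
    rw [OneMemClass.coe_one] at h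
    rw [rowCoeff, h, mul_div_cancel_right₀ _ (Char.irr_one_ne_zero η₀)]
  rw [hKe]
  exact ⟨Subring.sum_mem _ fun η _ => Subring.mul_mem _
    (Subring.mul_mem _ (natCast_mem _ _) (mem_cycInt_of_pow (hlam η))) (natCast_mem _ _), hpart⟩

/-- The value at an idempotent whose truncation lies in the block. -/
theorem liftVal_eq_mul (hM : IsPModular p M) {u : G} (hu : ∃ k : ℕ, orderOf u = p ^ k)
    {b : Set (IrrCharacter (CQ (Subgroup.zpowers u)))} (hb : IsPBlock M b)
    {η₀ : IrrCharacter (CQ (Subgroup.zpowers u))}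
    (hrows : ∀ η ∈ b, ∃ d : ℕ, ∀ t : CQ (Subgroup.zpowers u), ¬ p ∣ orderOf t →
      (η : CQ (Subgroup.zpowers u) → ℂ) t = (d : ℂ) * (η₀ : CQ (Subgroup.zpowers u) → ℂ) t)
    {z : MonoidAlgebra (ResField M) G} (hz : z * z = z) (hzu : Commute (single u 1) z)
    (hzb : trC (Subgroup.zpowers u) z * eG M b = trC (Subgroup.zpowers u) z) (θ : IrrCharacter G) :
    liftVal θ u z = rowCoeff η₀ θ u b *
      (idemVal η₀ (resTo (CQ (Subgroup.zpowers u)) (trC (Subgroup.zpowers u) z)) : ℂ) := by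
  classical
  choose! d hd using hrows
  obtain ⟨k, hk⟩ := hu
  have hu : ∃ k : ℕ, orderOf u = p ^ k := ⟨k, hk⟩
  have hun : u ^ p ^ k = 1 := hk ▸ pow_orderOf_eq_one u
  have := Fintype.ofFinite (IrrCharacter (CQ (Subgroup.zpowers u)))
  have := Fintype.ofFinite (ConjClasses (CQ (Subgroup.zpowers u)))
  have hQp : IsPGroup p (Subgroup.zpowers u : Subgroup G) := isPGroup_zpowers hu
  set a : MonoidAlgebra (ResField M) (CQ (Subgroup.zpowers u)) := resTo (CQ (Subgroup.zpowers u)) (trC (Subgroup.zpowers u) z) with ha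
  have hea : trC (Subgroup.zpowers u) z = emb a := eq_emb_of_suppIn (suppIn_trC z)
  have hinj : Function.Injective
      (emb : MonoidAlgebra (ResField M) (CQ (Subgroup.zpowers u)) → MonoidAlgebra (ResField M) G) :=
    fun x y hxy => ga_ext fun t => by rw [← coeff_emb_coe (G := G) x t, hxy, coeff_emb_coe]
  have haa : a * a = a := hinj (by
    rw [emb_mul, ← hea, ← trC_mul hM hQp (cinv_zpowers_of_fix hzu) (cinv_zpowers_of_fix hzu), hz])
  obtain ⟨L0, hL0, hL0r⟩ := exists_lift (M := M) haa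
  set eb := (blockIdem M b : MonoidAlgebra (locRing M) (CQ (Subgroup.zpowers u))) with heb
  have hebc : ∀ x, Commute eb x := fun x => (mem_center_iff_isClassElt.mp (blockIdem M b).2).commute x
  have heb2 : eb * eb = eb := congrArg Subtype.val (blockIdem_mul_self hM (IsBlockUnion.of_isPBlock hb))
  set L := L0 * eb with hLdef
  have hLL : L * L = L := by rw [hLdef, ((hebc L0)).mul_mul_mul_comm, hL0, heb2]
  have hLr : toK M L = a := by
    refine hinj ?_
    rw [hLdef, map_mul, hL0r, emb_mul, ← hea]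
    exact hzb
  have hLu : Commute (single u 1) (emb L : MonoidAlgebra (locRing M) G) := by
    rw [commute_single_iff]
    intro g
    by_cases hg : g ∈ CQ (Subgroup.zpowers u)
    · rw [(mem_cq_zpowers_iff.mp hg).symm.eq, mul_inv_cancel_right]
    · have hg' : u * g * u⁻¹ ∉ CQ (Subgroup.zpowers u) := fun h => hg
        ((cq_conj_iff (Subgroup.le_normalizer (Subgroup.mem_zpowers _)) g).mpr h)
      rw [suppIn_emb L g hg, suppIn_emb L _ hg']
  obtain ⟨c, hc, hcu, hcz⟩ := exists_lift_at hz hzu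
  rw [← hcz, liftVal_eq hM hu hc hcu, sval, sum_idem_mul_pElement_congr hM hu hc
    (by rw [← emb_mul, hLL]) hcu hLu (fun t ht => ?_) θ]
  swap
  · have htQ : t ∈ CQ (Subgroup.zpowers u) := mem_cq_zpowers_iff.mpr ht
    rw [← coeff_toK, hcz, ← coeff_trC z htQ, hea, show t = ((⟨t, htQ⟩ : CQ (Subgroup.zpowers u)) : G) from rfl,
      coeff_emb_coe, coeff_emb_coe, ← coeff_toK, hLr]
  rw [← Finset.sum_subset (Finset.subset_univ (Finset.univ.filter (fun t : G => t ∈ CQ (Subgroup.zpowers u))))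
      fun t _ ht => by rw [suppIn_emb L t (by simpa using ht), ZeroMemClass.coe_zero, zero_mul],
    Finset.sum_subtype (p := fun t => t ∈ CQ (Subgroup.zpowers u)) _ (fun t => by simp)]
  have hC : ∀ t : CQ (Subgroup.zpowers u), Commute (t : G) u := fun t => mem_cq_zpowers_iff.mp t.2
  set f := secFun u (CQ (Subgroup.zpowers u)) θ with hf
  have hfc : IsClassFunction (CQ (Subgroup.zpowers u)) f := isClassFunction_secFun hC θ
  -- only the block matters at `L`
  have hblock : evalGA f L = evalGA (blockPart b f) L := by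
    have hout : ∀ η : IrrCharacter (CQ (Subgroup.zpowers u)), η ∉ b → evalGA (η : CQ (Subgroup.zpowers u) → ℂ) L = 0 := fun η hη => by
      rw [idemVal_spec hM hLL hLr η, idemVal_eq_zero_of_not_mem hM (IsBlockUnion.of_isPBlock hb)
        haa (S := b) ?_ hη, Nat.cast_zero]
      rw [← hLr, ← map_mul]
      congr 1
      rw [hLdef, mul_assoc, heb2]
    have hlin : ∀ (F : CQ (Subgroup.zpowers u) → ℂ) (s : Finset (IrrCharacter (CQ (Subgroup.zpowers u)))) (k : IrrCharacter (CQ (Subgroup.zpowers u)) → ℂ),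
        (∀ t, F t = ∑ η ∈ s, k η * (η : CQ (Subgroup.zpowers u) → ℂ) t) →
          evalGA F L = ∑ η ∈ s, k η * evalGA (η : CQ (Subgroup.zpowers u) → ℂ) L := by
      intro F s k hF
      simp only [evalGA, hF, Finset.mul_sum]
      rw [Finset.sum_comm]
      exact Finset.sum_congr rfl fun η _ => Finset.sum_congr rfl fun t _ => by ring
    rw [hlin f Finset.univ (fun η => classInner f (η : CQ (Subgroup.zpowers u) → ℂ)) fun t => by
        conv_lhs => rw [Char.classFun_expand hfc]
        simp only [Finset.sum_apply, Pi.smul_apply, smul_eq_mul],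
      hlin (blockPart b f) (Finset.univ.filter (· ∈ b)) (fun η => classInner f (η : CQ (Subgroup.zpowers u) → ℂ))
        fun t => blockPart_eq b f t]
    exact (Finset.sum_subset (Finset.filter_subset _ _) fun η _ hη => by
      rw [hout η (by simpa using hη), mul_zero]).symm
  have hdd := rowCoeff_spec hM (pow_ne_zero k hM.1.ne_zero) hun d hd θ
  refine Eq.trans (b := evalGA f L) ?_ ?_
  · simp only [evalGA, coeff_emb_coe]
    rfl
  rw [hblock]
  have h0 := evalGA_eq_zero_of_regular hM hLL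
    (f := fun t => blockPart b f t - rowCoeff η₀ θ u b * (η₀ : CQ (Subgroup.zpowers u) → ℂ) t)
    (fun g x => by
      simp only [blockPart_eq, Char.isClassFunction_irr η₀ g x, Char.isClassFunction_irr _ g x])
    (fun t ht => sub_eq_zero.mpr (by rw [← hdd.2 t ht, hf, secPart_eq_blockPart b hC]))
  simp only [evalGA, mul_sub, Finset.sum_sub_distrib, sub_eq_zero] at h0
  rw [evalGA, h0, ← idemVal_spec hM hLL hLr, evalGA, Finset.mul_sum]
  exact Finset.sum_congr rfl fun t _ => by ring

/-- The contributions in the subsection. -/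
theorem secSum_eq_mul (hM : IsPModular p M) {u : G} {n : ℕ} (hn : n ≠ 0) (hun : u ^ n = 1)
    {b : Set (IrrCharacter (CQ (Subgroup.zpowers u)))} {η₀ : IrrCharacter (CQ (Subgroup.zpowers u))}
    (hrows : ∀ η ∈ b, ∃ d : ℕ, ∀ t : CQ (Subgroup.zpowers u), ¬ p ∣ orderOf t →
      (η : CQ (Subgroup.zpowers u) → ℂ) t = (d : ℂ) * (η₀ : CQ (Subgroup.zpowers u) → ℂ) t)
    [Fintype (IrrCharacter (CQ (Subgroup.zpowers u)))] (θ θ' : IrrCharacter G) :
    secSum p θ θ' u ⟨_, b⟩ = rowCoeff η₀ θ u b * conj (rowCoeff η₀ θ' u b) *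
      ((Nat.card (CQ (Subgroup.zpowers u)) : ℂ) * regInner p η₀ η₀) := by
  classical
  choose! d hd using hrows
  rw [card_mul_regInner, Finset.mul_sum, secSum]
  symm
  refine Finset.sum_bij (fun s _ => (s : G)) (fun s hs => ?_) (fun s _ s' _ h => Subtype.ext h)
    (fun s hs => ?_) fun s hs => ?_
  · exact Finset.mem_filter.mpr ⟨Finset.mem_univ _, s.2, by
      rw [Subgroup.orderOf_coe]; exact (Finset.mem_filter.mp hs).2⟩
  · obtain ⟨-, hs1, hs2⟩ := Finset.mem_filter.mp hs
    exact ⟨⟨s, hs1⟩, Finset.mem_filter.mpr ⟨Finset.mem_univ _, by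
      rwa [← Subgroup.orderOf_coe]⟩, rfl⟩
  · have hs' := (Finset.mem_filter.mp hs).2
    rw [(rowCoeff_spec hM hn hun d hd θ).2 s hs', (rowCoeff_spec hM hn hun d hd θ').2 s hs', map_mul,
      Char.irr_inv]
    ring

variable {B : Set (IrrCharacter G)} {P : Subgroup G} {e : Set (IrrCharacter (CQ P))}

/-- With abelian group and no stabilizer outside the centralizer the block is nilpotent. -/
theorem isNilpotentBlock_of_stab_le (hM : IsPModular p M) (hmax : IsMaximalBrauerPair p M B P e)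
    (hab : ∀ x ∈ P, ∀ y ∈ P, x * y = y * x)
    (hstab : ∀ g, g ∈ Subgroup.normalizer (P : Set G) → StabilizesBlock (CQ P) e g → g ∈ CQ P) :
    IsNilpotentBlock p M B := by
  classical
  have hB := hmax.1.2.1
  refine ⟨hB, fun S g hg y hyN hyS _ => ?_⟩
  obtain ⟨x, hx⟩ := exists_conj_subpairLE hM hmax hg
  set y' := x * y * x⁻¹ with hy'
  have hfix : cjP y (⟨S, g⟩ : BrauerPairIdx G) = ⟨S, g⟩ := cjP_eq_of_stabilizes hM hyN hg.1.2 hyS
  have hfix' : cjP y' (cjP x (⟨S, g⟩ : BrauerPairIdx G)) = cjP x ⟨S, g⟩ := by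
    rw [cjP_mul hM _ _ hg.1.2, show y' * x = x * y by rw [hy']; group, ← cjP_mul hM _ _ hg.1.2, hfix]
  have hT : ∀ t, t ∈ CQ P ↔ t ∈ Subgroup.normalizer (P : Set G) ∧ StabilizesBlock (CQ P) e t :=
    fun t => ⟨fun ht => ⟨centralizer_le_normalizer' P ht,
      (stabilizesBlock_iff hM (centralizer_le_normalizer' P ht) hmax.1.1.2).mpr
        (cinv_iff_cj.mp (cinv_eG e) t ht)⟩, fun h => hstab t h.1 h.2⟩
  refine Subgroup.mem_centralizer_iff.mpr fun r hr => ?_
  have he := hmax.1.1
  have hrP : x * r * x⁻¹ ∈ P := SubpairLE.le hx (Subgroup.mem_map.mpr ⟨r, hr, rfl⟩)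
  have hyr : y * r * y⁻¹ ∈ S := (Subgroup.mem_normalizer_iff.mp hyN r).mp hr
  have hyrP : x * (y * r * y⁻¹) * x⁻¹ ∈ P := SubpairLE.le hx (Subgroup.mem_map.mpr ⟨_, hyr, rfl⟩)
  set r₁ : P := ⟨x * r * x⁻¹, hrP⟩
  set r₂ : P := ⟨x * (y * r * y⁻¹) * x⁻¹, hyrP⟩
  have hyr' : y' * (r₁ : G) * y'⁻¹ = (r₂ : G) := by
    simp only [r₁, r₂, hy']
    group
  have hmem : r₂ ∈ fusClass hM he r₁ := by
    have hgx : IsBrauerPair p M (cjS x S) (conjBlock S x g) :=
      ((SubpairLE.isBrauerPairOf_iff hM hx).mp hmax.1).1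
    obtain ⟨f, hf, hfle⟩ := exists_subpairLE hM hgx (Subgroup.zpowers (r₁ : G))
      (Subgroup.zpowers_le.mpr (Subgroup.mem_map.mpr ⟨r, hr, rfl⟩))
    have hlow : lowPair hM he r₁ = ⟨_, f⟩ :=
      below_ext hM he (lowPair_below hM he r₁) (hfle.trans hx : SubpairLE p M _ f P e) rfl
    refine (mem_fusClass hM he).mpr ⟨y', hyr', ?_⟩
    have h1 : Below p M (cjS x S) (conjBlock S x g) (cjP y' (lowPair hM he r₁)) := by
      rw [hlow]
      exact below_conj hM hfle hfix'
    obtain ⟨f', hf'⟩ := exists_eq_pairMk (a := cjP y' (lowPair hM he r₁))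
      (Q := Subgroup.zpowers (r₂ : G)) (by
        show cjS y' (Subgroup.zpowers (r₁ : G)) = _
        rw [cjS_zpowers, hyr'])
    rw [hf'] at h1 ⊢
    exact below_ext hM he ((h1 : SubpairLE p M _ f' _ _).trans hx : SubpairLE p M _ f' P e)
      (lowPair_below hM he r₂) rfl
  obtain ⟨t, ht, htr⟩ := (AbelianDefect.mem_fusClass_iff hM hmax hab hT).mp hmem
  have h1 : (r₂ : G) = r₁ := by
    rw [← htr, ← Subgroup.mem_centralizer_iff.mp ht _ r₁.2, mul_inv_cancel_right]
  have h2 : y * r * y⁻¹ = r := by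
    have := mul_left_cancel (mul_right_cancel h1)
    exact this
  calc r * y = (y * r * y⁻¹) * y := by rw [h2]
    _ = y * r := by group

/-! ### Transport of values at idempotents -/

/-- Values at idempotents along an isomorphism. -/
theorem idemVal_equiv {A : Type u} {A' : Type u} [Group A] [Group A'] [Fintype A] [Fintype A']
    [DecidableEq A] [DecidableEq A'] [Fintype (IrrCharacter A)] [Fintype (IrrCharacter A')]
    (hM : IsPModular p M) (φ : A ≃* A') (η : IrrCharacter A) {a : MonoidAlgebra (ResField M) A}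
    (haa : a * a = a) {a' : MonoidAlgebra (ResField M) A'} (h : ∀ x, a'.coeff (φ x) = a.coeff x) :
    idemVal (irrEquiv φ η) a' = idemVal η a := by
  classical
  obtain ⟨c, hc, hca⟩ := exists_lift (M := M) haa
  set c' : MonoidAlgebra (locRing M) A' := gaOfFun fun x => c.coeff (φ.symm x) with hc'
  have hcoe : ∀ x, c'.coeff x = c.coeff (φ.symm x) := fun x => coeff_gaOfFun _ x
  have hc2 : c' * c' = c' := by
    refine ga_ext fun x => ?_
    rw [coeff_mul_sum, hcoe x]
    conv_rhs => rw [← hc, coeff_mul_sum]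
    refine Fintype.sum_equiv φ.symm.toEquiv _ _ fun y => ?_
    simp [hcoe]
  have hK : toK M c' = a' := ga_ext fun x => by
    rw [coeff_toK, hcoe, ← coeff_toK, hca, ← h (φ.symm x), MulEquiv.apply_symm_apply]
  have h1 := idemVal_spec hM hc2 hK (irrEquiv φ η)
  rw [evalGA, Fintype.sum_equiv φ.symm.toEquiv _ (fun y => (c.coeff y : ℂ) * (η : A → ℂ) y)
    fun x => by rw [hcoe, irrEquiv_apply]; rfl] at h1
  exact_mod_cast h1.symm.trans (idemVal_spec hM hc hca η)

end CfsgLib.Block.FreeInertial
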