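import Mathlib

/-!
# Integer vectors with inner products `e + [i = j]`

`m + 1` such vectors whose supports cover an index set: it has at most `e + m + 1` points, exactly so
for `e ≤ 3`, up to the exceptional shape with `e + 2` points and the one point case
(`lattice_bound`).
-/

open Finset

set_option autoImplicit false

namespace CfsgLib.Block.FreeInertial

variable {ι : Type*} [Fintype ι] [DecidableEq ι]

theorem sq_one_or_zero {u : ι → ℤ} (h : ∑ χ, u χ * u χ = 2) (χ : ι) :
    u χ = 0 ∨ u χ = 1 ∨ u χ = -1 := by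
  have h1 : u χ * u χ ≤ 2 := h ▸ Finset.single_le_sum (f := fun x => u x * u x)
    (fun x _ => mul_self_nonneg _) (Finset.mem_univ χ)
  have h2 : -1 ≤ u χ ∧ u χ ≤ 1 := ⟨by nlinarith, by nlinarith⟩
  omega

theorem exists_pair {u : ι → ℤ} (h : ∑ χ, u χ * u χ = 2) :
    ∃ a b, a ≠ b ∧ (u a = 1 ∨ u a = -1) ∧ (u b = 1 ∨ u b = -1) ∧
      ∀ c, c ≠ a → c ≠ b → u c = 0 := by
  have hS : ((Finset.univ.filter fun χ => u χ ≠ 0).card : ℤ) = 2 := by
    rw [← h, ← Finset.sum_boole]
    refine Finset.sum_congr rfl fun χ _ => ?_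
    rcases sq_one_or_zero h χ with e | e | e <;> simp [e]
  obtain ⟨a, b, hab, hS2⟩ := Finset.card_eq_two.mp (by exact_mod_cast hS)
  have hmem : ∀ c, u c ≠ 0 ↔ c = a ∨ c = b := fun c => by
    have := Finset.ext_iff.mp hS2 c
    simpa using this
  refine ⟨a, b, hab, ?_, ?_, fun c h1 h2 => not_not.mp fun hc => by
    rcases (hmem c).mp hc with e | e
    exacts [h1 e, h2 e]⟩
  · exact (sq_one_or_zero h a).resolve_left ((hmem a).mpr (Or.inl rfl))
  · exact (sq_one_or_zero h b).resolve_left ((hmem b).mpr (Or.inr rfl))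

theorem sum_pair {u : ι → ℤ} {a b : ι} (hab : a ≠ b) (h0 : ∀ c, c ≠ a → c ≠ b → u c = 0) (f : ι → ℤ) :
    ∑ χ, f χ * u χ = f a * u a + f b * u b := by
  rw [← Finset.sum_subset (Finset.subset_univ {a, b}) fun c _ hc => by
    simp only [Finset.mem_insert, Finset.mem_singleton, not_or] at hc
    rw [h0 c hc.1 hc.2, mul_zero], Finset.sum_pair hab]

/-- The bound. -/
theorem lattice_bound {m e : ℕ} (w : Fin (m + 1) → ι → ℤ)
    (hG : ∀ i j, ∑ χ, w i χ * w j χ = (e : ℤ) + if i = j then 1 else 0)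
    (hcov : ∀ χ, ∃ i, w i χ ≠ 0) :
    Fintype.card ι ≤ e + (m + 1) ∧ (e ≤ 3 → Fintype.card ι = e + (m + 1) ∨
      (Fintype.card ι = e + 2 ∧ 2 ≤ m ∧ m ≤ e + 1) ∨ (m = 0 ∧ Fintype.card ι = 1)) := by
  classical
  set s := Finset.univ.filter fun χ => w 0 χ ≠ 0 with hsdef
  have hs : ∀ χ, χ ∈ s ↔ w 0 χ ≠ 0 := fun χ => by simp [hsdef]
  have hw0 : ∑ χ ∈ s, w 0 χ * w 0 χ = (e : ℤ) + 1 := by
    rw [Finset.sum_subset (Finset.subset_univ s) fun χ _ h => by
      rw [not_not.mp (fun h' => h ((hs χ).mpr h')), mul_zero], hG 0 0, if_pos rfl]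
  have hone : ∀ χ ∈ s, 1 ≤ w 0 χ * w 0 χ := fun χ h => by
    have := mul_self_pos.mpr ((hs χ).mp h); omega
  have hscard : s.card ≤ e + 1 := by
    have h := Finset.sum_le_sum hone
    rw [hw0, Finset.sum_const, nsmul_eq_mul, mul_one] at h
    omega
  let u : Fin m → ι → ℤ := fun j χ => w j.succ χ - w 0 χ
  have hsne : ∀ j : Fin m, (0 : Fin (m + 1)) ≠ j.succ := fun j => (Fin.succ_ne_zero j).symm
  have huu : ∀ j l, ∑ χ, u j χ * u l χ = if j = l then 2 else 1 := by
    intro j l
    simp only [u, sub_mul, mul_sub, Finset.sum_sub_distrib, hG, if_neg (hsne l),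
      if_neg (Fin.succ_ne_zero j), Fin.succ_inj, if_true]
    split_ifs <;> ring
  have h0u : ∀ j, ∑ χ, w 0 χ * u j χ = -1 := by
    intro j
    simp only [u, mul_sub, Finset.sum_sub_distrib, hG, if_neg (hsne j), if_true]
    ring
  choose a b hab hua hub h0 using fun j => exists_pair (u := u j) (by rw [huu, if_pos rfl])
  have hprod : ∀ j, w 0 (a j) * u j (a j) + w 0 (b j) * u j (b j) = -1 := fun j =>
    (sum_pair (hab j) (h0 j) (w 0)).symm.trans (h0u j)
  -- one end outside
  have hend : ∀ j, ∃ c, ∀ d, d ∉ s → u j d ≠ 0 → d = c := by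
    intro j
    by_cases ha : a j ∈ s
    · exact ⟨b j, fun d hd hud => by_contra fun h => hud (h0 j d (fun e => hd (e ▸ ha)) h)⟩
    · refine ⟨a j, fun d hd hud => by_contra fun h => ?_⟩
      have hdb : d = b j := by_contra fun h' => hud (h0 j d h h')
      have h1 := hprod j
      rw [not_not.mp (fun h' => ha ((hs _).mpr h')),
        not_not.mp (fun h' => hd (hdb ▸ (hs _).mpr h'))] at h1
      simp at h1
  choose c hc using hend
  have hout : ∀ χ, χ ∈ s ∪ Finset.univ.image c := by
    intro χ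
    by_cases h : χ ∈ s
    · exact Finset.mem_union_left _ h
    obtain ⟨i, hi⟩ := hcov χ
    have h00 : w 0 χ = 0 := not_not.mp fun h' => h ((hs χ).mpr h')
    obtain ⟨j, rfl⟩ := Fin.exists_succ_eq.mpr (fun e : i = 0 => hi (e ▸ h00))
    refine Finset.mem_union_right _ (Finset.mem_image.mpr ⟨j, Finset.mem_univ _, (hc j χ h ?_).symm⟩)
    simpa [u, h00] using hi
  have hkall : Fintype.card ι = (s ∪ Finset.univ.image c).card := by
    rw [← Finset.card_univ, Finset.eq_univ_of_forall hout]
  have hbound : Fintype.card ι ≤ e + (m + 1) := by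
    rw [hkall]
    refine (Finset.card_union_le _ _).trans ?_
    have := (Finset.card_image_le (s := (Finset.univ : Finset (Fin m))) (f := c))
    rw [Finset.card_univ, Fintype.card_fin] at this
    omega
  refine ⟨hbound, fun he3 => ?_⟩
  by_cases hbig : ∃ χ ∈ s, 2 ≤ |w 0 χ|
  · obtain ⟨χ₁, hχ₁, h2⟩ := hbig
    have hsum := Finset.add_sum_erase s (fun χ => w 0 χ * w 0 χ) hχ₁
    rw [hw0] at hsum
    have h4 : 4 ≤ w 0 χ₁ * w 0 χ₁ := by rw [← abs_mul_abs_self]; nlinarith
    have hrest : ((s.erase χ₁).card : ℤ) ≤ ∑ χ ∈ s.erase χ₁, w 0 χ * w 0 χ := by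
      have h := Finset.sum_le_sum (s := s.erase χ₁) fun χ hχ => hone χ (Finset.mem_erase.mp hχ).2
      rwa [Finset.sum_const, nsmul_eq_mul, mul_one] at h
    have hs1 : s = {χ₁} := by
      refine Finset.eq_singleton_iff_unique_mem.mpr ⟨hχ₁, fun χ hχ => by_contra fun hne => ?_⟩
      have := Finset.card_pos.mpr ⟨χ, Finset.mem_erase.mpr ⟨hne, hχ⟩⟩
      omega
    have habs : w 0 χ₁ = 2 ∨ w 0 χ₁ = -2 := by
      have h5 : w 0 χ₁ * w 0 χ₁ ≤ 4 := by omega
      have : |w 0 χ₁| ≤ 2 := by rw [← abs_mul_abs_self] at h5; nlinarith [abs_nonneg (w 0 χ₁)]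
      rcases abs_choice (w 0 χ₁) with e | e <;> omega
    rcases Nat.eq_zero_or_pos m with hm | hm
    · refine Or.inr (Or.inr ⟨hm, ?_⟩)
      subst hm
      rw [hkall, hs1, Finset.univ_eq_empty, Finset.image_empty, Finset.union_empty,
        Finset.card_singleton]
    · exfalso
      have h1 := h0u ⟨0, hm⟩
      rw [Finset.sum_eq_single χ₁ (fun χ _ hne => by
        rw [not_not.mp (fun h' : ¬ w 0 χ = 0 => hne (by simpa [hs1] using (hs χ).mpr h')), zero_mul])
        (by simp)] at h1
      rcases habs with e | e <;> rw [e] at h1 <;> omega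
  push Not at hbig
  have hpm : ∀ χ ∈ s, w 0 χ = 1 ∨ w 0 χ = -1 := fun χ hχ => by
    have h1 := hbig χ hχ
    have h2 := (hs χ).mp hχ
    rw [abs_lt] at h1
    omega
  have hscard' : s.card = e + 1 := by
    rw [Finset.sum_congr rfl (g := fun _ => (1 : ℤ)) fun χ hχ => by
      rcases hpm χ hχ with e | e <;> simp [e], Finset.sum_const, nsmul_eq_mul, mul_one] at hw0
    omega
  -- the shape of a difference
  have hshape : ∀ j, ∃ a b, a ∈ s ∧ b ∉ s ∧ u j a = -w 0 a ∧ (u j b = 1 ∨ u j b = -1) ∧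
      ∀ d, d ≠ a → d ≠ b → u j d = 0 := by
    intro j
    have h1 := hprod j
    have hA := hua j
    have hB := hub j
    by_cases ha : a j ∈ s <;> by_cases hb : b j ∈ s
    · exfalso
      rcases hpm _ ha with e1 | e1 <;> rcases hpm _ hb with e2 | e2 <;>
        rcases hA with e3 | e3 <;> rcases hB with e4 | e4 <;> rw [e1, e2, e3, e4] at h1 <;> omega
    · refine ⟨a j, b j, ha, hb, ?_, hB, h0 j⟩
      rw [not_not.mp (fun h' => hb ((hs _).mpr h')), zero_mul, add_zero] at h1
      rcases hpm _ ha with e1 | e1 <;> rw [e1] at h1 ⊢ <;> omega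
    · refine ⟨b j, a j, hb, ha, ?_, hA, fun d h2 h3 => h0 j d h3 h2⟩
      rw [not_not.mp (fun h' => ha ((hs _).mpr h')), zero_mul, zero_add] at h1
      rcases hpm _ hb with e1 | e1 <;> rw [e1] at h1 ⊢ <;> omega
    · exfalso
      rw [not_not.mp (fun h' => ha ((hs _).mpr h')), not_not.mp (fun h' => hb ((hs _).mpr h'))] at h1
      simp at h1
  choose A B hA hB hAv hBv hABz using hshape
  have hAB : ∀ j l, A j ≠ B l := fun j l h => hB l (h ▸ hA j)
  have hpair : ∀ j l, j ≠ l → (A j = A l ↔ B j ≠ B l) := by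
    intro j l hne
    have h := huu j l
    rw [if_neg hne, Finset.sum_congr rfl fun χ _ => mul_comm (u j χ) (u l χ),
      sum_pair (hAB j j) (hABz j) (u l)] at h
    constructor
    · intro hA' hB'
      rw [hAv j, hA', hAv l, hB'] at h
      rcases hpm _ (hA l) with e1 | e1 <;> rcases hBv l with e2 | e2 <;>
        rcases (hB' ▸ hBv j : u j (B l) = 1 ∨ u j (B l) = -1) with e3 | e3 <;>
        rw [e1, e2, e3] at h <;> omega
    · intro hB'
      by_contra hA'
      rw [hABz l (B j) (fun h => hAB l j h.symm) hB', zero_mul, add_zero,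
        hABz l (A j) hA' (hAB j l), zero_mul] at h
      omega
  have himg : s ∪ Finset.univ.image c = s ∪ Finset.univ.image B := by
    refine Finset.Subset.antisymm (fun χ _ => ?_) fun χ _ => hout χ
    by_cases h : χ ∈ s
    · exact Finset.mem_union_left _ h
    obtain ⟨i, hi⟩ := hcov χ
    have h00 : w 0 χ = 0 := not_not.mp fun h' => h ((hs χ).mpr h')
    obtain ⟨j, rfl⟩ := Fin.exists_succ_eq.mpr (fun e : i = 0 => hi (e ▸ h00))
    refine Finset.mem_union_right _ (Finset.mem_image.mpr ⟨j, Finset.mem_univ _, ?_⟩)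
    by_contra hne
    exact hi (by
      have := hABz j χ (fun e => h (e ▸ hA j)) (Ne.symm hne)
      simpa [u, h00] using this)
  have hcardB : Fintype.card ι = e + 1 + (Finset.univ.image B).card := by
    rw [hkall, himg, Finset.card_union_of_disjoint (Finset.disjoint_right.mpr fun χ hχ => by
      obtain ⟨j, -, rfl⟩ := Finset.mem_image.mp hχ
      exact hB j), hscard']
  by_cases hinj : Function.Injective B
  · left
    rw [hcardB, Finset.card_image_of_injective _ hinj, Finset.card_univ, Fintype.card_fin]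
    ring
  · right; left
    obtain ⟨j, l, hjl, hne⟩ := Function.not_injective_iff.mp hinj
    have hAne : A j ≠ A l := fun h => (hpair j l hne).mp h hjl
    have hall : ∀ r, B r = B j := by
      intro r
      by_contra hr
      have hrj : r ≠ j := fun h => hr (h ▸ rfl)
      have hrl : r ≠ l := fun h => hr (h ▸ hjl.symm)
      exact hAne (((hpair r j hrj).mpr hr).symm.trans ((hpair r l hrl).mpr (hjl ▸ hr)))
    have hAinj : Function.Injective A := fun r r' h => by_contra fun hrr =>
      (hpair r r' hrr).mp h ((hall r).trans (hall r').symm)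
    have hm1 := Finset.card_le_card_of_injOn A (s := (Finset.univ : Finset (Fin m))) (t := s)
      (fun r _ => hA r) hAinj.injOn
    rw [Finset.card_univ, Fintype.card_fin, hscard'] at hm1
    refine ⟨?_, ?_, hm1⟩
    · rw [hcardB, show Finset.univ.image B = {B j} from Finset.eq_singleton_iff_unique_mem.mpr
        ⟨Finset.mem_image_of_mem _ (Finset.mem_univ _), fun x hx => by
          obtain ⟨r, -, rfl⟩ := Finset.mem_image.mp hx
          exact hall r⟩, Finset.card_singleton]
    · by_contra h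
      exact hne (Fin.ext (by omega))

end CfsgLib.Block.FreeInertial
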