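import Cfsg.Agent.Lib.Block.FreeInertial.Vectors
import Cfsg.Agent.Lib.Block.FreeInertial.Lattice

/-!
# The numbers of members of a block with free inertial action

`k = l + (|P| - 1) / e` (`FreeFrame.card_eq`), `k ≤ e + (|P| - 1) / e`, and equality for `e ≤ 3` unless
the defect group is cyclic (`FreeFrame.counts`).
-/

open Finset MonoidAlgebra
open scoped ComplexConjugate

set_option autoImplicit false
set_option linter.unusedSectionVars false

namespace CfsgLib.Block.FreeInertial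

open Cfsg CfsgLib CfsgLib.Block CfsgLib.Block.CyclicDefect CfsgLib.Block.AbelianDefect
open scoped Pair

universe u

attribute [-instance] MonoidHom.instPow

variable {p : ℕ} {M : Ideal AlgInt} [M.IsMaximal]
variable {G : Type u} [Group G] [Fintype G] [DecidableEq G] [Fintype (IrrCharacter G)]

theorem one_le_blockRank (hp : p ≠ 1) {B : Set (IrrCharacter G)} (hne : B.Nonempty) :
    1 ≤ blockRank p B := by
  obtain ⟨χ, hχ⟩ := hne
  rw [blockRank, Nat.one_le_iff_ne_zero]
  intro h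
  rw [Submodule.finrank_eq_zero, Submodule.span_eq_bot] at h
  have h1 := congrFun (h _ ⟨χ, hχ, rfl⟩) 1
  simp only [pRegularPart, IsPRegular, orderOf_one, Nat.dvd_one, hp, not_false_iff, if_true,
    Pi.zero_apply] at h1
  exact Char.irr_one_ne_zero χ h1

namespace FreeFrame

variable (F : FreeFrame p M G) (T : Subgroup G)
  (hT : ∀ g, g ∈ T ↔ g ∈ Subgroup.normalizer (F.P : Set G) ∧ StabilizesBlock (CQ F.P) F.e g)
include hT

theorem cq_le : CQ F.P ≤ T := fun c hc => (hT c).mpr ⟨centralizer_le_normalizer' _ hc,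
  (stabilizesBlock_iff F.hM (centralizer_le_normalizer' _ hc) F.hmax.1.1.2).mpr
    (cinv_iff_cj.mp (cinv_eG F.e) c hc)⟩

theorem card_T : Nat.card T = (CQ F.P).relIndex T * Nat.card (CQ F.P) := by
  rw [← Nat.card_congr (Subgroup.subgroupOfEquivOfLe (F.cq_le T hT)).toEquiv]
  exact (Subgroup.index_mul_card _).symm

open scoped Classical in
/-- The class of an element under `T`. -/
theorem card_fusClass {y : F.P} (hy : y ≠ 1) :
    (fusClass F.hM F.hmax.1.1 y).card = (CQ F.P).relIndex T := by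
  letI := Fintype.ofFinite T
  let f : T → F.P := fun t => conjP F.P ⟨t, ((hT t).mp t.2).1⟩ y
  have him : Finset.univ.image f = fusClass F.hM F.hmax.1.1 y := by
    ext z
    rw [AbelianDefect.mem_fusClass_iff F.hM F.hmax F.hab hT, Finset.mem_image]
    exact ⟨fun ⟨t, _, ht⟩ => ⟨t, t.2, congrArg Subtype.val ht⟩,
      fun ⟨t, ht, htz⟩ => ⟨⟨t, ht⟩, Finset.mem_univ _, Subtype.ext htz⟩⟩
  have hfib : ∀ z ∈ Finset.univ.image f,
      (Finset.univ.filter fun t => f t = z).card = Nat.card (CQ F.P) := by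
    intro z hz
    obtain ⟨t₀, -, rfl⟩ := Finset.mem_image.mp hz
    rw [← Fintype.card_subtype, ← Nat.card_eq_fintype_card]
    refine (Nat.card_congr
      { toFun := fun c : CQ F.P => (⟨⟨(t₀ : G) * c, T.mul_mem t₀.2 (F.cq_le T hT c.2)⟩, Subtype.ext (by
          show (t₀ : G) * (c : G) * (y : G) * ((t₀ : G) * (c : G))⁻¹ = (t₀ : G) * y * (t₀ : G)⁻¹
          rw [mul_inv_rev, show (t₀ : G) * (c : G) * (y : G) * ((c : G)⁻¹ * (t₀ : G)⁻¹) =
            (t₀ : G) * ((c : G) * (y : G) * (c : G)⁻¹) * (t₀ : G)⁻¹ by group,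
            ← Subgroup.mem_centralizer_iff.mp c.2 _ y.2, mul_inv_cancel_right])⟩ :
          {t : T // f t = f t₀})
        invFun := fun t => ⟨(t₀ : G)⁻¹ * (t.1 : G), by
          have hmem : (t₀ : G)⁻¹ * (t.1 : G) ∈ T := T.mul_mem (T.inv_mem t₀.2) t.1.2
          refine F.hfree _ ((hT _).mp hmem).1 ((hT _).mp hmem).2 y y.2
            (fun h => hy (Subtype.ext h)) ?_
          have h1 : (t.1 : G) * (y : G) * (t.1 : G)⁻¹ = (t₀ : G) * y * (t₀ : G)⁻¹ :=
            congrArg Subtype.val t.2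
          show (t₀ : G)⁻¹ * (t.1 : G) * (y : G) = (y : G) * ((t₀ : G)⁻¹ * (t.1 : G))
          rw [show (t₀ : G)⁻¹ * (t.1 : G) * (y : G) =
            (t₀ : G)⁻¹ * ((t.1 : G) * (y : G) * (t.1 : G)⁻¹) * (t.1 : G) by group, h1]
          group⟩
        left_inv := fun c => Subtype.ext (by simp)
        right_inv := fun t => Subtype.ext (Subtype.ext (by simp)) }).symm
  have h := Finset.card_eq_sum_card_image f (Finset.univ : Finset T)
  rw [Finset.sum_congr rfl hfib, Finset.sum_const, smul_eq_mul, Finset.card_univ,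
    ← Nat.card_eq_fintype_card, him, F.card_T T hT] at h
  exact (Nat.eq_of_mul_eq_mul_right Nat.card_pos h).symm

open scoped Classical in
/-- The number of members. -/
theorem card_eq :
    Nat.card F.B * (CQ F.P).relIndex T =
      blockRank p F.B * (CQ F.P).relIndex T + (Nat.card F.P - 1) := by
  letI := Fintype.ofFinite F.P
  set e := (CQ F.P).relIndex T with he
  have he0 : (e : ℂ) ≠ 0 := Nat.cast_ne_zero.mpr Subgroup.index_ne_zero_of_finite
  have h := card_eq_sum_wt F.hM F.hmax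
  have h1 : wt F.hM F.hmax.1.1 (1 : F.P) = (blockRank p F.B : ℂ) := by
    obtain ⟨b, hlow, hle⟩ := F.exists_block 1
    rw [wt, hlow, AbelianDefect.rank_below_of_central F.hM F.hmax hle (eq_top_iff.mpr fun t _ =>
      mem_cq_zpowers_iff.mpr (by rw [OneMemClass.coe_one]; exact Commute.one_right t)),
      show fusClass F.hM F.hmax.1.1 (1 : F.P) = {1} by
        ext z
        rw [AbelianDefect.mem_fusClass_iff F.hM F.hmax F.hab hT, Finset.mem_singleton]
        constructor
        · rintro ⟨t, -, ht⟩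
          exact Subtype.ext (by simpa using ht.symm)
        · rintro rfl
          exact ⟨1, T.one_mem, by simp⟩, Finset.card_singleton, Nat.cast_one, div_one]
  have hy : ∀ y ∈ Finset.univ.erase (1 : F.P), wt F.hM F.hmax.1.1 y = 1 / (e : ℂ) := by
    intro y hy
    have hy1 := (Finset.mem_erase.mp hy).1
    obtain ⟨b, hlow, hle⟩ := F.exists_block y
    have := Fintype.ofFinite (IrrCharacter (CQ (Subgroup.zpowers (y : G))))
    rw [wt, F.card_fusClass T hT hy1, hlow, (blockRank_eq_one_of_unitRow F.hM.1.ne_one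
      (isNilpotentBlock_unitRow F.hM (F.nilpotent_below (F.zpowers_ne_bot hy1) hle))).1, Nat.cast_one]
  rw [← Finset.add_sum_erase _ _ (Finset.mem_univ (1 : F.P)), h1, Finset.sum_congr rfl hy,
    Finset.sum_const, Finset.card_erase_of_mem (Finset.mem_univ _), Finset.card_univ,
    ← Nat.card_eq_fintype_card, nsmul_eq_mul] at h
  rw [← @Nat.cast_inj ℂ, Nat.cast_mul, h, Nat.cast_add, Nat.cast_mul]
  field_simp

open scoped Classical in
/-- The orbit representatives. -/
theorem exists_orbits :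
    ∃ (n : ℕ) (v : Fin n → IrrCharacter G → ℤ),
      n * (CQ F.P).relIndex T = Nat.card F.P - 1 ∧
      (∀ i j, ∑ χ ∈ Finset.univ.filter (· ∈ F.B), v i χ * v j χ =
        ((CQ F.P).relIndex T : ℤ) + if i = j then 1 else 0) ∧
      ((∃ y : F.P, y ≠ 1) → ∀ χ ∈ F.B, ∃ i, v i χ ≠ 0) ∧
      ∃ q : {ψ : F.P →* ℂˣ // ψ ≠ 1} → Fin n, Function.Surjective q ∧
        ∀ [Fintype (F.P →* ℂˣ)], ∀ χ ∈ F.B, ∀ y : F.P, y ≠ 1 →
          F.gv χ y = ∑ ψ : {ψ : F.P →* ℂˣ // ψ ≠ 1}, (v (q ψ) χ : ℂ) * (ψ.1 y : ℂ) := by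
  letI : CommGroup F.P := { mul_comm := fun a b => Subtype.ext (F.hab a a.2 b b.2) }
  letI := Fintype.ofFinite T
  letI := Fintype.ofFinite F.P
  letI := Fintype.ofFinite (F.P →* ℂˣ)
  haveI := F.factPrime
  obtain ⟨v, hv, hcov, hexp⟩ := F.exists_vectors T hT
  let N := {ψ : F.P →* ℂˣ // ψ ≠ 1}
  let cT : T → (F.P →* F.P) := fun t => conjP F.P ⟨t, ((hT t).mp t.2).1⟩
  have hcomp : ∀ t t' : T, cT (t * t') = (cT t).comp (cT t') := fun t t' => MonoidHom.ext fun y =>
    Subtype.ext (by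
      show ((t * t' : T) : G) * (y : G) * ((t * t' : T) : G)⁻¹ =
        (t : G) * ((t' : G) * (y : G) * (t' : G)⁻¹) * (t : G)⁻¹
      rw [Subgroup.coe_mul]; group)
  have hone : cT 1 = MonoidHom.id F.P := MonoidHom.ext fun y => Subtype.ext (by simp [cT, conjP])
  let Sd : Setoid N :=
    { r := fun ψ φ => ∃ t : T, φ.1.comp (cT t) = ψ.1
      iseqv :=
        { refl := fun ψ => ⟨1, by rw [hone, MonoidHom.comp_id]⟩
          symm := fun {ψ φ} ⟨t, ht⟩ => ⟨t⁻¹, by
            rw [← ht, MonoidHom.comp_assoc, ← hcomp, mul_inv_cancel, hone, MonoidHom.comp_id]⟩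
          trans := fun {ψ φ θ} ⟨t, ht⟩ ⟨t', ht'⟩ => ⟨t' * t, by
            rw [hcomp, ← MonoidHom.comp_assoc, ht', ht]⟩ } }
  -- the stabilizer of a character
  have hstab : ∀ φ : N, ∀ t : T, φ.1.comp (cT t) = φ.1 → (t : G) ∈ CQ F.P := by
    intro φ t ht
    by_contra hC
    refine φ.2 (MonoidHom.ext fun z => ?_)
    let d : F.P →* F.P :=
      { toFun := fun y => y⁻¹ * cT t y
        map_one' := by simp
        map_mul' := fun a b => by rw [map_mul, mul_inv]; exact mul_mul_mul_comm _ _ _ _ }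
    have hd : Function.Injective d := (injective_iff_map_eq_one d).mpr fun y hy =>
      by_contra fun hy1 => hC (by
        have h1 : cT t y = y := (inv_mul_eq_one.mp hy).symm
        refine F.hfree _ ((hT _).mp t.2).1 ((hT _).mp t.2).2 y y.2 (fun h => hy1 (Subtype.ext h)) ?_
        have h2 : (t : G) * (y : G) * (t : G)⁻¹ = (y : G) := congrArg Subtype.val h1
        show (t : G) * (y : G) = (y : G) * (t : G)
        conv_rhs => rw [← h2, inv_mul_cancel_right])
    obtain ⟨y, rfl⟩ := Finite.injective_iff_surjective.mp hd z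
    show φ.1 (y⁻¹ * cT t y) = 1
    rw [map_mul, map_inv, show φ.1 (cT t y) = φ.1 y from DFunLike.congr_fun ht y, inv_mul_cancel]
  have hfix : ∀ φ : N, ∀ t : T, (t : G) ∈ CQ F.P → φ.1.comp (cT t) = φ.1 := fun φ t ht =>
    MonoidHom.ext fun y => congrArg φ.1 (Subtype.ext (by
      show (t : G) * (y : G) * (t : G)⁻¹ = (y : G)
      rw [← Subgroup.mem_centralizer_iff.mp ht _ y.2, mul_inv_cancel_right]))
  have hnum : ∀ ψ φ : N, (Nat.card {t : T // φ.1.comp (cT t) = ψ.1} : ℤ) =
      if Sd.r ψ φ then (Nat.card (CQ F.P) : ℤ) else 0 := by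
    intro ψ φ
    split_ifs with h
    · obtain ⟨t₀, ht₀⟩ := h
      rw [Nat.cast_inj]
      refine (Nat.card_congr
        { toFun := fun c : CQ F.P => (⟨⟨(c : G), F.cq_le T hT c.2⟩ * t₀, by
            rw [hcomp, ← MonoidHom.comp_assoc, hfix φ _ c.2, ht₀]⟩ :
            {t : T // φ.1.comp (cT t) = ψ.1})
          invFun := fun t => ⟨((t.1 * t₀⁻¹ : T) : G), hstab φ _ (by
            rw [hcomp, ← MonoidHom.comp_assoc, t.2, ← ht₀, MonoidHom.comp_assoc, ← hcomp,
              mul_inv_cancel, hone, MonoidHom.comp_id])⟩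
          left_inv := fun c => Subtype.ext (by simp)
          right_inv := fun t => Subtype.ext (Subtype.ext (by simp)) }).symm
    · rw [Nat.cast_eq_zero, Nat.card_eq_zero]
      exact Or.inl ⟨fun t => h ⟨t.1, t.2⟩⟩
  have hC0 : (Nat.card (CQ F.P) : ℤ) ≠ 0 := Nat.cast_ne_zero.mpr Nat.card_pos.ne'
  have hgram : ∀ ψ φ : N, ∑ χ ∈ Finset.univ.filter (· ∈ F.B), v ψ.1 χ * v φ.1 χ =
      ((CQ F.P).relIndex T : ℤ) + if Sd.r ψ φ then 1 else 0 := fun ψ φ => by
    have h := hv ψ.1 φ.1 ψ.2 φ.2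
    rw [hnum, F.card_T T hT] at h
    refine mul_left_cancel₀ hC0 (h.trans ?_)
    split_ifs <;> push_cast <;> ring
  have hsame : ∀ ψ φ : N, Sd.r ψ φ → ∀ χ ∈ F.B, v ψ.1 χ = v φ.1 χ := by
    intro ψ φ h χ hχ
    have h0 : ∑ θ ∈ Finset.univ.filter (· ∈ F.B), (v ψ.1 θ - v φ.1 θ) * (v ψ.1 θ - v φ.1 θ) = 0 := by
      simp only [sub_mul, mul_sub, Finset.sum_sub_distrib, hgram]
      rw [if_pos (Sd.iseqv.refl ψ), if_pos (Sd.iseqv.refl φ), if_pos h, if_pos (Sd.iseqv.symm h)]
      ring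
    have := (Finset.sum_eq_zero_iff_of_nonneg fun θ _ => mul_self_nonneg _).mp h0 χ
      (Finset.mem_filter.mpr ⟨Finset.mem_univ _, hχ⟩)
    exact sub_eq_zero.mp (mul_self_eq_zero.mp this)
  letI := Fintype.ofFinite (Quotient Sd)
  let eq := (Fintype.equivFin (Quotient Sd)).symm
  refine ⟨Fintype.card (Quotient Sd), fun i => v (eq i).out.1, ?_, fun i j => ?_, fun hy χ hχ => ?_,
    fun ψ => eq.symm ⟦ψ⟧, fun i => ⟨(eq i).out, by show eq.symm ⟦(eq i).out⟧ = i; rw [Quotient.out_eq, eq.symm_apply_apply]⟩,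
    fun {instD} χ hχ y hy => ?_⟩
  · have hcard : Fintype.card N = Nat.card F.P - 1 := by
      rw [Fintype.card_subtype_compl, Fintype.card_subtype_eq, ← Nat.card_eq_fintype_card]
      obtain ⟨eq'⟩ := CommGroup.monoidHom_mulEquiv_of_hasEnoughRootsOfUnity F.P ℂ
      rw [Nat.card_congr eq'.toEquiv]
    have hfib : ∀ q : Quotient Sd, (Finset.univ.filter fun ψ : N => Quotient.mk Sd ψ = q).card =
        (CQ F.P).relIndex T := by
      intro q
      induction q using Quotient.inductionOn with | _ φ => ?_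
      let g : T → N := fun t => ⟨φ.1.comp (cT t), fun h => φ.2 (MonoidHom.ext fun z => by
        obtain ⟨y, hy⟩ := Finite.injective_iff_surjective.mp
          (conjP_inj F.P ⟨t, ((hT t).mp t.2).1⟩) z
        rw [← hy]
        exact DFunLike.congr_fun h y)⟩
      have him : Finset.univ.image g = Finset.univ.filter fun ψ : N => Quotient.mk Sd ψ = ⟦φ⟧ := by
        ext ψ
        rw [Finset.mem_image, Finset.mem_filter, Quotient.eq]
        exact ⟨fun ⟨t, _, ht⟩ => ⟨Finset.mem_univ _, ⟨t, congrArg Subtype.val ht⟩⟩,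
          fun ⟨_, ⟨t, ht⟩⟩ => ⟨t, Finset.mem_univ _, Subtype.ext ht⟩⟩
      have h := Finset.card_eq_sum_card_image g (Finset.univ : Finset T)
      rw [Finset.sum_congr rfl (g := fun _ => Nat.card (CQ F.P)) fun ψ hψ => by
          have h1 := hnum ψ φ
          rw [him, Finset.mem_filter, Quotient.eq] at hψ
          rw [if_pos hψ.2, Nat.cast_inj] at h1
          rw [← h1, ← Fintype.card_subtype, ← Nat.card_eq_fintype_card]
          exact Nat.card_congr (Equiv.subtypeEquivRight fun t => Subtype.ext_iff),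
        Finset.sum_const, smul_eq_mul, Finset.card_univ, ← Nat.card_eq_fintype_card,
        F.card_T T hT, him] at h
      exact (Nat.eq_of_mul_eq_mul_right Nat.card_pos h).symm
    rw [← hcard, ← Finset.card_univ (α := N),
      Finset.card_eq_sum_card_fiberwise (f := Quotient.mk Sd) (t := Finset.univ) fun _ _ =>
        Finset.mem_univ _, Finset.sum_congr rfl fun q _ => hfib q, Finset.sum_const, smul_eq_mul,
      Finset.card_univ]
  · rw [hgram]
    congr 1
    refine if_congr ⟨fun h => eq.injective ?_, fun h => h ▸ Sd.iseqv.refl _⟩ rfl rfl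
    rw [← Quotient.out_eq (eq i), ← Quotient.out_eq (eq j)]
    exact Quotient.sound h
  · obtain ⟨ψ, hψ, hne⟩ := hcov χ hχ hy
    refine ⟨eq.symm ⟦⟨ψ, hψ⟩⟧, ?_⟩
    dsimp only
    rw [eq.apply_symm_apply]
    rwa [hsame _ ⟨ψ, hψ⟩ (Quotient.exact (Quotient.out_eq _)) χ hχ]
  · rw [hexp χ y hy, Finset.sum_ite, Finset.sum_const_zero, zero_add,
      Finset.sum_subtype (p := fun ψ : F.P →* ℂˣ => ψ ≠ 1) _ (fun ψ => by simp) fun ψ => (v ψ χ : ℂ) * (ψ y : ℂ)]
    refine Finset.sum_congr rfl fun ψ _ => ?_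
    dsimp only
    rw [eq.apply_symm_apply, hsame _ ψ (Quotient.exact (Quotient.out_eq _)) χ hχ]

open scoped Classical in
/-- The counts. -/
theorem counts (hP1 : F.P ≠ ⊥) :
    (CQ F.P).relIndex T ∣ Nat.card F.P - 1 ∧
    Nat.card F.B = blockRank p F.B + (Nat.card F.P - 1) / (CQ F.P).relIndex T ∧
    blockRank p F.B ≤ (CQ F.P).relIndex T ∧
    ((CQ F.P).relIndex T ≤ 3 → blockRank p F.B = (CQ F.P).relIndex T ∨ IsCyclic F.P) := by
  haveI := F.factPrime
  set e := (CQ F.P).relIndex T with he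
  have he1 : 0 < e := Nat.pos_of_ne_zero Subgroup.index_ne_zero_of_finite
  obtain ⟨n, v, hn, hv, hcov, -⟩ := F.exists_orbits T hT
  rw [← he] at hn
  obtain ⟨y, hy⟩ : ∃ y : F.P, y ≠ 1 := by
    obtain ⟨y, hy⟩ := F.P.ne_bot_iff_exists_ne_one.mp hP1
    exact ⟨y, hy⟩
  have hP2 : 2 ≤ Nat.card F.P := by
    have : Nontrivial F.P := ⟨y, 1, hy⟩
    exact Finite.one_lt_card
  have hdiv : (Nat.card F.P - 1) / e = n := by rw [← hn, Nat.mul_div_cancel _ he1]
  have hk : Nat.card F.B = blockRank p F.B + n := by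
    have h := F.card_eq T hT
    rw [← hn, ← he, ← add_mul] at h
    exact Nat.eq_of_mul_eq_mul_right he1 h
  have hl : 1 ≤ blockRank p F.B := one_le_blockRank F.hM.1.ne_one ⟨F.χ₀, F.hχ₀⟩
  obtain ⟨m, rfl⟩ : ∃ m, n = m + 1 := ⟨n - 1, by
    rcases Nat.eq_zero_or_pos n with h | h
    · rw [h, zero_mul] at hn; omega
    · omega⟩
  let w : Fin (m + 1) → F.B → ℤ := fun i χ => v i χ
  have hG : ∀ i j, ∑ χ : F.B, w i χ * w j χ = (e : ℤ) + if i = j then 1 else 0 := fun i j => by
    rw [← hv i j]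
    exact (Finset.sum_subtype (p := (· ∈ F.B)) _ (by simp) (fun χ => v i χ * v j χ)).symm
  obtain ⟨hbound, hsmall⟩ := lattice_bound w hG fun χ => hcov ⟨y, hy⟩ χ χ.2
  rw [← Nat.card_eq_fintype_card] at hbound hsmall
  refine ⟨⟨m + 1, by rw [← hn, mul_comm]⟩, by rw [hdiv, hk], by omega, fun he3 => ?_⟩
  rcases hsmall he3 with h | ⟨h, h2, h3⟩ | ⟨h1, h2⟩
  · left; omega
  · -- the defect group has prime order
    right
    obtain ⟨k, hk'⟩ := IsPGroup.iff_card.mp F.isPGroup_P
    have hm : m + 1 ≤ e + 1 := by omega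
    have hcard : Nat.card F.P = 7 ∨ Nat.card F.P = 10 ∨ Nat.card F.P = 13 := by
      have h4 : 2 ≤ e := by omega
      have h5 : m + 1 = 3 ∨ m + 1 = 4 := by omega
      have h6 : Nat.card F.P = (m + 1) * e + 1 := by omega
      interval_cases e <;> rcases h5 with h5 | h5 <;> rw [h5] at h6 <;> omega
    have hprime : (Nat.card F.P).Prime := by
      rcases hcard with h | h | h
      · rw [h]; norm_num
      · exfalso
        rw [h] at hk'
        have h2 : 2 ∣ p ^ k := hk' ▸ by norm_num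
        have h5 : 5 ∣ p ^ k := hk' ▸ by norm_num
        have e2 := (Nat.prime_dvd_prime_iff_eq Nat.prime_two F.hM.1).mp
          (Nat.prime_two.dvd_of_dvd_pow h2)
        have e5 := (Nat.prime_dvd_prime_iff_eq (by norm_num) F.hM.1).mp
          ((by norm_num : Nat.Prime 5).dvd_of_dvd_pow h5)
        omega
      · rw [h]; norm_num
    haveI : Fact (Nat.card F.P).Prime := ⟨hprime⟩
    exact isCyclic_of_prime_card rfl
  · omega

end FreeFrame

end CfsgLib.Block.FreeInertial
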