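import Cfsg.Agent.Lib.Block.FreeInertial.SignGlue
import Cfsg.Agent.Lib.Char.Virtual
import Cfsg.Agent.Lib.Char.TwoNonzero

/-!
# Integrality of the Fourier sums of a quotient of generalized characters

`f` a generalized character of an abelian `p`-group, `U` an integer valued one prime to `p` with
`f / U` integral off the identity: the Fourier sums of `f / U` off the identity, less their value
at the trivial character, are multiples of the order (`exists_int_quot`).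
-/

open Finset
open scoped ComplexConjugate

set_option autoImplicit false
set_option linter.unusedSectionVars false

namespace CfsgLib.Block.FreeInertial

open Cfsg CfsgLib CfsgLib.Block

universe u

attribute [-instance] MonoidHom.instPow

variable {A : Type u} [CommGroup A] [Fintype A]

theorem gen_expand {f : A → ℂ} (hf : IsGen f) [Fintype (A →* ℂˣ)] :
    ∃ z : (A →* ℂˣ) → ℤ, ∀ w : A, f w = ∑ ψ : A →* ℂˣ, (z ψ : ℂ) * (ψ w : ℂ) := by
  choose z hz using hf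
  refine ⟨z, fun w => mul_left_cancel₀
    (Nat.cast_ne_zero.mpr Nat.card_pos.ne' : (Nat.card A : ℂ) ≠ 0) ?_⟩
  rw [← fou_inv_sum f w, Finset.mul_sum]
  exact Finset.sum_congr rfl fun ψ _ => by rw [hz, mul_assoc]

theorem IsGen.mul {f g : A → ℂ} (hf : IsGen f) (hg : IsGen g) : IsGen (f * g) :=
  isGen_iff.mpr (Char.isGeneralizedCharacter_mul (isGen_iff.mp hf) (isGen_iff.mp hg))

theorem IsGen.pow {f : A → ℂ} (hf : IsGen f) : ∀ n : ℕ, 0 < n → IsGen (f ^ n) := by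
  intro n hn
  induction n with
  | zero => exact absurd hn (lt_irrefl 0)
  | succ n ih =>
    rcases Nat.eq_zero_or_pos n with rfl | h
    · rwa [pow_one]
    · rw [pow_succ]
      exact (ih h).mul hf

theorem isIntegral_gen {f : A → ℂ} (hf : IsGen f) (w : A) : IsIntegral ℤ (f w) := by
  classical
  have := Fintype.ofFinite (A →* ℂˣ)
  obtain ⟨z, hz⟩ := gen_expand hf
  rw [hz]
  refine IsIntegral.sum _ fun ψ _ => (isIntegral_algebraMap (R := ℤ) (x := z ψ)).mul ?_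
  refine IsIntegral.of_pow (n := Nat.card A) Nat.card_pos ?_
  rw [← Units.val_pow_eq_pow_val, ← map_pow, pow_card_eq_one', map_one, Units.val_one]
  exact isIntegral_one

theorem mem_cycInt_hom (ψ : A →* ℂˣ) {n : ℕ} (hn : Nat.card A ∣ n) (w : A) :
    (ψ w : ℂ) ∈ cycInt n := by
  refine mem_cycInt_of_pow ?_
  obtain ⟨c, rfl⟩ := hn
  rw [pow_mul, ← Units.val_pow_eq_pow_val, ← map_pow, pow_card_eq_one', map_one, Units.val_one,
    one_pow]

variable {p : ℕ} [hp : Fact p.Prime]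

omit [CommGroup A] [Fintype A] in
/-- A fixed cyclotomic number with a cyclotomic integral multiple and integral is an integer. -/
theorem exists_int_of_fixed {k N : ℕ} (hN : N ≠ 0) {x : ℂ} (hx : IsIntegral ℤ x)
    (hmem : (N : ℂ) * x ∈ cycInt (p ^ (k + 1))) (hfix : ∀ a : ℕ, a.Coprime p → pAut p k a x = x) :
    ∃ z : ℤ, x = (z : ℂ) := by
  classical
  obtain ⟨a, ha⟩ := exists_int_coeff hmem
  have hroot : ∀ j : ℕ, ∃ n : ℤ, ptr p k (pRoot p k ^ j) = (n : ℂ) := fun j => by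
    refine ⟨(p : ℤ) * (if pRoot p k ^ j = 1 then 1 else 0) - if (pRoot p k ^ j) ^ p = 1 then 1 else 0, ?_⟩
    rw [ptr_root (by rw [← pow_mul, mul_comm, pow_mul, (isPrimitiveRoot_pRoot p k).pow_eq_one, one_pow])]
    push_cast
    rfl
  choose n hn using hroot
  have h1 : ∃ m : ℤ, ptr p k ((N : ℂ) * x) = (m : ℂ) :=
    ⟨∑ j, a j * n ((j.1 : ℕ) + p ^ k * j.2), by
      rw [ha, ptr_sum, Int.cast_sum]
      exact Finset.sum_congr rfl fun j _ => by rw [ptr_intCast_mul, hn, Int.cast_mul]⟩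
  obtain ⟨m, hm⟩ := h1
  have h2 : ptr p k x = x * ((p : ℂ) - 1) := by
    rw [ptr, Finset.sum_congr rfl fun a ha => hfix a (Finset.mem_filter.mp ha).2, Finset.sum_const,
      nsmul_eq_mul]
    have h := ptr_intCast (p := p) (k := k) 1
    rw [ptr, Finset.sum_congr rfl fun a _ => map_intCast (pAut p k a) 1, Finset.sum_const,
      nsmul_eq_mul, Int.cast_one, one_mul, mul_one] at h
    rw [← mul_assoc, h, mul_comm]
  rw [ptr_natCast_mul, h2] at hm
  refine Char.TwoNonzero.exists_int_of_rat hx (a := m) (b := N * (p - 1))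
    (mul_ne_zero hN (Nat.sub_ne_zero_of_lt hp.out.one_lt)) ?_
  rw [← hm, Nat.cast_mul, Nat.cast_sub hp.out.one_le, Nat.cast_one]
  ring

variable (hA : IsPGroup p A)
include hA

theorem pAut_gen {f : A → ℂ} (hf : IsGen f) {a : ℕ} (ha : a.Coprime p) (v : A) {k : ℕ}
    (hk : Nat.card A ∣ p ^ (k + 1)) : pAut p k a (f v) = f (v ^ a) := by
  classical
  have := Fintype.ofFinite (A →* ℂˣ)
  obtain ⟨z, hz⟩ := gen_expand hf
  rw [hz, hz, map_sum]
  exact Finset.sum_congr rfl fun ψ _ => by rw [map_mul, map_intCast, pAut_apply hA ψ ha v hk]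

/-- The Fourier sums of the quotient, normalized at the trivial character. -/
theorem exists_int_quot {f : A → ℂ} (hf : IsGen f) {U : A → ℤ} (hU : IsGen fun v => (U v : ℂ))
    (hUp : ∀ y, y ≠ 1 → ¬ (p : ℤ) ∣ U y)
    (hint : ∀ y, y ≠ 1 → IsIntegral ℤ (f y / (U y : ℂ))) (ψ : A →* ℂˣ) :
    ∃ z : ℤ, ∑ y : A, f y / (U y : ℂ) * ((ψ y⁻¹ : ℂ) - 1) = (Nat.card A : ℂ) * z := by
  classical
  obtain ⟨k, hk⟩ := IsPGroup.iff_card.mp hA
  have hk' : Nat.card A ∣ p ^ (k + 1) := hk ▸ pow_dvd_pow p k.le_succ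
  set N := Nat.card A with hNdef
  have hN0 : N ≠ 0 := Nat.card_pos.ne'
  have hNC : (N : ℂ) ≠ 0 := Nat.cast_ne_zero.mpr hN0
  set L := 2 * Nat.totient N - 1 with hL
  have hphi : 0 < Nat.totient N := Nat.totient_pos.mpr (Nat.pos_of_ne_zero hN0)
  have hL1 : L + 1 = 2 * Nat.totient N := by omega
  have hc : ∀ y : A, y ≠ 1 → ∃ c : ℤ, U y ^ (L + 1) = 1 + (N : ℤ) * c := by
    intro y hy
    have hco : (U y).natAbs.Coprime N := by
      rw [hk]
      refine Nat.Coprime.pow_right _ ((Nat.coprime_comm.mp ((hp.out.coprime_iff_not_dvd).mpr ?_)))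
      exact fun h => hUp y hy (Int.natCast_dvd.mpr h)
    have h := Nat.ModEq.pow 2 (Nat.ModEq.pow_totient hco)
    rw [← pow_mul, one_pow, mul_comm, ← hL1] at h
    obtain ⟨c, hc⟩ := (Nat.modEq_iff_dvd.mp h.symm)
    refine ⟨c, ?_⟩
    have he : U y ^ (L + 1) = ((U y).natAbs : ℤ) ^ (L + 1) := by
      rw [hL1, pow_mul, pow_mul, Int.natAbs_sq]
    rw [he, ← hc]
    push_cast
    ring
  choose! c hc using hc
  have hU0 : ∀ y, y ≠ 1 → (U y : ℂ) ≠ 0 := fun y hy =>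
    Int.cast_ne_zero.mpr fun h => hUp y hy (h ▸ dvd_zero _)
  have hG : IsGen (f * (fun v => (U v : ℂ)) ^ L) := hf.mul (hU.pow L (by omega))
  set G1 : A → ℂ := f * (fun v => (U v : ℂ)) ^ L with hG1
  obtain ⟨z1, hz1⟩ := hG ψ
  obtain ⟨z0, hz0⟩ := hG 1
  have hfirst : ∑ y : A, G1 y * ((ψ y⁻¹ : ℂ) - 1) = (N : ℂ) * ((z1 - z0 : ℤ) : ℂ) := by
    rw [Int.cast_sub, mul_sub, ← hz1, ← hz0, fou, fou, ← Finset.sum_sub_distrib]
    exact Finset.sum_congr rfl fun y _ => by simp [mul_sub]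
  have hsplit : ∀ y : A, f y / (U y : ℂ) * ((ψ y⁻¹ : ℂ) - 1) = G1 y * ((ψ y⁻¹ : ℂ) - 1) -
      (N : ℂ) * (f y / (U y : ℂ) * (c y : ℂ) * ((ψ y⁻¹ : ℂ) - 1)) := by
    intro y
    rcases eq_or_ne y 1 with rfl | hy
    · simp
    · have h := congrArg (Int.cast : ℤ → ℂ) (hc y hy)
      push_cast at h
      rw [hG1, Pi.mul_apply, Pi.pow_apply]
      field_simp [hU0 y hy]
      rw [pow_succ] at h
      linear_combination -(f y * ((ψ y⁻¹ : ℂ) - 1)) * h
  set S := ∑ y : A, f y / (U y : ℂ) * (c y : ℂ) * ((ψ y⁻¹ : ℂ) - 1) with hS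
  have hsum : ∑ y : A, f y / (U y : ℂ) * ((ψ y⁻¹ : ℂ) - 1) =
      (N : ℂ) * (((z1 - z0 : ℤ) : ℂ) - S) := by
    rw [Finset.sum_congr rfl fun y _ => hsplit y, Finset.sum_sub_distrib, ← Finset.mul_sum, hfirst,
      ← hS, mul_sub]
  have hψint : ∀ y : A, IsIntegral ℤ ((ψ y⁻¹ : ℂ) - 1) := fun y =>
    (isIntegral_of_mem_cycInt hN0 (mem_cycInt_hom ψ dvd_rfl _)).sub isIntegral_one
  have hterm : ∀ y : A, IsIntegral ℤ (f y / (U y : ℂ) * (c y : ℂ) * ((ψ y⁻¹ : ℂ) - 1)) := fun y => by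
    rcases eq_or_ne y 1 with rfl | hy
    · simp only [inv_one, map_one, Units.val_one, sub_self, mul_zero]; exact isIntegral_zero
    · exact ((hint y hy).mul (isIntegral_algebraMap (R := ℤ) (x := c y))).mul (hψint y)
  have hSint : IsIntegral ℤ S := IsIntegral.sum _ fun y _ => hterm y
  set x : ℂ := ((z1 - z0 : ℤ) : ℂ) - S with hx
  have hxint : IsIntegral ℤ x := (isIntegral_algebraMap (R := ℤ) (x := z1 - z0)).sub hSint
  -- a cyclotomic multiple
  set D : ℤ := ∏ y ∈ Finset.univ.erase (1 : A), U y with hD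
  have hfc : ∀ y, f y ∈ cycInt (p ^ (k + 1)) := fun y => by
    have := Fintype.ofFinite (A →* ℂˣ)
    obtain ⟨z, hz⟩ := gen_expand hf
    rw [hz]
    exact Subring.sum_mem _ fun φ _ => Subring.mul_mem _ (intCast_mem _ _) (mem_cycInt_hom φ hk' _)
  have hmem : ((D.natAbs * N : ℕ) : ℂ) * x ∈ cycInt (p ^ (k + 1)) := by
    have h1 : ((D.natAbs : ℕ) : ℂ) * ((N : ℂ) * x) ∈ cycInt (p ^ (k + 1)) := by
      rw [← hsum, Finset.mul_sum]
      refine Subring.sum_mem _ fun y _ => ?_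
      rcases eq_or_ne y 1 with rfl | hy
      · simp
      obtain ⟨d, hd⟩ : U y ∣ (D.natAbs : ℤ) :=
        Int.dvd_natAbs.mpr (Finset.dvd_prod_of_mem _ (Finset.mem_erase.mpr ⟨hy, Finset.mem_univ _⟩))
      rw [show ((D.natAbs : ℕ) : ℂ) = ((D.natAbs : ℤ) : ℂ) from (Int.cast_natCast _).symm, hd,
        Int.cast_mul, show (U y : ℂ) * (d : ℂ) * (f y / (U y : ℂ) * ((ψ y⁻¹ : ℂ) - 1)) =
          f y * (d : ℂ) * ((ψ y⁻¹ : ℂ) - 1) by field_simp [hU0 y hy]]
      exact Subring.mul_mem _ (Subring.mul_mem _ (hfc y) (intCast_mem _ _))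
        (Subring.sub_mem _ (mem_cycInt_hom ψ hk' _) (Subring.one_mem _))
    rw [Nat.cast_mul, mul_assoc]
    exact h1
  have hD0 : D.natAbs * N ≠ 0 := mul_ne_zero (Int.natAbs_ne_zero.mpr (Finset.prod_ne_zero_iff.mpr
    fun y hy h => hUp y (Finset.mem_erase.mp hy).1 (h ▸ dvd_zero _))) hN0
  obtain ⟨z, hz⟩ := exists_int_of_fixed (k := k) hD0 hxint hmem fun a ha => by
    refine mul_left_cancel₀ hNC ?_
    have hco : N.Coprime a := hk ▸ (ha.symm.pow_left k)
    have h1 : pAut p k a ((N : ℂ) * x) = (N : ℂ) * x := by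
      rw [← hsum, map_sum]
      refine Fintype.sum_equiv (powCoprime hco) _ _ fun y => ?_
      show _ = f (y ^ a) / (U (y ^ a) : ℂ) * ((ψ (y ^ a)⁻¹ : ℂ) - 1)
      rw [map_mul, map_div₀, map_sub, map_one, map_intCast, pAut_gen hA hf ha y hk',
        pAut_apply hA ψ ha _ hk', apply_pow_eq hA hU ha, inv_pow]
    rwa [map_mul, map_natCast] at h1
  exact ⟨z, by rw [hsum, hz]⟩

end CfsgLib.Block.FreeInertial
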