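import Cfsg.Agent.Lib.Block.FreeInertial.Count
import Cfsg.Agent.Lib.Block.CyclicDefect.Match

/-!
# Perfect isometries from matching normalized values

The values of a block with free inertial action on the singular elements are combinations of the
normalized values `FreeFrame.gv`; a signed bijection carrying these values to those of another such
block is a perfect isometry (`FreeFrame.isPerfectIsometry_of_gv`).
-/

open Finset MonoidAlgebra
open scoped ComplexConjugate

set_option autoImplicit false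
set_option linter.unusedSectionVars false

namespace CfsgLib.Block.FreeInertial

open Cfsg CfsgLib CfsgLib.Block CfsgLib.Block.CyclicDefect CfsgLib.Block.AbelianDefect
open scoped Pair

universe u v

variable {p : ℕ} {M : Ideal AlgInt} [M.IsMaximal]

/-- A `p`-part is a power. -/
theorem exists_pow_pPart {A : Type u} [Group A] [Finite A] (hp : p.Prime) {g w : A}
    (h : IsPPart p g w) : ∃ m : ℕ, w = g ^ m := by
  obtain ⟨y, rfl, hc, ⟨k, hk⟩, hy⟩ := h
  obtain ⟨m, hm1, hm0⟩ := Nat.chineseRemainder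
    (show (orderOf w).Coprime (orderOf y) by
      rw [hk]; exact Nat.Coprime.pow_left k (hp.coprime_iff_not_dvd.mpr hy)) 1 0
  refine ⟨m, ?_⟩
  rw [hc.mul_pow, orderOf_dvd_iff_pow_eq_one.mp (Nat.modEq_zero_iff_dvd.mp hm0), mul_one,
    pow_eq_pow_iff_modEq.mpr hm1, pow_one]

namespace FreeFrame

section

variable {G : Type u} [Group G] [Fintype G] [DecidableEq G] [Fintype (IrrCharacter G)]
variable (F : FreeFrame p M G)

theorem exists_sign {y : F.P} (hy : y ≠ 1) :
    ∃ σ : ℤ, (F.sv (Subgroup.zpowers (y : G)) : ℂ) = (σ : ℂ) * (F.unit y : ℂ) := by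
  rw [← F.natAbs_unit hy]
  rcases Int.natAbs_eq (F.unit y) with e | e
  · refine ⟨1, ?_⟩
    rw [Int.cast_one, one_mul]
    conv_rhs => rw [e, Int.cast_natCast]
  · refine ⟨-1, ?_⟩
    rw [Int.cast_neg, Int.cast_one, neg_one_mul]
    conv_rhs => rw [e, Int.cast_neg, Int.cast_natCast, neg_neg]

theorem gv_inv (χ : IrrCharacter G) (y : F.P) : F.gv χ y⁻¹ = conj (F.gv χ y) := by
  letI : CommGroup F.P := { mul_comm := fun a b => Subtype.ext (F.hab a a.2 b b.2) }
  rcases eq_or_ne y 1 with rfl | hy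
  · rw [inv_one, gv_one, map_zero]
  have hU := Char.generalized_inv (isGen_iff.mp F.exists_unit.choose_spec.1) y
  rw [map_intCast] at hU
  rw [F.gv_of_ne χ hy, F.gv_of_ne χ (inv_ne_one.mpr hy), map_div₀, map_intCast,
    Char.generalized_inv (F.val_gen χ) y, unit]
  exact congrArg _ hU

open scoped Classical in
theorem sum_gv_mul (y z : F.P) :
    ∃ N : ℤ, ∑ χ ∈ Finset.univ.filter (· ∈ F.B), F.gv χ y * F.gv χ z = (Nat.card F.P : ℂ) * N := by
  rcases eq_or_ne y 1 with rfl | hy
  · exact ⟨0, by simp [gv_one]⟩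
  rcases eq_or_ne z 1 with rfl | hz
  · exact ⟨0, by simp [gv_one]⟩
  have hz' : z⁻¹ ≠ 1 := inv_ne_one.mpr hz
  obtain ⟨σ, hσ⟩ := F.exists_sign hy
  obtain ⟨τ, hτ⟩ := F.exists_sign hz'
  refine ⟨if F.Fused y z⁻¹ then σ * τ else 0, ?_⟩
  rw [Finset.sum_congr rfl (g := fun χ => F.val χ y * conj (F.val χ z⁻¹) /
      ((F.unit y : ℂ) * (F.unit z⁻¹ : ℂ))) fun χ _ => by
      rw [show F.gv χ z = conj (F.gv χ z⁻¹) by rw [← F.gv_inv, inv_inv], F.gv_of_ne χ hy,
        F.gv_of_ne χ hz', map_div₀, map_intCast, div_mul_div_comm],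
    ← Finset.sum_div, F.sum_val hy hz', hσ, hτ]
  split_ifs with h
  · push_cast
    field_simp [F.unit_ne_zero hy, F.unit_ne_zero hz']
  · simp

/-- The row at a regular element of the centralizer, times the order. -/
theorem row_div_mem {y : F.P} (hy : y ≠ 1) {b : Set (IrrCharacter (CQ (Subgroup.zpowers (y : G))))}
    (hle : SubpairLE p M (Subgroup.zpowers (y : G)) b F.P F.e)
    {η : IrrCharacter (CQ (Subgroup.zpowers (y : G)))} (hη : IsRow p b η)
    {s : CQ (Subgroup.zpowers (y : G))} (hs : ¬ p ∣ orderOf s) :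
    (Nat.card F.P : ℂ) * (η : CQ (Subgroup.zpowers (y : G)) → ℂ) s /
      (Nat.card (Subgroup.centralizer ({(y : G) * (s : G)} : Set G)) : ℂ) ∈ locRing M := by
  classical
  have := F.factPrime
  have := Fintype.ofFinite (IrrCharacter (CQ (Subgroup.zpowers (y : G))))
  have hpair := (SubpairLE.isBrauerPairOf_iff F.hM hle).mp F.hmax.1
  have hbU := IsBlockUnion.of_isPBlock hpair.1.2
  obtain ⟨η', hη', hrows, hnorm⟩ := isNilpotentBlock_unitRow F.hM
    (F.nilpotent_below (F.zpowers_ne_bot hy) hle)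
  have hηη' : ∀ t : CQ (Subgroup.zpowers (y : G)), ¬ p ∣ orderOf t →
      (η : CQ (Subgroup.zpowers (y : G)) → ℂ) t = (η' : CQ (Subgroup.zpowers (y : G)) → ℂ) t := by
    obtain ⟨d, hd⟩ := hrows η hη.1
    obtain ⟨d', hd'⟩ := hη.2 η' hη'
    intro t ht
    have h1 : ¬ p ∣ orderOf (1 : CQ (Subgroup.zpowers (y : G))) := by
      rw [orderOf_one]; exact F.hM.1.not_dvd_one
    have hdd : d * d' = 1 := by
      have h2 := hd 1 h1
      rw [hd' 1 h1, ← mul_assoc, ← Nat.cast_mul] at h2
      refine Nat.cast_injective (R := ℂ) (mul_right_cancel₀ (Char.irr_one_ne_zero η) ?_)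
      rw [Nat.cast_one, one_mul]
      exact h2.symm
    rw [hd t ht, Nat.eq_one_of_mul_eq_one_right hdd, Nat.cast_one, one_mul]
  choose! d hd using hrows
  let a : IrrCharacter (CQ (Subgroup.zpowers (y : G))) → ℂ := fun θ => if θ ∈ b then (d θ : ℂ) else 0
  have haL : ∀ θ, a θ ∈ locRing M := fun θ => by
    simp only [a]; split_ifs
    · exact natCast_mem _ _
    · exact zero_mem _
  have h1 : ¬ p ∣ orderOf (1 : CQ (Subgroup.zpowers (y : G))) := by
    rw [orderOf_one]; exact F.hM.1.not_dvd_one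
  have hsum : ∀ g, (η' : CQ (Subgroup.zpowers (y : G)) → ℂ) 1 *
      ∑ θ, a θ * (θ : CQ (Subgroup.zpowers (y : G)) → ℂ) g =
      ∑ᶠ θ ∈ b, (θ : CQ (Subgroup.zpowers (y : G)) → ℂ) g *
        conj ((θ : CQ (Subgroup.zpowers (y : G)) → ℂ) 1) := by
    intro g
    rw [finsum_mem_eq_toFinset_sum, Finset.mul_sum]
    refine (Finset.sum_subset (Finset.subset_univ b.toFinset) fun θ _ hθ => ?_).symm.trans
      (Finset.sum_congr rfl fun θ hθ => ?_)
    · simp only [a, if_neg (show θ ∉ b from fun h => hθ (Set.mem_toFinset.mpr h)), zero_mul, mul_zero]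
    · have hθb := Set.mem_toFinset.mp hθ
      obtain ⟨n, -, hn⟩ := Char.isIrrCharacter_degree η'.2
      simp only [a, if_pos hθb]
      rw [hd θ hθb 1 h1, map_mul, map_natCast, hn, map_natCast]
      ring
  have hvan : ∀ g, p ∣ orderOf g → ∑ θ, a θ * (θ : CQ (Subgroup.zpowers (y : G)) → ℂ) g = 0 := by
    intro g hg
    refine (mul_eq_zero.mp ((hsum g).trans ?_)).resolve_left (Char.irr_one_ne_zero η')
    have h := congrArg conj (blockUnion_orthogonal_regular_singular F.hM hbU h1 hg)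
    rw [finsum_mem_eq_toFinset_sum, map_sum, map_zero] at h
    rw [finsum_mem_eq_toFinset_sum]
    refine Eq.trans (Finset.sum_congr rfl fun θ _ => ?_) h
    rw [map_mul, Complex.conj_conj, mul_comm]
  have hmem := regular_div_mem F.hM a haL hvan hs
  -- the regular value
  have hcard : (Nat.card F.P : ℂ) = (p : ℂ) ^ blockDefect p b := by
    have hPC := le_cq F.hab (SubpairLE.le hle)
    have h := defectGroup_card F.hM hpair.1.2
      (isDefectGroup_below_abelian F.hM F.hmax hPC (nSub_of_le F.hM F.hmax.1.1 F.hab hle))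
    rw [Nat.card_congr (Subgroup.subgroupOfEquivOfLe hPC).toEquiv] at h
    rw [h, Nat.cast_pow]
  have hval : ∑ θ, a θ * (θ : CQ (Subgroup.zpowers (y : G)) → ℂ) s =
      (Nat.card F.P : ℂ) * (η : CQ (Subgroup.zpowers (y : G)) → ℂ) s := by
    have hsq : regInner p η' η' *
        ∑ θ ∈ Finset.univ.filter (· ∈ b), (d θ : ℂ) * (d θ : ℂ) = 1 := by
      have h := sum_regInner_mul p η' (1 : CQ (Subgroup.zpowers (y : G)))
      simp only [regFun, h1, if_false] at h
      have hval : ∀ θ ∈ b, regInner p η' θ = (d θ : ℂ) * regInner p η' η' := fun θ hθ => by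
        refine mul_left_cancel₀
          (Nat.cast_ne_zero.mpr Nat.card_pos.ne' :
            (Nat.card (CQ (Subgroup.zpowers (y : G))) : ℂ) ≠ 0) ?_
        rw [card_mul_regInner, mul_left_comm, card_mul_regInner, Finset.mul_sum]
        refine Finset.sum_congr rfl fun g hg => ?_
        have hg' := (Finset.mem_filter.mp hg).2
        rw [hd θ hθ g⁻¹ (by rwa [orderOf_inv])]
        ring
      rw [← Finset.sum_subset (Finset.filter_subset (fun θ => θ ∈ b) Finset.univ) fun θ _ hθ => by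
        rw [regInner_eq_zero_of_not_mem F.hM hbU hη' (by simpa using hθ), zero_mul]] at h
      rw [Finset.sum_congr rfl (g := fun θ => regInner p η' η' * ((d θ : ℂ) * (d θ : ℂ)) *
          (η' : CQ (Subgroup.zpowers (y : G)) → ℂ) 1) fun θ hθ => by
        rw [hval θ (Finset.mem_filter.mp hθ).2, hd θ (Finset.mem_filter.mp hθ).2 1 h1]
        ring, ← Finset.sum_mul, ← Finset.mul_sum] at h
      exact (mul_eq_right₀ (Char.irr_one_ne_zero η')).mp h
    have hrne : regInner p η' η' ≠ 0 := fun h => by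
      rw [h, zero_mul] at hnorm; exact zero_ne_one hnorm
    simp only [a, ite_mul, zero_mul, ← Finset.sum_filter]
    rw [Finset.sum_congr rfl (g := fun θ => (d θ : ℂ) * (d θ : ℂ) *
      (η' : CQ (Subgroup.zpowers (y : G)) → ℂ) s) fun θ hθ => by
      rw [hd θ (Finset.mem_filter.mp hθ).2 s hs, mul_assoc], ← Finset.sum_mul, hηη' s hs, hcard]
    refine mul_left_cancel₀ hrne ?_
    linear_combination ((η' : CQ (Subgroup.zpowers (y : G)) → ℂ) s) * hsq -
      ((η' : CQ (Subgroup.zpowers (y : G)) → ℂ) s) * hnorm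
  rw [hval] at hmem
  -- the centralizers
  have hC : Nat.card (Subgroup.centralizer ({s} : Set (CQ (Subgroup.zpowers (y : G))))) =
      Nat.card (Subgroup.centralizer ({(y : G) * (s : G)} : Set G)) := by
    have hys : Commute (y : G) (s : G) := (mem_cq_zpowers_iff.mp s.2).symm
    obtain ⟨m, hm⟩ : ∃ m : ℕ, (y : G) = ((y : G) * (s : G)) ^ m := exists_pow_pPart F.hM.1
      ⟨s, rfl, hys, F.pPow y, by rwa [Subgroup.orderOf_coe]⟩
    refine Nat.card_congr
      { toFun := fun c => ⟨((c : CQ (Subgroup.zpowers (y : G))) : G),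
          Subgroup.mem_centralizer_singleton_iff.mpr ?_⟩
        invFun := fun c => ⟨⟨(c : G), mem_cq_zpowers_iff.mpr ?_⟩,
          Subgroup.mem_centralizer_singleton_iff.mpr ?_⟩
        left_inv := fun c => rfl
        right_inv := fun c => rfl }
    · have h : Commute (c : CQ (Subgroup.zpowers (y : G))) s := Subgroup.mem_centralizer_singleton_iff.mp c.2
      exact (mem_cq_zpowers_iff.mp (c : CQ (Subgroup.zpowers (y : G))).2).mul_right
        (h.map (CQ (Subgroup.zpowers (y : G))).subtype)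
    · have h : Commute (c : G) ((y : G) * (s : G)) := Subgroup.mem_centralizer_singleton_iff.mp c.2
      exact (congrArg (fun z => Commute (c : G) z) hm).mpr (h.pow_right m)
    · refine Subtype.ext ?_
      show (c : G) * (s : G) = (s : G) * (c : G)
      have h : Commute (c : G) ((y : G) * (s : G)) := Subgroup.mem_centralizer_singleton_iff.mp c.2
      have h' : Commute (c : G) (y : G) := (congrArg (fun z => Commute (c : G) z) hm).mpr (h.pow_right m)
      have h3 := h'.inv_right.mul_right h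
      rwa [inv_mul_cancel_left] at h3
  rwa [hC] at hmem

/-- The part of the characters below the pair at a regular element. -/
theorem exists_base {y : F.P} (hy : y ≠ 1) {s : G} (hs : s ∈ regC p (y : G)) :
    ∃ β : ℂ, β ∈ locRing M ∧
      (Nat.card F.P : ℂ) * β / (Nat.card (Subgroup.centralizer ({(y : G) * s} : Set G)) : ℂ) ∈ locRing M ∧
      ∀ χ, secPart χ (y : G) (lowPair F.hM F.hmax.1.1 y) s = F.gv χ y * β := by
  classical
  obtain ⟨b, hlow, hle⟩ := F.exists_block y
  obtain ⟨η, hη⟩ := F.exists_row (F.zpowers_ne_bot hy) hle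
  have := Fintype.ofFinite (IrrCharacter (CQ (Subgroup.zpowers (y : G))))
  have hpair := (SubpairLE.isBrauerPairOf_iff F.hM hle).mp F.hmax.1
  obtain ⟨k, hk⟩ := F.pPow y
  obtain ⟨hs1, hs2⟩ := mem_regC.mp hs
  obtain ⟨σ, hσ⟩ := F.exists_sign hy
  obtain ⟨hc, hcK, hcP⟩ := F.exists_lift.choose_spec
  have hdiv := F.row_div_mem hy hle hη (s := ⟨s, hs1⟩) (by rwa [← Subgroup.orderOf_coe])
  have hσ2 : (σ : ℂ) * (σ : ℂ) = 1 := by
    have h := congrArg₂ (· * ·) hσ hσ
    have hU := F.unit_ne_zero hy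
    have habs : (F.sv (Subgroup.zpowers (y : G)) : ℂ) * (F.sv (Subgroup.zpowers (y : G)) : ℂ) =
        (F.unit y : ℂ) * (F.unit y : ℂ) := by
      rw [← F.natAbs_unit hy]
      rcases Int.natAbs_eq (F.unit y) with e | e
      · conv_rhs => rw [e, Int.cast_natCast]
      · conv_rhs => rw [e, Int.cast_neg, Int.cast_natCast, neg_mul_neg]
    rw [habs] at h
    refine mul_right_cancel₀ (mul_ne_zero hU hU) ?_
    linear_combination -h
  refine ⟨(σ : ℂ) * (η : CQ (Subgroup.zpowers (y : G)) → ℂ) ⟨s, hs1⟩,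
    mul_mem (intCast_mem _ _) (integral_mem M (Char.isCharacter_isIntegral (Char.isCharacter_irr η) _)),
    ?_, fun χ => ?_⟩
  · convert mul_mem (intCast_mem (locRing M) σ) hdiv using 1
    ring
  · have hval : F.val χ y = rowCoeff η χ (y : G) b * (F.sv (Subgroup.zpowers (y : G)) : ℂ) := by
      rw [val, lift, ← liftVal_eq F.hM ⟨k, hk⟩ hc (hcP _ y.2) χ, hcK,
        liftVal_eq_mul F.hM ⟨k, hk⟩ hpair.1.2 hη.2 F.hsrc.idem (F.hsrc.cinv.commute y.2)
          (F.isLocPt.br_block F.hM F.hmax.1.1 hle) χ, ← F.sv_eq hle hη]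
    obtain ⟨-, hrows⟩ := hη
    choose! d hd using hrows
    rw [hlow]
    refine ((rowCoeff_spec F.hM (pow_ne_zero k F.hM.1.ne_zero) (hk ▸ pow_orderOf_eq_one (y : G)) d hd χ).2
      ⟨s, hs1⟩ (by rwa [← Subgroup.orderOf_coe])).trans ?_
    rw [F.gv_of_ne χ hy, hval, hσ]
    have hU := F.unit_ne_zero hy
    field_simp
    linear_combination -(rowCoeff η χ (y : G) b *
      (η : CQ (Subgroup.zpowers (y : G)) → ℂ) ⟨s, hs1⟩) * hσ2

open scoped Classical in
/-- The values at a singular element. -/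
theorem singular_expand {g : G} (hg : p ∣ orderOf g) :
    ∃ c : F.P → ℂ, (∀ j, c j ∈ locRing M) ∧
      (∀ j, (Nat.card F.P : ℂ) * c j /
        (Nat.card (Subgroup.centralizer ({g} : Set G)) : ℂ) ∈ locRing M) ∧
      ∀ [Fintype F.P], ∀ χ ∈ F.B, (χ : G → ℂ) g = ∑ j : F.P, c j * F.gv χ j := by
  obtain ⟨s, hs, hgs⟩ := exists_regC F.hM g
  have hupow := pPow_pPt F.hM g
  set u := pPt F.hM g with hu
  have hu1 : u ≠ 1 := fun h => (mem_regC.mp hs).2 (by
    rw [show s = g by rw [← hgs, h, one_mul]]; exact hg)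
  have key : ∀ b : {b // b ∈ pairsAt M u}, ∃ (j : F.P) (β : ℂ), β ∈ locRing M ∧
      (Nat.card F.P : ℂ) * β / (Nat.card (Subgroup.centralizer ({g} : Set G)) : ℂ) ∈ locRing M ∧
      ∀ χ ∈ F.B, secPart χ u b.1 s = β * F.gv χ j := by
    rintro ⟨b, hb⟩
    obtain ⟨h1, h2⟩ := mem_pairsAt.mp hb
    by_cases hof : IsBrauerPairOf p M F.B b.1 b.2
    swap
    · refine ⟨1, 0, zero_mem _, by rw [mul_zero, zero_div]; exact zero_mem _, fun χ hχ => ?_⟩
      rw [zero_mul]
      exact secPart_eq_zero_of_not_pairOf F.hM F.hmax.1.2.1 hχ hupow hb hs hof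
    obtain ⟨x, hx⟩ := exists_conj_subpairLE F.hM F.hmax hof
    have hxu : x * u * x⁻¹ ∈ F.P := SubpairLE.le hx (conj_mem_cjS.mpr (h1 ▸ Subgroup.mem_zpowers u))
    obtain ⟨y, hy⟩ : ∃ y : F.P, (y : G) = x * u * x⁻¹ := ⟨⟨_, hxu⟩, rfl⟩
    have hy1 : y ≠ 1 := fun h => hu1 (by
      rw [h, OneMemClass.coe_one] at hy
      exact conj_eq_one_iff.mp hy.symm)
    have hlow : cjP x b = lowPair F.hM F.hmax.1.1 y :=
      below_ext F.hM F.hmax.1.1 (show Below p M F.P F.e (cjP x b) from hx)
        (lowPair_below F.hM F.hmax.1.1 _)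
        (show cjS x b.1 = Subgroup.zpowers (y : G) by rw [h1, cjS_zpowers, hy])
    obtain ⟨hs1, hs2⟩ := mem_regC.mp hs
    have hs' : x * s * x⁻¹ ∈ regC p (y : G) := by
      refine mem_regC.mpr ⟨mem_cq_zpowers_iff.mpr ?_, by rwa [orderOf_conj_eq]⟩
      rw [hy]
      exact (((mem_cq_zpowers_iff.mp hs1).map (MulAut.conj x).toMonoidHom) :)
    obtain ⟨β, hβ, hβd, hsec⟩ := F.exists_base hy1 hs'
    refine ⟨y, β, hβ, ?_, fun χ _ => ?_⟩
    · rwa [show (y : G) * (x * s * x⁻¹) = x * g * x⁻¹ by rw [hy, ← hgs]; group,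
        card_centralizer_conj_eq] at hβd
    · rw [← secPart_cjP χ x u b s, hlow, ← hy, hsec χ, mul_comm]
  choose jf βf h2 h3 h4 using key
  refine ⟨fun j => ∑ b, if jf b = j then βf b else 0, fun j => sum_mem fun b _ => ?_, fun j => ?_,
    fun {inst} χ hχ => ?_⟩
  · split_ifs
    · exact h2 b
    · exact zero_mem _
  · rw [Finset.mul_sum, Finset.sum_div]
    refine sum_mem fun b _ => ?_
    split_ifs
    · exact h3 b
    · rw [mul_zero, zero_div]; exact zero_mem _
  conv_lhs => rw [← hgs]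
  rw [apply_eq_sum_secPart F.hM χ hupow hs, ← Finset.sum_attach]
  simp only [Finset.sum_mul, ite_mul, zero_mul]
  rw [Finset.sum_comm (s := (Finset.univ : Finset F.P))]
  simp only [Finset.sum_ite_eq, Finset.mem_univ, if_true]
  rw [Finset.univ_eq_attach]
  exact Finset.sum_congr rfl fun b _ => h4 b χ hχ

open scoped Classical in
/-- The values are orthogonal to the regular elements. -/
theorem sum_gv_regular (y : F.P) {g : G} (hg : ¬ p ∣ orderOf g) :
    ∑ χ ∈ Finset.univ.filter (· ∈ F.B), F.gv χ y * (χ : G → ℂ) g = 0 := by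
  rcases eq_or_ne y 1 with rfl | hy
  · simp [gv_one]
  obtain ⟨n, hn, hv, -⟩ := F.exists_norm hy
  obtain ⟨b, hlow, hle⟩ := F.exists_block y
  have := Fintype.ofFinite (IrrCharacter (CQ (Subgroup.zpowers (y : G))))
  have hbU := IsBlockUnion.of_isPBlock ((SubpairLE.isBrauerPairOf_iff F.hM hle).mp F.hmax.1).1.2
  have hpart : ∑ χ ∈ Finset.univ.filter (· ∈ F.B), F.part χ y * (χ : G → ℂ) g = 0 := by
    have hp : ∀ χ, F.part χ y = ∑ t : G, subgroupBlockCoeff (CQ (Subgroup.zpowers (y : G))) b t *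
        (χ : G → ℂ) ((y : G) * (t * 1)) := fun χ => by rw [part, hlow]; rfl
    simp only [hp, Finset.sum_mul]
    rw [Finset.sum_comm]
    refine Finset.sum_eq_zero fun t _ => ?_
    rcases eq_or_ne (subgroupBlockCoeff (CQ (Subgroup.zpowers (y : G))) b t) 0 with h | h
    · simp [h]
    have htC : t ∈ CQ (Subgroup.zpowers (y : G)) := by
      by_contra h'
      exact h (subgroupBlockCoeff_of_notMem b h')
    have ht : ¬ p ∣ orderOf t := by
      intro hd
      rw [show t = ((⟨t, htC⟩ : CQ (Subgroup.zpowers (y : G))) : G) from rfl,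
        subgroupBlockCoeff_coe] at h
      exact h (blockCoeff_eq_zero_of_singular F.hM hbU (by rwa [← Subgroup.orderOf_coe]))
    have hpp : IsPPart p ((y : G) * (t * 1)) (y : G) :=
      ⟨t, by rw [mul_one], (mem_cq_zpowers_iff.mp htC).symm, F.pPow y, ht⟩
    have horth := blockUnion_orthogonal_conj F.hM (IsBlockUnion.of_isPBlock F.hmax.1.2.1) hpp
      (isPPart_one_of_not_dvd (g := g⁻¹) (by rwa [orderOf_inv])) (fun h => hy (Subtype.ext (isConj_one_left.mp h)))
    rw [finsum_mem_eq_finite_toFinset_sum _ (Set.toFinite _),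
      show (Set.toFinite F.B).toFinset = Finset.univ.filter (· ∈ F.B) by ext; simp] at horth
    rw [Finset.sum_congr rfl (g := fun χ : IrrCharacter G =>
      subgroupBlockCoeff (CQ (Subgroup.zpowers (y : G))) b t *
        ((χ : G → ℂ) ((y : G) * (t * 1)) * conj ((χ : G → ℂ) g⁻¹)))
      fun χ _ => by rw [Char.irr_inv, Complex.conj_conj]; ring, ← Finset.mul_sum, horth, mul_zero]
  refine ((mul_eq_zero (a := (n : ℂ) * (F.unit y : ℂ))).mp ?_).resolve_left
    (mul_ne_zero (Nat.cast_ne_zero.mpr hn) (F.unit_ne_zero hy))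
  rw [Finset.mul_sum, Finset.sum_congr rfl (g := fun χ =>
    (F.sv (Subgroup.zpowers (y : G)) : ℂ) * (F.part χ y * (χ : G → ℂ) g)) fun χ _ => by
    rw [F.gv_of_ne χ hy]
    have := F.unit_ne_zero hy
    field_simp
    linear_combination ((χ : G → ℂ) g) * hv χ, ← Finset.mul_sum, hpart, mul_zero]

end

variable {G : Type u} [Group G] [Fintype G] [DecidableEq G] [Fintype (IrrCharacter G)]
variable {H : Type v} [Group H] [Fintype H] [DecidableEq H] [Fintype (IrrCharacter H)]

open scoped Classical in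
/-- A matching of the normalized values is perfect. -/
theorem isPerfectIsometry_of_gv (F : FreeFrame p M G) (F' : FreeFrame p M H) (κ : F'.P ≃ F.P)
    (I : IrrCharacter H → IrrCharacter G)
    (ε : IrrCharacter H → ℤ) (hI : Set.BijOn I F'.B F.B) (hε : ∀ η ∈ F'.B, ε η = 1 ∨ ε η = -1)
    (hgv : ∀ η ∈ F'.B, ∀ y, (ε η : ℂ) * F.gv (I η) (κ y) = F'.gv η y) :
    IsPerfectIsometry p M F'.B F.B I ε := by
  refine ⟨hI, hε, fun x y => ?_⟩
  set T := Finset.univ.filter (· ∈ F'.B) with hT
  have hmem : ∀ η, η ∈ T ↔ η ∈ F'.B := fun η => by simp [T]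
  set μ := signedBijectionKernel F'.B I ε x y with hμdef
  have hμ : μ = ∑ η ∈ T, (ε η : ℂ) * (I η : G → ℂ) x * (η : H → ℂ) y := by
    rw [hμdef, signedBijectionKernel, finsum_mem_eq_toFinset_sum]
    exact Finset.sum_congr (by ext; simp [T]) fun _ _ => rfl
  letI := Fintype.ofFinite F.P
  letI := Fintype.ofFinite F'.P
  let a : IrrCharacter G → ℂ := fun χ =>
    ∑ η ∈ T, if I η = χ then (ε η : ℂ) * (η : H → ℂ) y else 0
  let b : IrrCharacter H → ℂ := fun η => if η ∈ F'.B then (ε η : ℂ) * (I η : G → ℂ) x else 0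
  have hpush : ∀ f : IrrCharacter G → ℂ,
      ∑ χ, a χ * f χ = ∑ η ∈ T, (ε η : ℂ) * (η : H → ℂ) y * f (I η) := fun f => by
    simp only [a, Finset.sum_mul, ite_mul, zero_mul]
    rw [Finset.sum_comm]
    exact Finset.sum_congr rfl fun η _ => by rw [Finset.sum_ite_eq, if_pos (Finset.mem_univ _)]
  have hpushb : ∀ f : IrrCharacter H → ℂ,
      ∑ η, b η * f η = ∑ η ∈ T, (ε η : ℂ) * (I η : G → ℂ) x * f η := fun f => by
    simp only [b, ite_mul, zero_mul, ← Finset.sum_filter]
    rfl
  have hμa : μ = ∑ χ, a χ * (χ : G → ℂ) x := by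
    rw [hpush, hμ]; exact Finset.sum_congr rfl fun η _ => by ring
  have hμb : μ = ∑ η, b η * (η : H → ℂ) y := by rw [hpushb, hμ]
  have hεint : ∀ η, IsIntegral ℤ (ε η : ℂ) := fun η => isIntegral_algebraMap (x := ε η)
  have haL : ∀ χ, a χ ∈ locRing M := fun χ => sum_mem fun η _ => by
    split_ifs
    · exact integral_mem M ((hεint η).mul (Char.isCharacter_isIntegral (Char.isCharacter_irr η) y))
    · exact zero_mem _
  have hbL : ∀ η, b η ∈ locRing M := fun η => by
    simp only [b]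
    split_ifs
    · exact integral_mem M ((hεint η).mul (Char.isCharacter_isIntegral (Char.isCharacter_irr (I η)) x))
    · exact zero_mem _
  have hε2 : ∀ η ∈ F'.B, (ε η : ℂ) * (ε η : ℂ) = 1 := fun η hη => by
    rcases hε η hη with h | h <;> simp [h]
  have hvan : ¬ p ∣ orderOf y → ∀ g : G, p ∣ orderOf g → ∑ χ, a χ * (χ : G → ℂ) g = 0 := by
    intro hy g hg
    obtain ⟨c, -, -, hc⟩ := F.singular_expand hg
    rw [hpush, Finset.sum_congr rfl fun η hη => by
      rw [hc (I η) (hI.mapsTo ((hmem η).mp hη)), Finset.mul_sum], Finset.sum_comm]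
    refine Finset.sum_eq_zero fun j _ => ?_
    rw [Finset.sum_congr rfl (g := fun η => c j * (F'.gv η (κ.symm j) * (η : H → ℂ) y)) fun η hη => by
      rw [← hgv η ((hmem η).mp hη), κ.apply_symm_apply]; ring,
      ← Finset.mul_sum, F'.sum_gv_regular _ hy, mul_zero]
  have hvan' : ¬ p ∣ orderOf x → ∀ h : H, p ∣ orderOf h → ∑ η, b η * (η : H → ℂ) h = 0 := by
    intro hx h hh
    obtain ⟨d, -, -, hd⟩ := F'.singular_expand hh
    rw [hpushb, Finset.sum_congr rfl fun η hη => by
      rw [hd η ((hmem η).mp hη), Finset.mul_sum], Finset.sum_comm]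
    refine Finset.sum_eq_zero fun k _ => ?_
    rw [Finset.sum_congr rfl (g := fun η => d k * (F.gv (I η) (κ k) * (I η : G → ℂ) x)) fun η hη => by
      rw [← hgv η ((hmem η).mp hη)]
      linear_combination (d k * F.gv (I η) (κ k) * (I η : G → ℂ) x) * hε2 η ((hmem η).mp hη),
      ← Finset.mul_sum]
    have himg : T.image I = Finset.univ.filter (· ∈ F.B) := by
      ext χ
      simp only [Finset.mem_image, Finset.mem_filter, Finset.mem_univ, true_and, hmem]
      exact ⟨fun ⟨η, hη, e⟩ => e ▸ hI.mapsTo hη, fun h => hI.surjOn h⟩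
    have h0 := F.sum_gv_regular (κ k) hx
    rw [← himg, Finset.sum_image fun η hη η' hη' e =>
      hI.injOn ((hmem η).mp hη) ((hmem η').mp hη') e] at h0
    rw [h0, mul_zero]
  by_cases hx : p ∣ orderOf x <;> by_cases hy : p ∣ orderOf y
  · -- both singular
    obtain ⟨c, hcL, hcD, hc⟩ := F.singular_expand hx
    obtain ⟨d, hdL, hdD, hd⟩ := F'.singular_expand hy
    choose N hN using fun (j : F.P) (k : F'.P) => F'.sum_gv_mul (κ.symm j) k
    have hsum : μ = ∑ j, ∑ k, c j * d k * ((Nat.card F'.P : ℂ) * N j k) := by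
      rw [hμ, Finset.sum_congr rfl (g := fun η => ∑ j, ∑ k,
        c j * d k * (F'.gv η (κ.symm j) * F'.gv η k)) fun η hη => by
        rw [hc (I η) (hI.mapsTo ((hmem η).mp hη)), hd η ((hmem η).mp hη), mul_assoc, Finset.sum_mul_sum,
          Finset.mul_sum]
        refine Finset.sum_congr rfl fun j _ => ?_
        rw [Finset.mul_sum]
        refine Finset.sum_congr rfl fun k _ => ?_
        rw [← hgv η ((hmem η).mp hη) (κ.symm j), κ.apply_symm_apply]
        ring, Finset.sum_comm]
      refine Finset.sum_congr rfl fun j _ => ?_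
      rw [Finset.sum_comm]
      exact Finset.sum_congr rfl fun k _ => by rw [← Finset.mul_sum, hN]
    have hn : (Nat.card F'.P : ℂ) = (Nat.card F.P : ℂ) := by rw [Nat.card_congr κ]
    refine ⟨?_, ?_, Or.inl (iff_of_false (fun h => h hx) (fun h => h hy))⟩
    · rw [← mem_locRing_iff, hsum, Finset.sum_div]
      refine sum_mem fun j _ => ?_
      rw [Finset.sum_div]
      refine sum_mem fun k _ => ?_
      convert mul_mem (mul_mem (hcD j) (hdL k)) (intCast_mem (locRing M) (N j k)) using 1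
      rw [hn]
      ring
    · rw [← mem_locRing_iff, hsum, Finset.sum_div]
      refine sum_mem fun j _ => ?_
      rw [Finset.sum_div]
      refine sum_mem fun k _ => ?_
      convert mul_mem (mul_mem (hcL j) (hdD k)) (intCast_mem (locRing M) (N j k)) using 1
      ring
  · have h0 : μ = 0 := hμa.trans (hvan hy x hx)
    rw [h0, zero_div, zero_div]
    exact ⟨(zero_mem (locRing M) : _), (zero_mem (locRing M) : _), Or.inr rfl⟩
  · have h0 : μ = 0 := hμb.trans (hvan' hx y hy)
    rw [h0, zero_div, zero_div]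
    exact ⟨(zero_mem (locRing M) : _), (zero_mem (locRing M) : _), Or.inr rfl⟩
  · refine ⟨?_, ?_, Or.inl (iff_of_true hx hy)⟩
    · rw [← mem_locRing_iff, hμa]
      exact regular_div_mem F.hM a haL (hvan hy) hx
    · rw [← mem_locRing_iff, hμb]
      exact regular_div_mem F'.hM b hbL (hvan' hx) hy

end FreeFrame

end CfsgLib.Block.FreeInertial
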