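import Cfsg.Agent.Lib.Block.FreeInertial.FourTorsion
import Cfsg.Agent.Lib.Block.FreeInertial.Isometry
import Cfsg.Agent.Lib.Block.CyclicDefect.Correspondent

/-!
# Perfect isometries for blocks with Klein four defect group

Two blocks with Klein four defect group and one inertial index have vectors of one shape
(`exists_normal_form`), so there is a perfect isometry between them (`exists_isometry_klein`); in
particular with the Brauer correspondent.
-/

open Finset MonoidAlgebra

set_option autoImplicit false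
set_option linter.unusedSectionVars false

namespace CfsgLib.Block.FreeInertial

open Cfsg CfsgLib CfsgLib.Block CfsgLib.Block.CyclicDefect
open scoped Pair

universe u v

attribute [-instance] MonoidHom.instPow

/-- The shapes of the vectors. -/
def pat (n : ℕ) (i : Fin n) (j : Fin 4) : ℤ := if n = 1 ∨ j.val = 3 ∨ j.val = i.val then 1 else 0

/-- Four vectors, or one, on four points. -/
theorem exists_normal_form {ι : Type*} [Fintype ι] [DecidableEq ι] (hι : Fintype.card ι = 4)
    {n e : ℕ} (hne : n * e = 3) (W : Fin n → ι → ℤ)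
    (hG : ∀ i j, ∑ χ, W i χ * W j χ = (e : ℤ) + if i = j then 1 else 0)
    (hcov : ∀ χ, ∃ i, W i χ ≠ 0) :
    ∃ (f : Fin 4 ≃ ι) (s : Fin 4 → ℤ), (∀ j, s j = 1 ∨ s j = -1) ∧
      ∀ i j, W i (f j) = s j * pat n i j := by
  classical
  have hn : n = 1 ∨ n = 3 := (Nat.dvd_prime Nat.prime_three).mp ⟨e, hne.symm⟩
  rcases hn with rfl | rfl
  · have he : e = 3 := by omega
    subst he
    let f := (Fintype.equivFinOfCardEq hι).symm
    have hne0 : ∀ χ, W 0 χ ≠ 0 := fun χ => by
      obtain ⟨i, hi⟩ := hcov χ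
      rwa [Subsingleton.elim (0 : Fin 1) i]
    have hsum : ∑ χ, W 0 χ * W 0 χ = 4 := by rw [hG]; simp
    have h1 : ∀ χ, W 0 χ * W 0 χ = 1 := by
      intro χ
      have hle : ∀ ψ, 1 ≤ W 0 ψ * W 0 ψ := fun ψ => mul_self_pos.mpr (hne0 ψ)
      have h2 := Finset.add_sum_erase Finset.univ (fun ψ => W 0 ψ * W 0 ψ) (Finset.mem_univ χ)
      rw [hsum] at h2
      have h3 := Finset.sum_le_sum (s := Finset.univ.erase χ) fun ψ _ => hle ψ
      rw [Finset.sum_const, Finset.card_erase_of_mem (Finset.mem_univ _), Finset.card_univ, hι,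
        nsmul_eq_mul, mul_one] at h3
      have h4 := hle χ
      push_cast at h3
      omega
    refine ⟨f, fun j => W 0 (f j), fun j => mul_self_eq_one_iff.mp (h1 _), fun i j => ?_⟩
    rw [Subsingleton.elim i 0, pat, if_pos (Or.inl rfl), mul_one]
  · have he : e = 1 := by omega
    subst he
    have hsq : ∀ i, ∑ χ, W i χ * W i χ = 2 := fun i => by rw [hG, if_pos rfl]; rfl
    choose a b hab hWa hWb hW0 using fun i => exists_pair (hsq i)
    let S : Fin 3 → Finset ι := fun i => {a i, b i}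
    have hS : ∀ i χ, χ ∈ S i ↔ W i χ ≠ 0 := by
      intro i χ
      simp only [S, Finset.mem_insert, Finset.mem_singleton]
      constructor
      · rintro (rfl | rfl)
        · rcases hWa i with h | h <;> simp [h]
        · rcases hWb i with h | h <;> simp [h]
      · intro h
        by_contra h'
        push Not at h'
        exact h (hW0 i χ h'.1 h'.2)
    have hScard : ∀ i, (S i).card = 2 := fun i => Finset.card_pair (hab i)
    have hpm : ∀ i χ, χ ∈ S i → W i χ = 1 ∨ W i χ = -1 := fun i χ h =>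
      (sq_one_or_zero (hsq i) χ).resolve_left ((hS i χ).mp h)
    have hint : ∀ i j, i ≠ j → ∃ c, S i ∩ S j = {c} ∧ W i c = W j c := by
      intro i j hij
      have hsum : ∑ χ ∈ S i ∩ S j, W i χ * W j χ = 1 := by
        rw [Finset.sum_subset (Finset.subset_univ _) fun χ _ h => by
          simp only [Finset.mem_inter, hS, not_and, not_not] at h
          by_cases h' : W i χ = 0
          · rw [h', zero_mul]
          · rw [h h', mul_zero], hG, if_neg hij]
        rfl
      have hle : (S i ∩ S j).card ≤ 2 := (Finset.card_le_card Finset.inter_subset_left).trans (hScard i).le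
      have h0 : (S i ∩ S j).card ≠ 0 := fun h => by
        rw [Finset.card_eq_zero] at h
        rw [h, Finset.sum_empty] at hsum
        exact zero_ne_one hsum
      have h2 : (S i ∩ S j).card ≠ 2 := fun h => by
        obtain ⟨x, y, hxy, hI⟩ := Finset.card_eq_two.mp h
        rw [hI, Finset.sum_pair hxy] at hsum
        have hx : x ∈ S i ∩ S j := by rw [hI]; simp
        have hy : y ∈ S i ∩ S j := by rw [hI]; simp
        obtain ⟨hxi, hxj⟩ := Finset.mem_inter.mp hx
        obtain ⟨hyi, hyj⟩ := Finset.mem_inter.mp hy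
        rcases hpm i x hxi with e1 | e1 <;> rcases hpm j x hxj with e2 | e2 <;>
          rcases hpm i y hyi with e3 | e3 <;> rcases hpm j y hyj with e4 | e4 <;>
          rw [e1, e2, e3, e4] at hsum <;> omega
      obtain ⟨c, hc⟩ := Finset.card_eq_one.mp (show (S i ∩ S j).card = 1 by omega)
      refine ⟨c, hc, ?_⟩
      rw [hc, Finset.sum_singleton] at hsum
      rcases hpm i c ((Finset.mem_inter.mp (hc ▸ Finset.mem_singleton_self c)).1) with e1 | e1 <;>
        rw [e1] at hsum ⊢ <;> omega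
    obtain ⟨c, hc, hc01⟩ := hint 0 1 (by decide)
    have hcm := Finset.mem_inter.mp (hc ▸ Finset.mem_singleton_self c)
    have huniv : ∀ χ, χ ∈ S 0 ∪ S 1 ∪ S 2 := fun χ => by
      obtain ⟨i, hi⟩ := hcov χ
      have := (hS i χ).mpr hi
      fin_cases i <;> simp_all
    have h01 : (S 0 ∪ S 1).card = 3 := by
      have := Finset.card_union_add_card_inter (S 0) (S 1)
      rw [hScard, hScard, hc, Finset.card_singleton] at this
      omega
    have hinter : (S 2 ∩ (S 0 ∪ S 1)).card = 1 := by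
      have h := Finset.card_union_add_card_inter (S 0 ∪ S 1) (S 2)
      rw [h01, hScard, show S 0 ∪ S 1 ∪ S 2 = Finset.univ from Finset.eq_univ_of_forall huniv,
        Finset.card_univ, hι, Finset.inter_comm] at h
      omega
    obtain ⟨d, hd⟩ := Finset.card_eq_one.mp hinter
    obtain ⟨c₂, hc₂, hc02⟩ := hint 0 2 (by decide)
    obtain ⟨c₃, hc₃, hc12⟩ := hint 1 2 (by decide)
    have hd2 : c₂ = d := by
      have h1 := Finset.mem_inter.mp (hc₂ ▸ Finset.mem_singleton_self c₂)
      have h2 : c₂ ∈ S 2 ∩ (S 0 ∪ S 1) := Finset.mem_inter.mpr ⟨h1.2, Finset.mem_union_left _ h1.1⟩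
      rwa [hd, Finset.mem_singleton] at h2
    have hd3 : c₃ = d := by
      have h1 := Finset.mem_inter.mp (hc₃ ▸ Finset.mem_singleton_self c₃)
      have h2 : c₃ ∈ S 2 ∩ (S 0 ∪ S 1) := Finset.mem_inter.mpr ⟨h1.2, Finset.mem_union_right _ h1.1⟩
      rwa [hd, Finset.mem_singleton] at h2
    have hdc : d = c := by
      have h1 := Finset.mem_inter.mp (hc₂ ▸ Finset.mem_singleton_self c₂)
      have h2 := Finset.mem_inter.mp (hc₃ ▸ Finset.mem_singleton_self c₃)
      rw [hd2] at h1
      rw [hd3] at h2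
      have : d ∈ S 0 ∩ S 1 := Finset.mem_inter.mpr ⟨h1.1, h2.1⟩
      rwa [hc, Finset.mem_singleton] at this
    have hcall : ∀ i, c ∈ S i := by
      intro i
      fin_cases i
      · exact hcm.1
      · exact hcm.2
      · have h2 := Finset.mem_inter.mp (hc₂ ▸ Finset.mem_singleton_self c₂)
        rw [hd2, hdc] at h2
        exact h2.2
    have hother : ∀ i, ∃ x, x ≠ c ∧ S i = {c, x} := by
      intro i
      obtain ⟨x, y, hxy, hI⟩ := Finset.card_eq_two.mp (hScard i)
      have := hcall i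
      rw [hI, Finset.mem_insert, Finset.mem_singleton] at this
      rcases this with rfl | rfl
      · exact ⟨y, Ne.symm hxy, hI⟩
      · exact ⟨x, hxy, hI.trans (Finset.pair_comm _ _)⟩
    choose o hoc hSo using hother
    have hoinj : Function.Injective o := fun i j h => by
      by_contra hij
      obtain ⟨z, hz, -⟩ := hint i j hij
      rw [hSo i, hSo j, h, Finset.inter_self] at hz
      have := congrArg Finset.card hz
      rw [Finset.card_pair (Ne.symm (hoc j)), Finset.card_singleton] at this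
      omega
    let F : Fin 4 → ι := fun j => if h : j.val < 3 then o ⟨j.val, h⟩ else c
    have hF : Function.Bijective F := by
      rw [Fintype.bijective_iff_injective_and_card, Fintype.card_fin, hι]
      refine ⟨fun j l h => ?_, rfl⟩
      simp only [F] at h
      split_ifs at h with h1 h2
      · exact Fin.ext (congrArg Fin.val (hoinj h) :)
      · exact absurd h (hoc _)
      · exact absurd h.symm (hoc _)
      · exact Fin.ext (by omega)
    refine ⟨Equiv.ofBijective F hF, fun j => if h : j.val < 3 then W ⟨j.val, h⟩ (F j) else W 0 c,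
      fun j => ?_, fun i j => ?_⟩
    · dsimp only
      split_ifs with h
      · refine hpm _ _ ?_
        simp only [F, dif_pos h, hSo]
        simp
      · exact hpm 0 c (hcall 0)
    · show W i (F j) = _
      simp only [F]
      by_cases h : j.val < 3
      · rw [dif_pos h, dif_pos h, pat]
        by_cases hji : j.val = i.val
        · rw [if_pos (Or.inr (Or.inr hji)), mul_one, show (⟨j.val, h⟩ : Fin 3) = i from Fin.ext hji]
        · rw [if_neg (by rintro (h' | h' | h') <;> omega), mul_zero]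
          by_contra hne
          have hmem := (hS i _).mpr hne
          rw [hSo i, Finset.mem_insert, Finset.mem_singleton] at hmem
          rcases hmem with h' | h'
          · exact hoc _ h'
          · exact hji (congrArg Fin.val (hoinj h'))
      · rw [dif_neg h, dif_neg h, pat, if_pos (Or.inr (Or.inl (by omega))), mul_one]
        fin_cases i
        · rfl
        · exact hc01.symm
        · show W 2 c = W 0 c
          rw [← hdc, ← hd2]
          exact hc02.symm

variable {M : Ideal AlgInt} [M.IsMaximal]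
variable {G : Type u} [Group G] [Fintype G] [DecidableEq G] [Fintype (IrrCharacter G)]

/-- The vectors of a block with Klein four defect group. -/
theorem klein_vectors (F : FreeFrame 2 M G) (T : Subgroup G)
    (hT : ∀ g, g ∈ T ↔ g ∈ Subgroup.normalizer (F.P : Set G) ∧ StabilizesBlock (CQ F.P) F.e g)
    (hcard : Nat.card F.P = 4) (hexp : ∀ x : F.P, x ^ 2 = 1)
    (he : (CQ F.P).relIndex T = 1 ∨ (CQ F.P).relIndex T = 3) :
    ∃ (n : ℕ) (W : Fin n → F.B → ℤ) (q : {ψ : F.P →* ℂˣ // ψ ≠ 1} → Fin n),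
      n * (CQ F.P).relIndex T = 3 ∧ Nat.card F.B = 4 ∧ Function.Surjective q ∧
      (∀ [Fintype F.B], ∀ i j, ∑ χ, W i χ * W j χ =
        ((CQ F.P).relIndex T : ℤ) + if i = j then 1 else 0) ∧
      (∀ χ, ∃ i, W i χ ≠ 0) ∧
      ∀ [Fintype (F.P →* ℂˣ)], ∀ χ : F.B, ∀ y : F.P, y ≠ 1 →
        F.gv χ y = ∑ ψ : {ψ : F.P →* ℂˣ // ψ ≠ 1}, (W (q ψ) χ : ℂ) * (ψ.1 y : ℂ) := by
  classical
  haveI : Finite F.P := inferInstance
  have hy : ∃ y : F.P, y ≠ 1 := by
    have : Nontrivial F.P := Finite.one_lt_card_iff_nontrivial.mp (by omega)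
    exact exists_ne 1
  have hP1 : F.P ≠ ⊥ := by
    intro h
    rw [h, Subgroup.card_bot] at hcard
    omega
  have hcyc : ¬ IsCyclic F.P := fun hc => by
    have := (isCyclic_iff_exists_orderOf_eq_natCard.mp hc)
    obtain ⟨g, hg⟩ := this
    have := orderOf_dvd_of_pow_eq_one (hexp g)
    rw [hg, hcard] at this
    exact absurd (Nat.le_of_dvd (by norm_num) this) (by norm_num)
  obtain ⟨hdvd, hk, hl, hsmall⟩ := F.counts T hT hP1
  obtain ⟨n, v, hn, hv, hcov, q, hq, hexpand⟩ := F.exists_orbits T hT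
  rw [hcard] at hn hk
  have hl' := (hsmall (by omega)).resolve_right hcyc
  refine ⟨n, fun i χ => v i χ, q, hn, ?_, hq, fun {inst} i j => ?_, fun χ => hcov hy χ χ.2,
    fun {inst} χ y hy1 => hexpand χ χ.2 y hy1⟩
  · rcases he with he | he <;> rw [he] at hk hl' <;> omega
  · rw [← hv i j]
    exact (Finset.sum_subtype (p := (· ∈ F.B)) _ (by simp) (fun χ => v i χ * v j χ)).symm

variable {H : Type v} [Group H] [Fintype H] [DecidableEq H] [Fintype (IrrCharacter H)]

/-- The perfect isometry of two blocks with Klein four defect group and one inertial index. -/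
theorem exists_isometry_klein (F : FreeFrame 2 M G) (F' : FreeFrame 2 M H) (T : Subgroup G)
    (T' : Subgroup H)
    (hT : ∀ g, g ∈ T ↔ g ∈ Subgroup.normalizer (F.P : Set G) ∧ StabilizesBlock (CQ F.P) F.e g)
    (hT' : ∀ g, g ∈ T' ↔ g ∈ Subgroup.normalizer (F'.P : Set H) ∧ StabilizesBlock (CQ F'.P) F'.e g)
    (he : (CQ F.P).relIndex T = 1 ∨ (CQ F.P).relIndex T = 3)
    (hee : (CQ F'.P).relIndex T' = (CQ F.P).relIndex T) (hcard : Nat.card F.P = 4)
    (hexp : ∀ x : F.P, x ^ 2 = 1) (κ : F'.P ≃* F.P) :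
    ∃ (I : IrrCharacter H → IrrCharacter G) (ε : IrrCharacter H → ℤ),
      IsPerfectIsometry 2 M F'.B F.B I ε := by
  classical
  obtain ⟨n, W, q, hne, hk, hq, hG, hcov, hexpand⟩ := klein_vectors F T hT hcard hexp he
  obtain ⟨n', W', q', hne', hk', hq', hG', hcov', hexpand'⟩ := klein_vectors F' T' hT'
    ((Nat.card_congr κ.toEquiv).trans hcard) (fun x => κ.injective (by rw [map_pow, hexp, map_one]))
    (hee ▸ he)
  letI := Fintype.ofFinite F.P
  letI := Fintype.ofFinite F'.P
  letI := Fintype.ofFinite (F.P →* ℂˣ)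
  letI := Fintype.ofFinite (F'.P →* ℂˣ)
  rw [hee] at hne' hG'
  have hnn : n' = n := by rcases he with he | he <;> rw [he] at hne hne' <;> omega
  subst hnn
  -- the characters and the orbits
  let D : {ψ : F.P →* ℂˣ // ψ ≠ 1} ≃ {ψ : F'.P →* ℂˣ // ψ ≠ 1} :=
    { toFun := fun ψ => ⟨ψ.1.comp κ.toMonoidHom, fun h => ψ.2 (MonoidHom.ext fun z => by
        simpa using DFunLike.congr_fun h (κ.symm z))⟩
      invFun := fun ψ => ⟨ψ.1.comp κ.symm.toMonoidHom, fun h => ψ.2 (MonoidHom.ext fun z => by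
        simpa using DFunLike.congr_fun h (κ z))⟩
      left_inv := fun ψ => Subtype.ext (MonoidHom.ext fun z => by simp)
      right_inv := fun ψ => Subtype.ext (MonoidHom.ext fun z => by simp) }
  obtain ⟨σ, hσ⟩ : ∃ σ : Fin n' ≃ Fin n', ∀ ψ, q' (D ψ) = σ (q ψ) := by
    rcases (Nat.dvd_prime Nat.prime_three).mp ⟨_, hne.symm⟩ with rfl | rfl
    · exact ⟨Equiv.refl _, fun _ => Subsingleton.elim _ _⟩
    · have hN : Fintype.card {ψ : F.P →* ℂˣ // ψ ≠ 1} = 3 := by
        letI : CommGroup F.P := { mul_comm := fun a b => Subtype.ext (F.hab a a.2 b b.2) }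
        rw [Fintype.card_subtype_compl, Fintype.card_subtype_eq, ← Nat.card_eq_fintype_card]
        obtain ⟨eq'⟩ := CommGroup.monoidHom_mulEquiv_of_hasEnoughRootsOfUnity F.P ℂ
        rw [Nat.card_congr eq'.toEquiv, hcard]
      have hbij := (Fintype.bijective_iff_surjective_and_card q).mpr ⟨hq, hN.trans (Fintype.card_fin 3).symm⟩
      have hbij' := (Fintype.bijective_iff_surjective_and_card q').mpr
        ⟨hq', (Fintype.card_congr D).symm.trans (hN.trans (Fintype.card_fin 3).symm)⟩
      exact ⟨(Equiv.ofBijective q hbij).symm.trans (D.trans (Equiv.ofBijective q' hbij')), fun ψ => by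
        simp [Equiv.ofBijective_symm_apply_apply]⟩
  obtain ⟨f, s, hs, hf⟩ := exists_normal_form (by rw [← Nat.card_eq_fintype_card, hk]) hne W hG hcov
  obtain ⟨f', s', hs', hf'⟩ := exists_normal_form (by rw [← Nat.card_eq_fintype_card, hk']) hne'
    (fun i => W' (σ i)) (fun i j => (hG' (σ i) (σ j)).trans (by simp only [σ.injective.eq_iff])) (fun χ => by
      obtain ⟨i, hi⟩ := hcov' χ
      exact ⟨σ.symm i, by rwa [σ.apply_symm_apply]⟩)
  let I : IrrCharacter H → IrrCharacter G := fun η =>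
    if h : η ∈ F'.B then (f (f'.symm ⟨η, h⟩)).1 else F.χ₀
  let ε : IrrCharacter H → ℤ := fun η =>
    if h : η ∈ F'.B then s (f'.symm ⟨η, h⟩) * s' (f'.symm ⟨η, h⟩) else 1
  refine ⟨I, ε, FreeFrame.isPerfectIsometry_of_gv F F' κ.toEquiv I ε ?_ (fun η hη => ?_) fun η hη y => ?_⟩
  · refine ⟨fun η hη => ?_, fun η hη η' hη' h => ?_, fun χ hχ => ?_⟩
    · simp only [I, dif_pos hη]; exact (f _).2
    · simp only [I, dif_pos hη, dif_pos hη'] at h
      exact congrArg Subtype.val (f'.symm.injective (f.injective (Subtype.ext h)))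
    · refine ⟨(f' (f.symm ⟨χ, hχ⟩)).1, (f' (f.symm ⟨χ, hχ⟩)).2, ?_⟩
      simp only [I, dif_pos (f' (f.symm ⟨χ, hχ⟩)).2, Subtype.coe_eta, Equiv.symm_apply_apply,
        Equiv.apply_symm_apply]
  · simp only [ε, dif_pos hη]
    rcases hs (f'.symm ⟨η, hη⟩) with a | a <;> rcases hs' (f'.symm ⟨η, hη⟩) with b | b <;> simp [a, b]
  · obtain ⟨j, hj⟩ : ∃ j, f' j = ⟨η, hη⟩ := ⟨_, f'.apply_symm_apply _⟩
    simp only [I, ε, dif_pos hη, ← hj, Equiv.symm_apply_apply]
    rcases eq_or_ne y 1 with rfl | hy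
    · rw [show κ.toEquiv (1 : F'.P) = 1 from map_one κ, FreeFrame.gv_one, FreeFrame.gv_one, mul_zero]
    have hy' : κ y ≠ 1 := fun h => hy (κ.injective (h.trans (map_one κ).symm))
    have hη' : η = (f' j).1 := by rw [hj]
    rw [show κ.toEquiv y = κ y from rfl, hexpand (f j) (κ y) hy', hη', hexpand' (f' j) y hy,
      Finset.mul_sum, ← Equiv.sum_comp D]
    refine Finset.sum_congr rfl fun ψ _ => ?_
    rw [hσ, hf' (q ψ) j, hf (q ψ) j]
    show _ = ((s' j * pat n' (q ψ) j : ℤ) : ℂ) * (ψ.1 (κ y) : ℂ)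
    have h2 : (s j : ℂ) * (s j : ℂ) = 1 := by rcases hs j with h | h <;> simp [h]
    push_cast
    linear_combination ((s' j : ℂ) * (pat n' (q ψ) j : ℂ) * (ψ.1 (κ y) : ℂ)) * h2

variable {B : Set (IrrCharacter G)} {P K : Subgroup G}

/-- The perfect isometry with the correspondent in an intermediate subgroup. -/
theorem exists_isometry_klein_correspondent [Fintype (IrrCharacter K)] (hM : IsPModular 2 M)
    (hB : IsPBlock M B) (hPD : IsDefectGroup 2 M B P) (hV : IsKleinFour P)
    (hPH : P ≤ K) (hC : CQ P ≤ K) (hN : Subgroup.normalizer (P : Set G) ≤ K)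
    {c : Set (IrrCharacter K)} (hcD : IsDefectGroup 2 M c (P.subgroupOf K))
    (hc : IsInducedBlock M K c B) :
    ∃ (I : IrrCharacter K → IrrCharacter G) (ε : IrrCharacter K → ℤ),
      IsPerfectIsometry 2 M c B I ε := by
  classical
  haveI : Fact (Nat.Prime 2) := ⟨Nat.prime_two⟩
  have := Fintype.ofFinite (ConjClasses K)
  have hcard : Nat.card P = 4 := hV.card_four
  have hexp : ∀ x : P, x ^ 2 = 1 := fun x => by rw [← hV.exponent_two]; exact Monoid.pow_exponent_eq_one x
  have hab : ∀ x ∈ P, ∀ y ∈ P, x * y = y * x := fun x hx y hy => by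
    have h := hexp (⟨x, hx⟩ * ⟨y, hy⟩)
    have hx2 := hexp ⟨x, hx⟩
    have hy2 := hexp ⟨y, hy⟩
    rw [pow_two] at h hx2 hy2
    have e : (⟨x, hx⟩ : P) * ⟨y, hy⟩ = ⟨y, hy⟩ * ⟨x, hx⟩ := by
      rw [← inv_eq_of_mul_eq_one_right h, mul_inv_rev, inv_eq_of_mul_eq_one_right hx2,
        inv_eq_of_mul_eq_one_right hy2]
    exact congrArg Subtype.val e
  have hcb : IsPBlock M c := hc.1
  have hPp : IsPGroup 2 P := isPGroup_defectGroup hM hB hPD
  obtain ⟨g, hg, hne, -⟩ := exists_isSylowCent_of_isDefectGroup hM hcb hcD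
  have hgC : (g : G) ∈ CQ P := Subgroup.mem_centralizer_iff.mpr fun u hu =>
    congrArg Subtype.val (hg.1 ⟨u, hPH hu⟩ hu).eq
  obtain ⟨e, he, heq⟩ := exists_pair_of_block hM hPp hPH hC hcb
    ⟨_, hgC, by rwa [coeff_eG]⟩
  obtain ⟨η₀, hη₀⟩ := isPBlock_nonempty hcb
  have hpair : IsBrauerPairOf 2 M B P e := (isBrauerPairOf_iff_omG hM).mpr ⟨he, hB,
    fun ξ hξ χ hχ z => by
      rw [omG_eq_omG_resHK hC ξ z, heq ξ hξ η₀ hη₀]
      exact (isInducedBlock_iff.mp hc).2.2 η₀ hη₀ χ hχ z⟩
  obtain ⟨T, hT⟩ := exists_stab_subgroup hM he.2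
  -- inside the subgroup
  let φ := cqIn hPH hC
  let κ : P.subgroupOf K ≃* P := Subgroup.subgroupOfEquivOfLe hPH
  have hP'p : IsPGroup 2 (P.subgroupOf K) := hPp.of_equiv κ.symm
  have he' : IsBrauerPair 2 M (P.subgroupOf K) (irrEquiv φ.symm '' e) :=
    ⟨hP'p, isPBlock_image_irrEquiv _ he.2⟩
  have hpair' : IsBrauerPairOf 2 M c (P.subgroupOf K) (irrEquiv φ.symm '' e) :=
    (isBrauerPairOf_iff_omG hM).mpr ⟨he', hcb, by
      rintro _ ⟨ξ, hξ, rfl⟩ η hη w
      rw [omG_cqIn hPH hC ξ w]
      exact heq ξ hξ η hη w⟩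
  have hT' : ∀ x, x ∈ T.subgroupOf K ↔ x ∈ Subgroup.normalizer (P.subgroupOf K : Set K) ∧
      StabilizesBlock (CQ (P.subgroupOf K)) (irrEquiv φ.symm '' e) x := fun x => by
    rw [Subgroup.mem_subgroupOf, hT, mem_normalizer_subgroupOf hPH]
    exact and_congr_right fun hx => (stabilizesBlock_cqIn hPH hC e hx).symm
  have h4 : Nat.card {x : P // x ^ 2 = 1} = 4 := by
    rw [Nat.card_congr (Equiv.subtypeUnivEquiv hexp), hcard]
  have h4' : Nat.card {x : P.subgroupOf K // x ^ 2 = 1} = 4 := by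
    rw [Nat.card_congr (Equiv.subtypeUnivEquiv fun x : P.subgroupOf K =>
      κ.injective (by rw [map_pow, hexp, map_one])), Nat.card_congr κ.toEquiv, hcard]
  obtain ⟨F, hFB, hFP, hFT, hFe⟩ :=
    exists_frame_of_pair hM (isMaximal_of_defect hM hPD hpair) hab h4 hT
  obtain ⟨F', hF'B, hF'P, hF'T, -⟩ :=
    exists_frame_of_pair hM (isMaximal_of_defect hM hcD hpair')
      (fun x hx y hy => Subtype.ext (hab x hx y hy)) h4' hT'
  have hTH : T ≤ K := fun g hg => hN ((hT g).mp hg).1
  have hee : (CQ F'.P).relIndex (T.subgroupOf K) = (CQ F.P).relIndex T := by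
    rw [hF'P, hFP, show CQ (P.subgroupOf K) = (CQ P).subgroupOf K from
      Subgroup.ext fun x => mem_cq_subgroupOf hPH]
    exact Subgroup.relIndex_subgroupOf hTH
  let κ' : F'.P ≃* F.P :=
    ((MulEquiv.subgroupCongr hF'P).trans κ).trans (MulEquiv.subgroupCongr hFP).symm
  obtain ⟨I, ε, h⟩ := exists_isometry_klein F F' T (T.subgroupOf K) hFT hF'T hFe hee
    (by rw [hFP]; exact hcard) (fun x => (MulEquiv.subgroupCongr hFP).injective (by
      rw [map_pow, hexp, map_one])) κ'
  exact ⟨I, ε, hFB ▸ hF'B ▸ h⟩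

end CfsgLib.Block.FreeInertial
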