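import Cfsg.Agent.Lib.Block.FreeInertial.SignGlue
import Cfsg.Agent.Lib.Block.NilpotentChar

/-!
# Removing the phase of a generalized character

A generalized character of an abelian `p`-group with values `N v * d v`, the `N v` natural numbers
prime to `p` and the `d v` integral of absolute value one, becomes `± N v` after multiplication by a
linear character (`exists_signed`).
-/

open Finset Polynomial
open scoped ComplexConjugate

set_option autoImplicit false
set_option linter.unusedSectionVars false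

namespace CfsgLib.Block.FreeInertial

open Cfsg CfsgLib CfsgLib.Block

universe u

variable {A : Type u} [CommGroup A] [Fintype A] {p : ℕ} [hp : Fact p.Prime] (hA : IsPGroup p A)
include hA

/-- The phases square to a linear character. -/
theorem exists_sq_hom {f : A → ℂ} (hf : IsGeneralizedCharacter A f) {N : A → ℕ} {d : A → ℂ}
    (hfd : ∀ v, f v = (N v : ℂ) * d v) (hN : ∀ v, ¬ p ∣ N v) (hd : ∀ v, IsIntegral ℤ (d v))
    (hu : ∀ v, d v * conj (d v) = 1) (h1 : d 1 = 1) :
    ∃ lam : A →* ℂˣ, ∀ v, (lam v : ℂ) = d v ^ 2 := by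
  classical
  have := Fintype.ofFinite (IrrCharacter A)
  have hA0 : (Nat.card A : ℂ) ≠ 0 := Nat.cast_ne_zero.mpr Nat.card_pos.ne'
  have hfc : IsGeneralizedCharacter A (fun v => conj (f v)) := by
    obtain ⟨a, b, ha, hb, rfl⟩ := hf
    exact ⟨_, _, Char.isCharacter_conj ha, Char.isCharacter_conj hb, funext fun v => by simp⟩
  set vals : Finset ℕ := Finset.univ.image fun v => N v ^ 2
  set Qp : Polynomial ℤ := ∏ v ∈ vals, (Polynomial.C (v : ℤ) - Polynomial.X)
  set m : ℤ := Qp.coeff 0 with hmdef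
  have hmv : m = ∏ v ∈ vals, (v : ℤ) := by
    rw [hmdef, coeff_zero_eq_eval_zero, eval_prod]
    simp
  obtain ⟨n, hn⟩ := IsPGroup.iff_card.mp hA
  have hcop : IsCoprime m (Nat.card A : ℤ) := by
    rw [hmv, hn, Nat.cast_pow]
    refine (IsCoprime.prod_left fun v hv => ?_).pow_right
    obtain ⟨y, -, rfl⟩ := Finset.mem_image.mp hv
    exact Nat.isCoprime_iff_coprime.mpr
      ((hp.out.coprime_iff_not_dvd.mpr fun h => hN y (hp.out.dvd_of_dvd_pow h)).symm)
  have hm0 : m ≠ 0 := by
    rw [hmv, Finset.prod_ne_zero_iff]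
    intro v hv
    obtain ⟨y, -, rfl⟩ := Finset.mem_image.mp hv
    exact Int.natCast_ne_zero.mpr fun h => hN y (by
      have := pow_eq_zero_iff (n := 2) two_ne_zero |>.mp h
      simp [this])
  let w : A → ℂ := fun v => - aeval (f v * conj (f v)) Qp.divX
  have hw : ∀ v : A, ((N v : ℂ) ^ 2) * w v = (m : ℂ) := by
    intro v
    have e : f v * conj (f v) = ((N v ^ 2 : ℕ) : ℂ) := by
      rw [hfd, map_mul, map_natCast, Nat.cast_pow]
      linear_combination (N v : ℂ) ^ 2 * hu v
    simp only [w, e]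
    have h : aeval ((N v ^ 2 : ℕ) : ℂ) Qp = 0 := by
      rw [map_prod]
      exact Finset.prod_eq_zero (Finset.mem_image_of_mem (fun v => N v ^ 2) (Finset.mem_univ v))
        (by simp)
    rw [← divX_mul_X_add Qp, map_add, map_mul, aeval_X, aeval_C, algebraMap_int_eq, eq_intCast] at h
    push_cast at h ⊢
    linear_combination -h
  set a : A → ℂ := fun v => d v ^ 2 with ha
  have hma : IsGeneralizedCharacter A (fun v => (m : ℂ) * a v) := by
    have hg := Char.isGeneralizedCharacter_mul (Char.isGeneralizedCharacter_mul hf hf)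
      (Char.isGeneralizedCharacter_neg
        (isGeneralizedCharacter_aeval (Char.isGeneralizedCharacter_mul hf hfc) Qp.divX))
    convert hg using 1
    funext v
    have h := hw v
    simp only [w] at h
    simp only [a, Pi.mul_apply, Pi.neg_apply, hfd v] at h ⊢
    linear_combination (-(d v ^ 2)) * h
  have hagen : IsGen a := by
    intro ψ
    obtain ⟨r, hr⟩ := (isGen_iff.mpr hma) ψ
    obtain ⟨z, hz⟩ := exists_intCast_of_mul_eq (X := fou a ψ / (Nat.card A : ℂ)) hm0 hcop (r := r)
      (by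
        rw [← mul_div_assoc, div_eq_iff hA0, mul_comm (r : ℂ), ← hr, fou, fou, Finset.mul_sum]
        exact Finset.sum_congr rfl fun v _ => by ring)
      (by
        rw [mul_div_cancel₀ _ hA0, fou]
        exact IsIntegral.sum _ fun v _ => ((hd v).pow 2).mul
          (Char.isCharacter_isIntegral (Char.isCharacter_hom ψ) v⁻¹))
    exact ⟨z, by rw [← hz, mul_div_cancel₀ _ hA0]⟩
  obtain ⟨k, hk, hexp, hnorm⟩ := Char.generalized_expand (isGen_iff.mp hagen)
  have hone : classInner a a = 1 := by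
    rw [classInner, Finset.sum_congr rfl (g := fun _ => (1 : ℂ)) fun v _ => by
      simp only [a, map_pow]
      rw [← mul_pow, hu v, one_pow], Finset.sum_const, Finset.card_univ, nsmul_eq_mul, mul_one,
      ← Nat.card_eq_fintype_card, inv_mul_cancel₀ hA0]
  rw [hone] at hnorm
  have hsum : ∑ χ : IrrCharacter A, k χ ^ 2 = 1 := by exact_mod_cast hnorm.symm
  obtain ⟨χ, hχ⟩ : ∃ χ, k χ ≠ 0 := by
    by_contra hall
    push Not at hall
    simp [hall] at hsum
  have hothers : ∀ φ, φ ≠ χ → k φ = 0 := by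
    intro φ hne
    rw [← Finset.sum_erase_add _ _ (Finset.mem_univ χ)] at hsum
    have h1 := Finset.single_le_sum (f := fun φ => k φ ^ 2) (fun φ _ => sq_nonneg _)
      (Finset.mem_erase.mpr ⟨hne, Finset.mem_univ φ⟩)
    have h2 : 0 < k χ ^ 2 := by positivity
    exact pow_eq_zero_iff two_ne_zero |>.mp (le_antisymm (by omega) (sq_nonneg _))
  have haχ : a = (k χ : ℂ) • (χ : A → ℂ) := by
    rw [hexp, Finset.sum_eq_single χ (fun φ _ hne => by rw [hothers φ hne, Int.cast_zero, zero_smul])
      (by simp)]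
  have hdeg : (χ : A → ℂ) 1 = 1 := Char.degree_one_of_comm mul_comm χ
  have hk1 : (k χ : ℂ) = 1 := by
    have := congrFun haχ 1
    simp only [a, h1, one_pow, Pi.smul_apply, smul_eq_mul, hdeg, mul_one] at this
    exact this.symm
  obtain ⟨lam, hlam⟩ := Char.exists_hom_of_linear (Char.isCharacter_irr χ) hdeg
  refine ⟨lam, fun v => ?_⟩
  have := congrFun haχ v
  simp only [a, Pi.smul_apply, smul_eq_mul, hk1, one_mul, hlam] at this
  exact this.symm

/-- A linear character removes the phases. -/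
theorem exists_signed {f : A → ℂ} (hf : IsGeneralizedCharacter A f) {N : A → ℕ} {d : A → ℂ}
    (hfd : ∀ v, f v = (N v : ℂ) * d v) (hN : ∀ v, ¬ p ∣ N v) (hd : ∀ v, IsIntegral ℤ (d v))
    (hu : ∀ v, d v * conj (d v) = 1) (h1 : d 1 = 1) :
    ∃ g : A → ℤ, (IsGen fun v => (g v : ℂ)) ∧ ∀ v, (g v).natAbs = N v := by
  classical
  obtain ⟨lam, hlam⟩ := exists_sq_hom hA hf hfd hN hd hu h1
  have hinv : ∀ v : A, v ^ 2 = 1 → lam v = 1 := by
    intro v hv
    have hv' : v⁻¹ = v := inv_eq_of_mul_eq_one_right (by rw [← sq, hv])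
    have h := Char.generalized_inv hf v
    rw [hv', hfd, map_mul, map_natCast] at h
    have hN0 : (N v : ℂ) ≠ 0 := Nat.cast_ne_zero.mpr fun h0 => hN v (h0 ▸ dvd_zero p)
    refine Units.ext ?_
    rw [hlam, sq, Units.val_one]
    nth_rw 2 [mul_left_cancel₀ hN0 h]
    exact hu v
  let sq2 : A →* A := powMonoidHom 2
  let lam' : sq2.range →* ℂˣ :=
    (QuotientGroup.lift sq2.ker lam fun v hv => hinv v hv).comp
      (QuotientGroup.quotientKerEquivRange sq2).symm.toMonoidHom
  obtain ⟨μ, hμ⟩ := MonoidHom.domRestrict_surjective (M := ℂ) sq2.range lam'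
  have hsq : ∀ v : A, μ v ^ 2 = lam v := by
    intro v
    have h := DFunLike.congr_fun hμ ⟨sq2 v, v, rfl⟩
    rw [← map_pow]
    refine (show μ (v ^ 2) = _ from h).trans ?_
    show QuotientGroup.lift sq2.ker lam (fun w hw => hinv w hw) ((QuotientGroup.quotientKerEquivRange sq2).symm _) = _
    rw [show (⟨sq2 v, v, rfl⟩ : sq2.range) = QuotientGroup.quotientKerEquivRange sq2 (v : A ⧸ sq2.ker)
      from Subtype.ext rfl, MulEquiv.symm_apply_apply]
    rfl
  have hsign : ∀ v, d v * (μ v⁻¹ : ℂ) = 1 ∨ d v * (μ v⁻¹ : ℂ) = -1 := fun v => by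
    refine sq_eq_one_iff.mp ?_
    rw [mul_pow, ← hlam, ← hsq, Units.val_pow_eq_pow_val, ← mul_pow, ← Units.val_mul, ← map_mul,
      mul_inv_cancel, map_one, Units.val_one, one_pow]
  refine ⟨fun v => if d v * (μ v⁻¹ : ℂ) = 1 then (N v : ℤ) else -(N v : ℤ), ?_, fun v => by
    dsimp only; split_ifs <;> simp⟩
  rw [isGen_iff]
  have h := Char.isGeneralizedCharacter_mul hf
    (Char.isGeneralizedCharacter_of_isCharacter (Char.isCharacter_hom (μ⁻¹)))
  convert h using 1
  funext v
  simp only [Pi.mul_apply, hfd v, MonoidHom.inv_apply, ← map_inv, mul_assoc]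
  split_ifs with hc
  · rw [hc]; push_cast; ring
  · rw [(hsign v).resolve_left hc]; push_cast; ring

end CfsgLib.Block.FreeInertial
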