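import Cfsg.Agent.Lib.Block.FreeInertial.Local
import Cfsg.Agent.Lib.Block.FreeInertial.Phase

/-!
# The values of a source idempotent below a free pair

A maximal pair `(P, e)` with abelian `P` on which the stabilizer acts freely modulo the centralizer:
below it the blocks at non-trivial subgroups are nilpotent, and the values `FreeFrame.sv Q` of their rows
at the truncations of a source idempotent are prime to `p`, invariant under the stabilizer, and
satisfy the gluing hypothesis (`FreeFrame.exists_signed_local`).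
-/

open Finset MonoidAlgebra
open scoped ComplexConjugate

set_option autoImplicit false
set_option linter.unusedSectionVars false

namespace CfsgLib.Block.FreeInertial

open Cfsg CfsgLib CfsgLib.Block CfsgLib.Block.CyclicDefect CfsgLib.Block.AbelianDefect
open scoped Pair

universe u

/-- The free situation with a chosen source idempotent. -/
structure FreeFrame (p : ℕ) (M : Ideal AlgInt) [M.IsMaximal] (G : Type u) [Group G] [Fintype G]
    [DecidableEq G] [Fintype (IrrCharacter G)] where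
  hM : IsPModular p M
  B : Set (IrrCharacter G)
  P : Subgroup G
  e : Set (IrrCharacter (CQ P))
  hmax : IsMaximalBrauerPair p M B P e
  hab : ∀ x ∈ P, ∀ y ∈ P, x * y = y * x
  hfree : ∀ g ∈ Subgroup.normalizer (P : Set G), StabilizesBlock (CQ P) e g →
    ∀ x ∈ P, x ≠ 1 → Commute g x → g ∈ CQ P
  χ₀ : IrrCharacter G
  hχ₀ : χ₀ ∈ B
  i : MonoidAlgebra (ResField M) G
  hsrc : IsSourceIdem M P e χ₀ i

variable {p : ℕ} {M : Ideal AlgInt} [M.IsMaximal]

/-- A member with the regular values of the block up to natural factors. -/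
def IsRow {H : Type u} [Group H] (p : ℕ) (b : Set (IrrCharacter H)) (η : IrrCharacter H) : Prop :=
  η ∈ b ∧ ∀ θ ∈ b, ∃ d : ℕ, ∀ t : H, ¬ p ∣ orderOf t → (θ : H → ℂ) t = (d : ℂ) * (η : H → ℂ) t

theorem idemVal_row_eq {H : Type u} [Group H] [Fintype H] [DecidableEq H] [Fintype (IrrCharacter H)]
    (hM : IsPModular p M) {b : Set (IrrCharacter H)} {η η' : IrrCharacter H} (h : IsRow p b η)
    (h' : IsRow p b η') {a : MonoidAlgebra (ResField M) H} (ha : a * a = a) :
    idemVal η a = idemVal η' a := by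
  obtain ⟨d, hd⟩ := h.2 η' h'.1
  obtain ⟨d', hd'⟩ := h'.2 η h.1
  have h1 : ¬ p ∣ orderOf (1 : H) := by rw [orderOf_one]; exact hM.1.not_dvd_one
  have hdd : d' * d = 1 := by
    have h2 := hd' 1 h1
    rw [hd 1 h1, ← mul_assoc, ← Nat.cast_mul] at h2
    refine Nat.cast_injective (R := ℂ) (mul_right_cancel₀ (Char.irr_one_ne_zero η) ?_)
    rw [Nat.cast_one, one_mul]
    exact h2.symm
  refine idemVal_congr_regular hM (fun g hg => ?_) ha
  rw [hd g hg, Nat.eq_one_of_mul_eq_one_left hdd, Nat.cast_one, one_mul]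

variable {G : Type u} [Group G] [Fintype G] [DecidableEq G] [Fintype (IrrCharacter G)]

theorem resTo_idem (hM : IsPModular p M) {Q : Subgroup G} (hQ : IsPGroup p Q)
    {i : MonoidAlgebra (ResField M) G} (hi : i * i = i) (hiQ : CInv Q i) :
    resTo (CQ Q) (trC Q i) * resTo (CQ Q) (trC Q i) = resTo (CQ Q) (trC Q i) := by
  have hinj : Function.Injective
      (emb : MonoidAlgebra (ResField M) (CQ Q) → MonoidAlgebra (ResField M) G) :=
    fun x y hxy => ga_ext fun t => by rw [← coeff_emb_coe (G := G) x t, hxy, coeff_emb_coe]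
  refine hinj ?_
  rw [emb_mul, ← eq_emb_of_suppIn (suppIn_trC i), ← trC_mul hM hQ hiQ hiQ, hi]

namespace FreeFrame

variable (F : FreeFrame p M G)

theorem factPrime (F : FreeFrame p M G) : Fact p.Prime := ⟨F.hM.1⟩

theorem isPGroup_P : IsPGroup p F.P := F.hmax.1.1.1

theorem isLocPt : IsLocPt M F.P F.e F.i :=
  ⟨F.hsrc.idem, F.hsrc.cinv, F.hsrc.br, F.hsrc.trC_ne_zero F.hM F.hmax.1.1.1, F.hsrc.prim⟩

theorem isPGroup_of_le {Q : Subgroup G} (hQ : Q ≤ F.P) : IsPGroup p Q := F.isPGroup_P.to_le hQ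

/-- Below a non-trivial subgroup the block is nilpotent. -/
theorem nilpotent_below {Q : Subgroup G} (hQ1 : Q ≠ ⊥) {g : Set (IrrCharacter (CQ Q))}
    (hle : SubpairLE p M Q g F.P F.e) [Fintype (IrrCharacter (CQ Q))] : IsNilpotentBlock p M g := by
  have hQP := SubpairLE.le hle
  refine isNilpotentBlock_of_stab_le F.hM (isMaximal_local F.hM F.hmax F.hab hle)
    (subgroupOf_comm F.hab) fun t htN htS => ?_
  obtain ⟨h1, h2⟩ := (local_stabilizes_iff (le_cq F.hab hQP) (cq_mono hQP)).mp ⟨htN, htS⟩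
  obtain ⟨x, hxQ, hx1⟩ := Q.ne_bot_iff_exists_ne_one.mp hQ1 |> fun ⟨x, hx⟩ =>
    (⟨x.1, x.2, fun h => hx (Subtype.ext h)⟩ : ∃ x, x ∈ Q ∧ x ≠ 1)
  have hcom : Commute (t : G) x := (Subgroup.mem_centralizer_iff.mp t.2 x hxQ).symm
  have htP := F.hfree _ h1 h2 x (hQP hxQ) hx1 hcom
  exact Subgroup.mem_centralizer_iff.mpr fun w hw =>
    Subtype.ext (Subgroup.mem_centralizer_iff.mp htP _ (Subgroup.mem_subgroupOf.mp hw))

theorem exists_row {Q : Subgroup G} (hQ1 : Q ≠ ⊥) {g : Set (IrrCharacter (CQ Q))}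
    (hle : SubpairLE p M Q g F.P F.e) : ∃ η, IsRow p g η := by
  have := Fintype.ofFinite (IrrCharacter (CQ Q))
  obtain ⟨η, hη, hrows, -⟩ := isNilpotentBlock_unitRow F.hM (F.nilpotent_below hQ1 hle)
  exact ⟨η, hη, hrows⟩

open scoped Classical in
/-- The value of the row at the truncation of the source idempotent. -/
noncomputable def sv (Q : Subgroup G) : ℕ :=
  if h : ∃ (g : Set (IrrCharacter (CQ Q))) (η : IrrCharacter (CQ Q)),
      SubpairLE p M Q g F.P F.e ∧ IsRow p g η
  then idemVal h.choose_spec.choose (resTo (CQ Q) (trC Q F.i)) else 0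

theorem sv_eq {Q : Subgroup G} {g : Set (IrrCharacter (CQ Q))}
    (hle : SubpairLE p M Q g F.P F.e) {η : IrrCharacter (CQ Q)} (hη : IsRow p g η) :
    F.sv Q = idemVal η (resTo (CQ Q) (trC Q F.i)) := by
  classical
  have := Fintype.ofFinite (IrrCharacter (CQ Q))
  have hex : ∃ (g : Set (IrrCharacter (CQ Q))) (η : IrrCharacter (CQ Q)),
      SubpairLE p M Q g F.P F.e ∧ IsRow p g η := ⟨g, η, hle, hη⟩
  rw [sv, dif_pos hex]
  obtain ⟨h1, h2⟩ := hex.choose_spec.choose_spec
  have hQP := SubpairLE.le hle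
  exact idemVal_row_eq F.hM (SubpairLE.unique F.hM F.hmax.1.1 h1 hle ▸ h2) hη
    (resTo_idem F.hM (F.isPGroup_of_le hQP) F.hsrc.idem (F.hsrc.cinv.mono hQP))

/-- The value transported to a centralizer inside a centralizer. -/
theorem sv_sup {Q : Subgroup G} {g : Set (IrrCharacter (CQ Q))}
    (hle : SubpairLE p M Q g F.P F.e) {R : Subgroup (CQ Q)} {b : Set (IrrCharacter (CQ R))}
    (hb : SubpairLE p M R b (F.P.subgroupOf (CQ Q))
      (locE (le_cq F.hab (SubpairLE.le hle)) (cq_mono (SubpairLE.le hle)) F.e))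
    [Fintype (IrrCharacter (CQ R))] {η : IrrCharacter (CQ R)} (hη : IsRow p b η)
    {S : Subgroup G} (hS : Q ⊔ R.map (CQ Q).subtype = S) :
    idemVal η (resTo (CQ R) (trC R (resTo (CQ Q) (trC Q F.i)))) = F.sv S := by
  classical
  subst hS
  have hQP := SubpairLE.le hle
  have hRP : R ≤ F.P.subgroupOf (CQ Q) := SubpairLE.le hb
  have := Fintype.ofFinite (IrrCharacter (CQ Q))
  have := Fintype.ofFinite (IrrCharacter (CQ (Q ⊔ R.map (CQ Q).subtype)))
  have hloc := isMaximal_local F.hM F.hmax F.hab hle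
  have hPR : F.P.subgroupOf (CQ Q) ≤ CQ R := le_cq (subgroupOf_comm F.hab) hRP
  have hSP : Q ⊔ R.map (CQ Q).subtype ≤ F.P :=
    sup_le hQP (by rintro _ ⟨r, hr, rfl⟩; exact Subgroup.mem_subgroupOf.mp (hRP hr))
  obtain ⟨g₀, -, hg₀⟩ := exists_subpairLE F.hM F.hmax.1.1 _ hSP
  have h1 := isInducedBlockIn_of_nSub F.hM
    (nSub_of_le F.hM hloc.1.1 (subgroupOf_comm F.hab) hb) hPR
  have h2 := isInducedBlockIn_map (CQ Q).subtype Subtype.val_injective (cqEquiv R)
    (cqInT (cq_mono hQP) (le_cq F.hab hQP)).symm (fun _ => rfl) (fun _ => rfl) h1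
  have himg : irrEquiv (cqInT (cq_mono hQP) (le_cq F.hab hQP)).symm ''
      locE (le_cq F.hab hQP) (cq_mono hQP) F.e = F.e := by
    rw [locE, Set.image_image]
    convert Set.image_id F.e with χ hχ
    exact Subtype.ext (funext fun k => by simp)
  rw [himg] at h2
  have hns := nSub_of_le F.hM F.hmax.1.1 F.hab hg₀
  have h3 := isInducedBlockIn_of_nSub F.hM hns (le_cq F.hab hns.le)
  have hg : g₀ = irrEquiv (cqEquiv R) '' b := inducedBlockIn_unique (cq_mono hns.le) h3 h2
  have hrow : IsRow p g₀ (irrEquiv (cqEquiv R) η) := by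
    subst hg
    refine ⟨⟨η, hη.1, rfl⟩, ?_⟩
    rintro _ ⟨θ, hθ, rfl⟩
    obtain ⟨d, hd⟩ := hη.2 θ hθ
    exact ⟨d, fun t ht => by
      rw [irrEquiv_apply, irrEquiv_apply]
      exact hd _ (by rwa [(cqEquiv R).symm.orderOf_eq])⟩
  rw [F.sv_eq hg₀ hrow]
  refine (idemVal_equiv F.hM (cqEquiv R) η ?_ fun x => ?_).symm
  · exact resTo_idem F.hM
      (((F.isPGroup_of_le (le_refl F.P)).of_equiv (Subgroup.subgroupOfEquivOfLe
        (le_cq F.hab hQP)).symm).to_le hRP)
      (resTo_idem F.hM (F.isPGroup_of_le hQP) F.hsrc.idem (F.hsrc.cinv.mono hQP))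
      (fun s hs t => by
        have hsP : (s : G) ∈ F.P := Subgroup.mem_subgroupOf.mp (hRP hs)
        have hcj : ((s * t * s⁻¹ : CQ Q) : G) = (s : G) * (t : G) * (s : G)⁻¹ := rfl
        rw [coeff_resTo, coeff_resTo, hcj, coeff_trC _ t.2,
          coeff_trC _ (by rw [← hcj]; exact (s * t * s⁻¹ : CQ Q).2)]
        exact F.hsrc.cinv (s : G) hsP (t : G))
  · rw [coeff_resTo, coeff_resTo, coeff_trC _ (cqEquiv R x).2, coeff_trC _ x.2, coeff_resTo,
      coeff_trC _ (x : CQ Q).2]
    rfl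

/-- The truncation is a local point inside the centralizer. -/
theorem isLocPt_local {Q : Subgroup G} {g : Set (IrrCharacter (CQ Q))}
    (hle : SubpairLE p M Q g F.P F.e) [Fintype (IrrCharacter (CQ Q))] :
    IsLocPt M (F.P.subgroupOf (CQ Q))
      (locE (le_cq F.hab (SubpairLE.le hle)) (cq_mono (SubpairLE.le hle)) F.e)
      (resTo (CQ Q) (trC Q F.i)) := by
  classical
  have hQP := SubpairLE.le hle
  have hPC := le_cq F.hab hQP
  have hQp := F.isPGroup_of_le hQP
  have hiQ := F.hsrc.cinv.mono hQP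
  have hinj : Function.Injective
      (emb : MonoidAlgebra (ResField M) (CQ Q) → MonoidAlgebra (ResField M) G) :=
    fun x y hxy => ga_ext fun t => by rw [← coeff_emb_coe (G := G) x t, hxy, coeff_emb_coe]
  have hemb : emb (resTo (CQ Q) (trC Q F.i)) = trC Q F.i := (eq_emb_of_suppIn (suppIn_trC _)).symm
  have := F.factPrime
  have := charP_resField F.hM
  have := isAlgClosed_resField (M := M)
  have hC : CQ F.P ≤ CQ Q := cq_mono hQP
  have e1 : emb (trC (F.P.subgroupOf (CQ Q)) (resTo (CQ Q) (trC Q F.i))) = trC F.P F.i := by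
    refine ga_ext fun x => ?_
    by_cases hx : x ∈ CQ Q
    · rw [show x = ((⟨x, hx⟩ : CQ Q) : G) from rfl, coeff_emb_coe]
      by_cases hxP : x ∈ CQ F.P
      · have hx' : (⟨x, hx⟩ : CQ Q) ∈ CQ (F.P.subgroupOf (CQ Q)) := (cqInT hC hPC ⟨x, hxP⟩).2
        rw [coeff_trC _ hxP, coeff_trC _ hx', coeff_resTo, coeff_trC _ hx]
      · rw [suppIn_trC _ _ hxP, suppIn_trC _ _ (fun h => hxP
          ((cqInT hC hPC).symm ⟨⟨x, hx⟩, h⟩).2)]
    · rw [suppIn_emb _ _ hx, suppIn_trC _ _ (fun h => hx (hC h))]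
  refine ⟨resTo_idem F.hM hQp F.hsrc.idem hiQ, fun s hs t => ?_, ?_, fun h0 => ?_, fun ε hε hεP hεi hiε => ?_⟩
  · have hcj : ((s * t * s⁻¹ : CQ Q) : G) = (s : G) * (t : G) * (s : G)⁻¹ := rfl
    rw [coeff_resTo, coeff_resTo, hcj, coeff_trC _ t.2,
      coeff_trC _ (by rw [← hcj]; exact (s * t * s⁻¹ : CQ Q).2)]
    exact F.hsrc.cinv (s : G) (Subgroup.mem_subgroupOf.mp hs) (t : G)
  · refine hinj ?_
    have e2 : emb (eG M (locE hPC hC F.e)) = eG M F.e := by
      refine ga_ext fun x => ?_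
      by_cases hx : x ∈ CQ Q
      · rw [show x = ((⟨x, hx⟩ : CQ Q) : G) from rfl, coeff_emb_coe]
        by_cases hxP : x ∈ CQ F.P
        · refine (coeff_eG (M := M) (locE hPC hC F.e) (cqInT hC hPC ⟨x, hxP⟩)).trans ?_
          refine Eq.trans ?_ (coeff_eG (M := M) F.e ⟨x, hxP⟩).symm
          have := Fintype.ofFinite (IrrCharacter (CQ F.P))
          have := Fintype.ofFinite (IrrCharacter (CQ (F.P.subgroupOf (CQ Q))))
          refine congrArg (res M) (Subtype.ext ?_)
          rw [locE, coe_coeff_blockIdem F.hM (IsBlockUnion.of_isPBlock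
              (isPBlock_image_irrEquiv _ F.hmax.1.1.2)),
            coe_coeff_blockIdem F.hM (IsBlockUnion.of_isPBlock F.hmax.1.1.2),
            blockCoeff_image_irrEquiv]
        · rw [suppIn_eG _ _ hxP, suppIn_eG _ _ (fun h => hxP
            ((cqInT hC hPC).symm ⟨⟨x, hx⟩, h⟩).2)]
      · rw [suppIn_emb _ _ hx, suppIn_eG _ _ (fun h => hx (hC h))]
    rw [emb_mul, e1, e2]
    exact F.hsrc.br
  · refine F.hsrc.trC_ne_zero F.hM F.isPGroup_P (e1.symm.trans ?_)
    rw [h0]
    exact ga_ext fun x => by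
      by_cases hx : x ∈ CQ Q
      · rw [show x = ((⟨x, hx⟩ : CQ Q) : G) from rfl, coeff_emb_coe]; simp
      · rw [suppIn_emb _ _ hx]; simp
  · have hj : Points.IsPt (⟨F.i, F.hsrc.cinv⟩ : fixAlg M F.P) := ⟨Subtype.ext F.hsrc.idem,
      fun h => F.hsrc.trB_ne (by
        rw [show F.i = 0 from congrArg Subtype.val h]
        simp [trB]),
      fun a ha h1 h2 => (F.hsrc.prim a.1 (congrArg Subtype.val ha) a.2 (congrArg Subtype.val h2)
        (congrArg Subtype.val h1)).imp (fun h => Subtype.ext h) fun h => Subtype.ext h⟩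
    have hEP : CInv F.P (emb ε : MonoidAlgebra (ResField M) G) := by
      intro s hs x
      by_cases hx : x ∈ CQ Q
      · have hs' : s ∈ CQ Q := hPC hs
        have := hεP ⟨s, hs'⟩ (Subgroup.mem_subgroupOf.mpr hs) ⟨x, hx⟩
        rw [← coeff_emb_coe (G := G) ε, ← coeff_emb_coe (G := G) ε] at this
        simpa using this
      · have hx' : s * x * s⁻¹ ∉ CQ Q := fun h => hx (by
          have h1 := (CQ Q).mul_mem ((CQ Q).mul_mem ((CQ Q).inv_mem (hPC hs)) h) (hPC hs)
          rwa [show s⁻¹ * (s * x * s⁻¹) * s = x by group] at h1)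
        rw [suppIn_emb ε _ hx, suppIn_emb ε _ hx']
    let E : fixAlg M F.P := ⟨emb ε, hEP⟩
    let I : fixAlg M F.P := ⟨F.i, F.hsrc.cinv⟩
    obtain ⟨m, hm⟩ := Points.val_nil (k := ResField M) hj E
    set c := Points.val (ResField M) hj E
    have htrε : trC Q (emb ε : MonoidAlgebra (ResField M) G) = emb ε := ga_ext fun x => by
      by_cases hx : x ∈ CQ Q
      · rw [coeff_trC _ hx]
      · rw [suppIn_trC _ _ hx, suppIn_emb ε _ hx]
    set z := F.i * emb ε * F.i - c • F.i with hz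
    have hzP : CInv F.P z := (I * E * I - c • I).2
    have htrz : trC Q z = emb (ε - c • resTo (CQ Q) (trC Q F.i)) := by
      have h1 : trC Q (F.i * emb ε * F.i) = emb ε := by
        rw [trC_mul F.hM hQp (hiQ.mul (hEP.mono hQP)) hiQ, trC_mul F.hM hQp hiQ (hEP.mono hQP),
          htrε, ← hemb, ← emb_mul, ← emb_mul, hiε, hεi]
      refine ga_ext fun x => ?_
      by_cases hx : x ∈ CQ Q
      · rw [coeff_trC _ hx, show x = ((⟨x, hx⟩ : CQ Q) : G) from rfl, coeff_emb_coe, hz,
          MonoidAlgebra.coeff_sub, Finsupp.sub_apply, ← coeff_trC (F.i * emb ε * F.i) hx, h1,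
          MonoidAlgebra.coeff_sub, Finsupp.sub_apply]
        simp [coeff_emb_coe, coeff_trC _ hx]
        exact coeff_emb_coe ε ⟨x, hx⟩
      · rw [suppIn_trC _ _ hx, suppIn_emb _ _ hx]
    have hpow : ∀ l, trC Q (z ^ (l + 1)) = emb ((ε - c • resTo (CQ Q) (trC Q F.i)) ^ (l + 1)) := by
      intro l
      induction l with
      | zero => rw [pow_one, pow_one, htrz]
      | succ l ih =>
        rw [pow_succ, trC_mul F.hM hQp (cinv_of_commute fun s hs => ((hzP.mono hQP).commute hs).pow_right _)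
          (hzP.mono hQP), ih, htrz, pow_succ _ (l + 1), emb_mul]
    have hnil : IsNilpotent (ε - c • resTo (CQ Q) (trC Q F.i)) := by
      refine ⟨m + 1, hinj ?_⟩
      rw [← hpow, show z ^ (m + 1) = ((I * E * I - c • I) ^ (m + 1) : fixAlg M F.P).1 from rfl,
        pow_succ, hm, zero_mul, ZeroMemClass.coe_zero, trC_zero]
      exact ga_ext fun x => by
        by_cases hx : x ∈ CQ Q
        · rw [show x = ((⟨x, hx⟩ : CQ Q) : G) from rfl, coeff_emb_coe]; simp
        · rw [suppIn_emb _ _ hx]; simp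
    set iQ := resTo (CQ Q) (trC Q F.i)
    have hiQidem : iQ * iQ = iQ := resTo_idem F.hM hQp F.hsrc.idem hiQ
    by_cases hc : c = 1
    · right
      rw [hc, one_smul] at hnil
      obtain ⟨l, hl⟩ := hnil
      have hid : (iQ - ε) * (iQ - ε) = iQ - ε := by
        rw [mul_sub, sub_mul, sub_mul, hiQidem, hε, hiε, hεi]
        abel
      have hpow' : ∀ l, (iQ - ε) ^ (l + 1) = iQ - ε := by
        intro l
        induction l with
        | zero => rw [pow_one]
        | succ l ih => rw [pow_succ, ih, hid]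
      have h0 : (iQ - ε) ^ (l + 1) = 0 := by
        rw [show iQ - ε = -(ε - iQ) by abel, neg_pow, pow_succ (ε - iQ) l, hl, zero_mul, mul_zero]
      rw [hpow'] at h0
      exact (sub_eq_zero.mp h0).symm
    · left
      obtain ⟨l, hl⟩ := hnil
      have hmul : ∀ l, ε * (ε - c • iQ) ^ l = (1 - c) ^ l • ε := by
        intro l
        induction l with
        | zero => simp
        | succ l ih =>
          rw [pow_succ, ← mul_assoc, ih, smul_mul_assoc, mul_sub, mul_smul_comm, hε, hεi, smul_sub,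
            smul_smul, ← sub_smul, pow_succ]
          congr 1
          ring
      have h0 := hmul l
      rw [hl, mul_zero] at h0
      exact (smul_eq_zero.mp h0.symm).resolve_left (pow_ne_zero _ (sub_ne_zero.mpr (Ne.symm hc)))

end FreeFrame

end CfsgLib.Block.FreeInertial
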