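import Cfsg.Agent.Lib.Block.CycloTrace
import Cfsg.Agent.Lib.Char.VectorPermChar
import Cfsg.Agent.Lib.Char.Linear
import Cfsg.Agent.Lib.Char.Induction
import Cfsg.Agent.Lib.Char.ExtendChar
import Mathlib.GroupTheory.FiniteAbelian.Duality

/-!
# Gluing signed values on a finite abelian `p`-group

Rational generalized characters of an abelian `p`-group are constant modulo `p`, and affine modulo
`4` for `p = 2`.  Given numbers `S R` on the non-trivial subgroups such that for each `R` some
rational generalized character takes at `v` the values `± S (R ⊔ ⟨v⟩)`, the signs can be chosen so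
that `y ↦ ± S ⟨y⟩` is a generalized character off the identity (`exists_glue`).
-/

open Finset
open scoped ComplexConjugate

set_option autoImplicit false
set_option linter.unusedSectionVars false

namespace CfsgLib.Block.FreeInertial

open Cfsg CfsgLib

universe u

attribute [-instance] MonoidHom.instPow

variable {A : Type u} [CommGroup A] [Fintype A]

theorem hom_pow_apply (ψ : A →* ℂˣ) (n : ℕ) (v : A) : (ψ ^ n) v = ψ v ^ n := by
  induction n with
  | zero => simp
  | succ n ih => rw [pow_succ, pow_succ, MonoidHom.mul_apply, ih]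

/-- The Fourier sum. -/
def fou (f : A → ℂ) (ψ : A →* ℂˣ) : ℂ := ∑ v : A, f v * (ψ v⁻¹ : ℂ)

/-- Integral Fourier coefficients. -/
def IsGen (f : A → ℂ) : Prop := ∀ ψ : A →* ℂˣ, ∃ z : ℤ, fou f ψ = (Nat.card A : ℂ) * z

theorem conj_lin (ψ : A →* ℂˣ) (v : A) : conj (ψ v : ℂ) = (ψ v⁻¹ : ℂ) := by
  have hn : ((ψ v : ℂˣ) : ℂ) ^ Nat.card A = 1 := by
    rw [← Units.val_pow_eq_pow_val, ← map_pow, pow_card_eq_one', map_one, Units.val_one]
  rw [map_inv, Units.val_inv_eq_inv_val]
  exact (Complex.inv_eq_conj (Complex.norm_eq_one_of_pow_eq_one hn Nat.card_pos.ne')).symm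

theorem isGen_iff {f : A → ℂ} : IsGen f ↔ IsGeneralizedCharacter A f := by
  classical
  have key : ∀ (ψ : A →* ℂˣ), (Nat.card A : ℂ) * classInner f (fun v => (ψ v : ℂ)) = fou f ψ := by
    intro ψ
    rw [classInner, ← mul_assoc, mul_inv_cancel₀ (Nat.cast_ne_zero.mpr Nat.card_pos.ne'), one_mul]
    exact Finset.sum_congr rfl fun v _ => by rw [conj_lin]
  constructor
  · intro h
    refine Char.isGeneralizedCharacter_of_int_inner (fun g u => by rw [mul_comm u g, mul_inv_cancel_right])
      fun χ => ?_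
    obtain ⟨φ, hφ⟩ := Char.exists_hom_of_linear (Char.isCharacter_irr χ)
      (Char.degree_one_of_comm mul_comm χ)
    obtain ⟨z, hz⟩ := h φ
    refine ⟨z, mul_left_cancel₀ (Nat.cast_ne_zero.mpr Nat.card_pos.ne' : (Nat.card A : ℂ) ≠ 0) ?_⟩
    rw [hφ, key, hz]
  · intro h ψ
    obtain ⟨z, hz⟩ := Char.classInner_generalized_int h
      (Char.isGeneralizedCharacter_of_isCharacter (Char.isCharacter_hom ψ))
    exact ⟨z, by rw [← key, hz]⟩

theorem fou_inv_sum [Fintype (A →* ℂˣ)] (f : A → ℂ) (v : A) :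
    ∑ ψ : A →* ℂˣ, fou f ψ * (ψ v : ℂ) = (Nat.card A : ℂ) * f v := by
  classical
  have hcard : Fintype.card (A →* ℂˣ) = Nat.card A := by
    rw [← Nat.card_eq_fintype_card]
    obtain ⟨eq⟩ := CommGroup.monoidHom_mulEquiv_of_hasEnoughRootsOfUnity A ℂ
    exact Nat.card_congr eq.toEquiv
  simp only [fou, Finset.sum_mul]
  rw [Finset.sum_comm, Finset.sum_eq_single v]
  · rw [Finset.sum_congr rfl (g := fun _ => f v) fun ψ _ => by
      rw [mul_assoc, ← Units.val_mul, ← map_mul, inv_mul_cancel, map_one, Units.val_one, mul_one],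
      Finset.sum_const, Finset.card_univ, hcard, nsmul_eq_mul]
  · intro w _ hw
    rw [Finset.sum_congr rfl (g := fun ψ : A →* ℂˣ => f w * (ψ (w⁻¹ * v) : ℂ)) fun ψ _ => by
      rw [map_mul, Units.val_mul, mul_assoc],
      ← Finset.mul_sum, Char.sum_hom_units (by rwa [ne_eq, inv_mul_eq_one]), mul_zero]
  · simp

/-! ### Rational generalized characters -/

variable {p : ℕ} [hp : Fact p.Prime] (hA : IsPGroup p A)
include hA

theorem pAut_apply (φ : A →* ℂˣ) {a : ℕ} (ha : a.Coprime p) (v : A) {k : ℕ}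
    (hk : Nat.card A ∣ p ^ (k + 1)) : pAut p k a (φ v : ℂ) = (φ (v ^ a) : ℂ) := by
  rw [pAut_root ha, map_pow, Units.val_pow_eq_pow_val]
  obtain ⟨c, hc⟩ := hk
  rw [hc, pow_mul, ← Units.val_pow_eq_pow_val, ← map_pow, pow_card_eq_one', map_one, Units.val_one,
    one_pow]

theorem apply_pow_eq {g : A → ℤ} (hg : IsGen fun v => (g v : ℂ)) {a : ℕ} (ha : a.Coprime p) (v : A) :
    g (v ^ a) = g v := by
  classical
  have := Fintype.ofFinite (A →* ℂˣ)
  obtain ⟨k, hk⟩ := IsPGroup.iff_card.mp hA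
  have hk' : Nat.card A ∣ p ^ (k + 1) := hk ▸ pow_dvd_pow p k.le_succ
  choose z hz using hg
  have hexp : ∀ w : A, (g w : ℂ) = ∑ ψ : A →* ℂˣ, (z ψ : ℂ) * (ψ w : ℂ) := by
    intro w
    refine mul_left_cancel₀ (Nat.cast_ne_zero.mpr Nat.card_pos.ne' : (Nat.card A : ℂ) ≠ 0) ?_
    rw [← fou_inv_sum (fun v => (g v : ℂ)) w, Finset.mul_sum]
    exact Finset.sum_congr rfl fun ψ _ => by rw [hz, mul_assoc]
  have h1 := congrArg (pAut p k a) (hexp v)
  rw [map_intCast, map_sum] at h1
  have h2 : (g (v ^ a) : ℂ) = g v := by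
    rw [h1, hexp (v ^ a)]
    exact Finset.sum_congr rfl fun ψ _ => by rw [map_mul, map_intCast, pAut_apply hA ψ ha v hk']
  exact_mod_cast h2

theorem coeff_pow {g : A → ℤ} (hg : IsGen fun v => (g v : ℂ)) {a : ℕ} (ha : a.Coprime p)
    (ψ : A →* ℂˣ) : fou (fun v => (g v : ℂ)) (ψ ^ a) = fou (fun v => (g v : ℂ)) ψ := by
  classical
  obtain ⟨k, hk⟩ := IsPGroup.iff_card.mp hA
  have hco : (Nat.card A).Coprime a := hk ▸ (ha.symm.pow_left k)
  refine Fintype.sum_equiv (powCoprime hco) _ _ fun v => ?_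
  show (g v : ℂ) * (((ψ ^ a) v⁻¹ : ℂˣ) : ℂ) = (g (v ^ a) : ℂ) * ((ψ (v ^ a)⁻¹ : ℂˣ) : ℂ)
  rw [apply_pow_eq hA hg ha, ← inv_pow, map_pow, hom_pow_apply]

omit hA in
/-- The sum over the generators of a cyclic group of roots of unity. -/
theorem orbit_sum {t : ℕ} (x : ℂ) (hx : x ^ p ^ (t + 1) = 1) :
    ∑ a ∈ (Finset.range (p ^ (t + 1))).filter (fun a => a.Coprime p), x ^ a =
      (p : ℂ) ^ (t + 1) * (if x = 1 then 1 else 0) - (p : ℂ) ^ t * if x ^ p = 1 then 1 else 0 := by
  have hgeom : ∀ {y : ℂ} {n : ℕ}, y ^ n = 1 →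
      ∑ a ∈ Finset.range n, y ^ a = if y = 1 then (n : ℂ) else 0 := by
    intro y n hy
    split_ifs with h
    · simp [h]
    · rw [geom_sum_eq h, hy, sub_self, zero_div]
  rw [sum_coprime_pow, hgeom hx, hgeom (y := x ^ p) (n := p ^ t) (by rw [← pow_mul, ← pow_succ']; exact hx)]
  push_cast
  split_ifs <;> ring

/-- Induction over rational generalized characters. -/
theorem rational_induction {Φ : (A → ℤ) → Prop} (hconst : ∀ c : ℤ, Φ fun _ => c)
    (hadd : ∀ f g, Φ f → Φ g → Φ (f + g)) (hsmul : ∀ (c : ℤ) f, Φ f → Φ (c • f))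
    (horb : ∀ (ψ : A →* ℂˣ) (t : ℕ), orderOf ψ = p ^ (t + 1) →
      Φ fun v => (p : ℤ) ^ (t + 1) * (if ψ v = 1 then 1 else 0) -
        (p : ℤ) ^ t * if ψ v ^ p = 1 then 1 else 0)
    {g : A → ℤ} (hg : IsGen fun v => (g v : ℂ)) : Φ g := by
  classical
  have := Fintype.ofFinite (A →* ℂˣ)
  choose z hz using hg
  suffices H : ∀ (n : ℕ) (b : (A →* ℂˣ) → ℤ), (Finset.univ.filter fun ψ => b ψ ≠ 0).card = n →
      (∀ a : ℕ, a.Coprime p → ∀ ψ, b (ψ ^ a) = b ψ) →
      ∀ f : A → ℤ, (∀ v, (f v : ℂ) = ∑ ψ : A →* ℂˣ, (b ψ : ℂ) * (ψ v : ℂ)) → Φ f by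
    refine H _ z rfl (fun a ha ψ => ?_) g fun v => ?_
    · have h := coeff_pow hA (g := g) (fun ψ => ⟨z ψ, hz ψ⟩) ha ψ
      rw [hz, hz] at h
      exact_mod_cast mul_left_cancel₀ (Nat.cast_ne_zero.mpr Nat.card_pos.ne') h
    · refine mul_left_cancel₀ (Nat.cast_ne_zero.mpr Nat.card_pos.ne' : (Nat.card A : ℂ) ≠ 0) ?_
      rw [← fou_inv_sum (fun v => (g v : ℂ)) v, Finset.mul_sum]
      exact Finset.sum_congr rfl fun ψ _ => by rw [hz, mul_assoc]
  intro n
  induction n using Nat.strong_induction_on with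
  | _ n ih =>
  intro b hn hb f hf
  by_cases hne : ∃ ψ, b ψ ≠ 0
  swap
  · push Not at hne
    have h0 : f = fun _ => (0 : ℤ) := funext fun v => by
      have := hf v
      simp only [hne, Int.cast_zero, zero_mul, Finset.sum_const_zero, Int.cast_eq_zero] at this
      exact this
    exact h0 ▸ hconst 0
  obtain ⟨ψ, hψ⟩ := hne
  obtain ⟨l, hl⟩ : ∃ l, orderOf ψ = p ^ l := by
    obtain ⟨k, hk⟩ := IsPGroup.iff_card.mp hA
    have h1 : ψ ^ p ^ k = 1 := MonoidHom.ext fun v => by
      rw [hom_pow_apply, ← map_pow, ← hk, pow_card_eq_one', map_one, MonoidHom.one_apply]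
    obtain ⟨l, -, hl⟩ := (Nat.dvd_prime_pow hp.out).mp (orderOf_dvd_of_pow_eq_one (G := A →* ℂˣ) h1)
    exact ⟨l, hl⟩
  -- the function of the orbit of `ψ`
  obtain ⟨O, h, hO1, hOa, hh, hΦ⟩ : ∃ (O : Finset (A →* ℂˣ)) (h : A → ℤ), ψ ∈ O ∧
      (∀ a : ℕ, a.Coprime p → ∀ φ, φ ^ a ∈ O ↔ φ ∈ O) ∧
      (∀ v, (h v : ℂ) = ∑ φ ∈ O, (φ v : ℂ)) ∧ (Φ h ∧ ∀ φ ∈ O, b φ = b ψ) := by
    cases l with
    | zero =>
      rw [pow_zero, orderOf_eq_one_iff] at hl
      subst hl
      refine ⟨{1}, fun _ => 1, Finset.mem_singleton_self _, fun a ha φ => ?_, fun v => by simp,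
        hconst 1, fun φ hφ => by rw [Finset.mem_singleton.mp hφ]⟩
      simp only [Finset.mem_singleton]
      refine ⟨fun h => ?_, fun h => by rw [h, one_pow]⟩
      obtain ⟨k, hk⟩ := IsPGroup.iff_card.mp hA
      refine orderOf_eq_one_iff.mp (Nat.eq_one_of_dvd_coprimes ha (orderOf_dvd_of_pow_eq_one (G := A →* ℂˣ) h) ?_)
      have h1 : φ ^ p ^ k = 1 := MonoidHom.ext fun v => by
        rw [hom_pow_apply, ← map_pow, ← hk, pow_card_eq_one', map_one, MonoidHom.one_apply]
      obtain ⟨m, -, hm⟩ := (Nat.dvd_prime_pow hp.out).mp (orderOf_dvd_of_pow_eq_one (G := A →* ℂˣ) h1)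
      rcases Nat.eq_zero_or_pos m with h0 | h0
      · rw [hm, h0, pow_zero]
        exact one_dvd _
      · exfalso
        have : p ∣ a := (dvd_pow_self p h0.ne').trans (hm ▸ orderOf_dvd_of_pow_eq_one h)
        exact hp.out.ne_one (Nat.eq_one_of_dvd_coprimes ha this dvd_rfl)
    | succ t =>
      set J := (Finset.range (p ^ (t + 1))).filter (fun a => a.Coprime p) with hJ
      refine ⟨J.image (ψ ^ ·), _, ?_, fun a ha φ => ?_, fun v => ?_, horb ψ t hl, ?_⟩
      · exact Finset.mem_image.mpr ⟨1, Finset.mem_filter.mpr ⟨Finset.mem_range.mpr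
          (Nat.one_lt_pow (Nat.succ_ne_zero t) hp.out.one_lt), Nat.coprime_one_left p⟩, pow_one ψ⟩
      · have hred : ∀ m : ℕ, m.Coprime p → ψ ^ m ∈ J.image (ψ ^ ·) := fun m hm =>
          Finset.mem_image.mpr ⟨m % p ^ (t + 1), Finset.mem_filter.mpr ⟨Finset.mem_range.mpr
            (Nat.mod_lt _ (pow_pos hp.out.pos _)), by
            rw [Nat.coprime_comm, hp.out.coprime_iff_not_dvd] at hm ⊢
            exact fun hd => hm ((Nat.dvd_mod_iff (dvd_pow_self p t.succ_ne_zero)).mp hd)⟩,
            by rw [← hl, pow_mod_orderOf]⟩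
        constructor
        · intro hφ
          obtain ⟨j, hj, hj'⟩ := Finset.mem_image.mp hφ
          obtain ⟨k, hk⟩ := IsPGroup.iff_card.mp hA
          have h1 : φ ^ p ^ k = 1 := MonoidHom.ext fun v => by
            rw [hom_pow_apply, ← map_pow, ← hk, pow_card_eq_one', map_one, MonoidHom.one_apply]
          obtain ⟨i, -, hi⟩ := Nat.exists_mul_mod_eq_one_of_coprime (n := a) (k := p ^ (k + 1))
            (ha.pow_right _) (Nat.one_lt_pow k.succ_ne_zero hp.out.one_lt)
          have h2 : (φ ^ a) ^ i = φ := by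
            rw [← pow_mul, ← Nat.div_add_mod (a * i) (p ^ (k + 1)), hi, pow_succ, pow_mul, pow_succ, pow_mul, h1]
            exact (congrArg (· * φ) ((congrArg (· ^ _) (one_pow (M := A →* ℂˣ) p)).trans (one_pow (M := A →* ℂˣ) _))).trans (one_mul φ)
          rw [← h2, ← hj', ← pow_mul]
          refine hred _ (Nat.Coprime.mul_left (Finset.mem_filter.mp hj).2 ?_)
          have h3 : (a * i).Coprime p := by
            rw [Nat.coprime_comm, hp.out.coprime_iff_not_dvd]
            intro hd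
            have := (Nat.dvd_mod_iff (dvd_pow_self p k.succ_ne_zero)).mpr hd
            rw [hi] at this
            exact hp.out.ne_one (Nat.dvd_one.mp this)
          exact Nat.Coprime.coprime_mul_left h3
        · intro hφ
          obtain ⟨j, hj, rfl⟩ := Finset.mem_image.mp hφ
          rw [← pow_mul]
          exact hred _ (Nat.Coprime.mul_left (Finset.mem_filter.mp hj).2 ha)
      · rw [Finset.sum_image fun x hx y hy hxy => pow_injOn_Iio_orderOf
          (by rw [Set.mem_Iio, hl]; exact Finset.mem_range.mp (Finset.mem_filter.mp hx).1)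
          (by rw [Set.mem_Iio, hl]; exact Finset.mem_range.mp (Finset.mem_filter.mp hy).1) hxy]
        have hx : ((ψ v : ℂˣ) : ℂ) ^ p ^ (t + 1) = 1 := by
          rw [← hl, ← Units.val_pow_eq_pow_val, ← hom_pow_apply, pow_orderOf_eq_one,
            MonoidHom.one_apply, Units.val_one]
        simp only [hom_pow_apply, Units.val_pow_eq_pow_val]
        rw [orbit_sum _ hx]
        push_cast
        congr 2
        · exact if_congr (by rw [Units.ext_iff, Units.val_one]; try rw [Units.val_pow_eq_pow_val]) (by simp) (by simp)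
        · exact if_congr (by rw [Units.ext_iff, Units.val_one]; try rw [Units.val_pow_eq_pow_val]) (by simp) (by simp)
      · intro φ hφ
        obtain ⟨j, hj, rfl⟩ := Finset.mem_image.mp hφ
        exact hb j (Finset.mem_filter.mp hj).2 ψ
  obtain ⟨hΦh, hbO⟩ := hΦ
  set b' : (A →* ℂˣ) → ℤ := fun φ => if φ ∈ O then 0 else b φ with hb'
  have hlt : (Finset.univ.filter fun φ => b' φ ≠ 0).card < n := by
    rw [← hn]
    refine Finset.card_lt_card (Finset.ssubset_iff_of_subset ?_ |>.mpr ⟨ψ, by simpa using hψ, by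
      simp [hb', hO1]⟩)
    intro φ
    simp only [Finset.mem_filter, Finset.mem_univ, true_and, hb']
    split_ifs <;> simp_all
  have h1 := ih _ hlt b' rfl (fun a ha φ => by
    simp only [hb', hOa a ha φ, hb a ha φ]) (fun v => f v - b ψ * h v) fun v => by
      push_cast
      have hO : ∑ φ ∈ O, (b ψ : ℂ) * (φ v : ℂ) =
          ∑ φ : A →* ℂˣ, if φ ∈ O then (b ψ : ℂ) * (φ v : ℂ) else 0 := by
        rw [← Finset.sum_filter]
        exact Finset.sum_congr (by ext; simp) fun _ _ => rfl
      rw [hf v, hh v, Finset.mul_sum, sub_eq_iff_eq_add, hO, ← Finset.sum_add_distrib]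
      refine Finset.sum_congr rfl fun φ _ => ?_
      simp only [hb']
      split_ifs with hφ
      · rw [hbO φ hφ]; simp
      · simp
  have h2 : f = (fun v => f v - b ψ * h v) + b ψ • h := funext fun v => by
    simp [sub_add_cancel]
  exact h2 ▸ hadd _ _ h1 (hsmul _ _ hΦh)

/-- A rational generalized character is constant modulo `p`. -/
theorem sub_dvd {g : A → ℤ} (hg : IsGen fun v => (g v : ℂ)) (v : A) : (p : ℤ) ∣ g v - g 1 := by
  refine rational_induction hA (Φ := fun g => (p : ℤ) ∣ g v - g 1) (fun c => by simp) ?_ ?_ ?_ hg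
  · intro f g hf hg'
    have := dvd_add hf hg'
    simpa [add_sub_add_comm] using this
  · intro c f hf
    simpa [mul_sub] using hf.mul_left c
  · intro ψ t ht
    rcases t with - | t
    · have h1 : ψ v ^ p = 1 := by
        rw [← hom_pow_apply, show ψ ^ p = 1 from by
          simpa [ht] using pow_orderOf_eq_one ψ, MonoidHom.one_apply]
      simp only [map_one, one_pow, h1, if_true, pow_zero, pow_one, mul_one]
      exact ⟨(if ψ v = 1 then 1 else 0) - 1, by ring⟩
    · refine dvd_sub ?_ ?_ <;>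
        exact dvd_sub ((dvd_pow_self _ (Nat.succ_ne_zero _)).mul_right _)
          ((dvd_pow_self _ (Nat.succ_ne_zero _)).mul_right _)

/-- For `p = 2` a rational generalized character is affine modulo `4`. -/
theorem four_dvd (h2 : p = 2) {g : A → ℤ} (hg : IsGen fun v => (g v : ℂ)) (v w : A) :
    (4 : ℤ) ∣ g (v * w) - g v - g w + g 1 := by
  subst h2
  refine rational_induction hA (Φ := fun g => (4 : ℤ) ∣ g (v * w) - g v - g w + g 1)
    (fun c => by simp) ?_ ?_ ?_ hg
  · intro f g hf hg'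
    have := dvd_add hf hg'
    show (4 : ℤ) ∣ (f (v * w) + g (v * w)) - (f v + g v) - (f w + g w) + (f 1 + g 1)
    obtain ⟨x, hx⟩ := this
    exact ⟨x, by linear_combination hx⟩
  · intro c f hf
    show (4 : ℤ) ∣ c * f (v * w) - c * f v - c * f w + c * f 1
    obtain ⟨x, hx⟩ := hf
    exact ⟨c * x, by linear_combination c * hx⟩
  · intro ψ t ht
    match t, ht with
    | 0, ht =>
      have hsq : ∀ x : A, ψ x ^ 2 = 1 := fun x => by
        rw [← hom_pow_apply, show ψ ^ 2 = 1 from by
          simpa [ht] using pow_orderOf_eq_one ψ, MonoidHom.one_apply]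
      simp only [map_mul, map_one, one_pow, mul_pow, hsq, one_mul, if_true]
      have hpm : ∀ x : A, ψ x = 1 ∨ ψ x = -1 := fun x => by
        have h := hsq x
        rw [Units.ext_iff, Units.val_pow_eq_pow_val, Units.val_one, sq_eq_one_iff] at h
        exact h.imp (fun e => Units.ext e) fun e => Units.ext (by simpa using e)
      have hne : (-1 : ℂˣ) ≠ 1 := fun e => by
        have := congrArg Units.val e
        norm_num at this
      rcases hpm v with h1 | h1 <;> rcases hpm w with h2 | h2 <;> simp [h1, h2, hne]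
    | 1, ht =>
      -- the squares form a character of order two
      have hsq : ∀ x : A, ψ x ^ 2 = 1 ∨ ψ x ^ 2 = -1 := fun x => by
        have h : (ψ x ^ 2) ^ 2 = 1 := by
          rw [← pow_mul, ← hom_pow_apply, show ψ ^ (2 * 2) = 1 from by
            simpa [ht] using pow_orderOf_eq_one ψ, MonoidHom.one_apply]
        rw [Units.ext_iff, Units.val_pow_eq_pow_val, Units.val_one, sq_eq_one_iff] at h
        exact h.imp (fun e => Units.ext e) fun e => Units.ext (by simpa using e)
      have hne : (-1 : ℂˣ) ≠ 1 := fun e => by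
        have := congrArg Units.val e
        norm_num at this
      simp only [map_mul, map_one, one_pow, mul_pow]
      rcases hsq v with h1 | h1 <;> rcases hsq w with h2 | h2 <;> simp [h1, h2, hne] <;>
        (repeat' split_ifs) <;> norm_num
    | t + 2, ht =>
      have h4 : ∀ a b : ℤ, (4 : ℤ) ∣ (2 : ℤ) ^ (t + 2 + 1) * a - (2 : ℤ) ^ (t + 2) * b := fun a b =>
        dvd_sub ⟨2 ^ (t + 1) * a, by ring⟩ ⟨2 ^ t * b, by ring⟩
      push_cast
      exact dvd_add (dvd_sub (dvd_sub (h4 _ _) (h4 _ _)) (h4 _ _)) (h4 _ _)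

omit hA in
/-- The modulus of the normalisation. -/
def modP (p : ℕ) : ℕ := if p = 2 then 4 else p

omit hA in
theorem not_modP_dvd_two_mul {s : ℕ} (hs : ¬ p ∣ s) : ¬ (modP p : ℤ) ∣ 2 * (s : ℤ) := by
  rw [modP]
  split_ifs with h
  · subst h
    intro hd
    omega
  · intro hd
    have : p ∣ 2 * s := by exact_mod_cast hd
    exact ((hp.out.dvd_mul.mp this).elim (fun h' => h ((Nat.prime_dvd_prime_iff_eq hp.out
      Nat.prime_two).mp h')) hs)

/-- A linear twist makes a rational generalized character constant modulo `modP p`. -/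
theorem exists_twist {g : A → ℤ} (hg : IsGen fun v => (g v : ℂ)) (hodd : ∀ v, ¬ (p : ℤ) ∣ g v) :
    ∃ ν : A → ℤ, (∀ v, ν v = 1 ∨ ν v = -1) ∧ (IsGen fun v => ((ν v * g v : ℤ) : ℂ)) ∧
      ∀ v, (modP p : ℤ) ∣ ν v * g v - g 1 := by
  classical
  by_cases h2 : p = 2
  swap
  · refine ⟨fun _ => 1, fun _ => Or.inl rfl, by simpa using hg, fun v => ?_⟩
    simpa [modP, h2] using sub_dvd hA hg v
  subst h2
  set ν : A → ℤ := fun v => if (4 : ℤ) ∣ g v - g 1 then 1 else -1 with hν
  have hmul : ∀ v w, ν (v * w) = ν v * ν w := by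
    intro v w
    have h := four_dvd hA rfl hg v w
    have hv := hodd v
    have hw := hodd w
    have hvw := hodd (v * w)
    have h1 := hodd 1
    simp only [hν]
    split_ifs <;> omega
  have hν1 : ν 1 = 1 := by simp [hν]
  have hpm : ∀ v, ν v = 1 ∨ ν v = -1 := fun v => by simp only [hν]; split_ifs <;> simp
  have hu : ∀ v, IsUnit ((ν v : ℤ) : ℂ) := fun v => by rcases hpm v with h | h <;> simp [h]
  let φ : A →* ℂˣ :=
    { toFun := fun v => (hu v).unit
      map_one' := Units.ext (by simp [hν1])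
      map_mul' := fun v w => Units.ext (by simp [hmul v w]) }
  refine ⟨ν, hpm, ?_, fun v => ?_⟩
  · rw [isGen_iff] at hg ⊢
    have h := Char.isGeneralizedCharacter_mul
      (Char.isGeneralizedCharacter_of_isCharacter (Char.isCharacter_hom φ)) hg
    convert h using 1
    funext v
    show _ = ((φ v : ℂˣ) : ℂ) * _
    simp [φ]
  · have hv := hodd v
    have h1 := hodd 1
    simp only [modP, if_true, hν]
    split_ifs with h
    · simpa using h
    · push_cast
      omega

/-! ### Gluing -/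

omit hA in
/-- Integral combinations of the permutation characters on the cosets. -/
theorem isGen_perm (a : Subgroup A → ℤ) (s : Finset (Subgroup A)) [∀ K : Subgroup A, DecidablePred (· ∈ K)] :
    IsGen fun v : A => ((∑ K ∈ s, a K * ((K.index : ℤ) * if v ∈ K then 1 else 0) : ℤ) : ℂ) := by
  classical
  rw [isGen_iff]
  have h := Char.isGeneralizedCharacter_sum s (fun K => fun v : A =>
      ((a K : ℤ) : ℂ) * indFun K (fun _ : K => (1 : ℂ)) v) fun K _ => ?_
  · convert h using 1
    funext v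
    rw [Finset.sum_apply]
    push_cast
    refine Finset.sum_congr rfl fun K _ => ?_
    congr 1
    rw [indFun]
    have hx : ∀ x : A, x⁻¹ * v * x = v := fun x => by rw [mul_comm x⁻¹ v, inv_mul_cancel_right]
    simp only [hx, Finset.sum_const, Finset.card_univ, nsmul_eq_mul, ← Nat.card_eq_fintype_card]
    by_cases hv : v ∈ K
    · rw [Char.extendByZero_mem _ _ hv, if_pos hv, mul_one, mul_one,
        ← Subgroup.card_mul_index K, Nat.cast_mul, ← mul_assoc,
        inv_mul_cancel₀ (Nat.cast_ne_zero.mpr Nat.card_pos.ne'), one_mul]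
    · rw [Char.extendByZero_not_mem _ _ hv, if_neg hv]
      simp
  · have := Char.isGeneralizedCharacter_zsmul (Char.isGeneralizedCharacter_indFun K
      (Char.isGeneralizedCharacter_of_isCharacter
        (Char.isCharacter_of_isIrr (Char.isIrrCharacter_one (G := K))))) (a K)
    convert this using 1
    funext v
    simp [Pi.smul_apply]

/-- The glued values. -/
theorem exists_glue (S : Subgroup A → ℕ) (hS : ∀ R, R ≠ ⊥ → ¬ p ∣ S R)
    (hg : ∀ R, R ≠ ⊥ → ∃ g : A → ℤ, (IsGen fun v => (g v : ℂ)) ∧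
      ∀ v, (g v).natAbs = S (R ⊔ Subgroup.zpowers v)) :
    ∃ U : A → ℤ, (IsGen fun v => (U v : ℂ)) ∧ ∀ y, y ≠ 1 →
      (U y).natAbs = S (Subgroup.zpowers y) ∧ (modP p : ℤ) ∣ U y - (if p = 2 then 1
        else (S ⊤ : ℤ)) := by
  classical
  rcases eq_or_ne (⊤ : Subgroup A) ⊥ with htop | htop
  · refine ⟨0, ?_, fun y hy => absurd (Subgroup.mem_bot.mp (htop ▸ Subgroup.mem_top y)) hy⟩
    intro ψ
    exact ⟨0, by simp [fou]⟩
  set r : ℤ := if p = 2 then 1 else (S ⊤ : ℤ) with hr
  -- all values agree up to sign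
  have hsign : ∀ R, R ≠ ⊥ → (modP p : ℤ) ∣ (S R : ℤ) - r ∨ (modP p : ℤ) ∣ -(S R : ℤ) - r := by
    intro R hR
    by_cases h2 : p = 2
    · have := hS R hR
      rw [hr, if_pos h2, modP, if_pos h2]
      subst h2
      omega
    rw [hr, if_neg h2, modP, if_neg h2]
    induction hn : R.index using Nat.strong_induction_on generalizing R with
    | _ n ih =>
    rcases eq_or_ne R ⊤ with rfl | hRT
    · left; simp
    obtain ⟨v, hv⟩ : ∃ v, v ∉ R := by
      by_contra hall
      push Not at hall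
      exact hRT ((Subgroup.eq_top_iff' R).mpr hall)
    set R' := R ⊔ Subgroup.zpowers v with hR'
    have hlt : R < R' := lt_of_le_of_ne le_sup_left fun h =>
      hv (h ▸ Subgroup.mem_sup_right (Subgroup.mem_zpowers v))
    have hR'ne : R' ≠ ⊥ := fun h => hR (le_bot_iff.mp (h ▸ hlt.le))
    have h1 := ih _ (hn ▸ Subgroup.index_strictAnti hlt) R' hR'ne rfl
    obtain ⟨g, hgen, habs⟩ := hg R hR
    have hd := sub_dvd hA hgen v
    have e1 : (g 1).natAbs = S R := by rw [habs, Subgroup.zpowers_one_eq_bot, sup_bot_eq]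
    have e2 : (g v).natAbs = S R' := habs v
    rcases Int.natAbs_eq_iff.mp e1 with a | a <;> rcases Int.natAbs_eq_iff.mp e2 with b | b <;>
      rcases h1 with c | c <;> rw [a, b] at hd
    all_goals
      obtain ⟨x, hx⟩ := c
      obtain ⟨y, hy⟩ := hd
    all_goals first
      | (left; exact ⟨x + y, by linear_combination hx + hy⟩)
      | (left; exact ⟨x - y, by linear_combination hx - hy⟩)
      | (right; exact ⟨x + y, by linear_combination hx + hy⟩)
      | (right; exact ⟨x - y, by linear_combination hx - hy⟩)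
  let γ : Subgroup A → ℤ := fun R => if (modP p : ℤ) ∣ (S R : ℤ) - r then (S R : ℤ) else -(S R : ℤ)
  have hγ : ∀ R, R ≠ ⊥ → (modP p : ℤ) ∣ γ R - r := fun R hR => by
    simp only [γ]
    split_ifs with h
    · exact h
    · exact (hsign R hR).resolve_left h
  have hγabs : ∀ R, (γ R).natAbs = S R := fun R => by simp only [γ]; split_ifs <;> simp
  -- the congruences
  have hcong : ∀ R, R ≠ ⊥ → (Nat.card A : ℤ) ∣ ∑ v : A, γ (R ⊔ Subgroup.zpowers v) := by
    intro R hR
    obtain ⟨g, hgen, habs⟩ := hg R hR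
    have hne : ∀ v, R ⊔ Subgroup.zpowers v ≠ ⊥ := fun v h =>
      hR (le_bot_iff.mp (h ▸ le_sup_left))
    have hgodd : ∀ v, ¬ (p : ℤ) ∣ g v := fun v => by
      rw [Int.natCast_dvd, habs v]
      exact hS _ (hne v)
    obtain ⟨ν, hν, hνgen, hνmod⟩ := exists_twist hA hgen hgodd
    obtain ⟨c, hc, hc1⟩ : ∃ c : ℤ, (c = 1 ∨ c = -1) ∧ γ R = c * g 1 := by
      have e1 : (g 1).natAbs = (γ R).natAbs := by
        rw [hγabs, habs, Subgroup.zpowers_one_eq_bot, sup_bot_eq]
      rcases Int.natAbs_eq_natAbs_iff.mp e1 with h | h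
      · exact ⟨1, Or.inl rfl, by simp [h]⟩
      · exact ⟨-1, Or.inr rfl, by simp [h]⟩
    have heq : ∀ v, γ (R ⊔ Subgroup.zpowers v) = c * (ν v * g v) := by
      intro v
      have habs' : (c * (ν v * g v)).natAbs = S (R ⊔ Subgroup.zpowers v) := by
        rcases hc with rfl | rfl <;> rcases hν v with h | h <;> simp [h, habs v]
      have hd : (modP p : ℤ) ∣ c * (ν v * g v) - r := by
        rw [show c * (ν v * g v) - r = c * (ν v * g v - g 1) + (c * g 1 - r) by ring]
        exact dvd_add ((hνmod v).mul_left c) (hc1 ▸ hγ R hR)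
      rcases Int.natAbs_eq_natAbs_iff.mp (habs'.trans (hγabs _).symm) with h | h
      · exact h.symm
      · exfalso
        refine not_modP_dvd_two_mul (hS _ (hne v)) ?_
        have h3 := dvd_sub (hγ _ (hne v)) hd
        rw [h, sub_sub_sub_cancel_right, sub_neg_eq_add, ← two_mul] at h3
        rw [← hγabs]
        rcases Int.natAbs_eq (γ (R ⊔ Subgroup.zpowers v)) with e | e
        · rwa [← e]
        · rw [show ((γ (R ⊔ Subgroup.zpowers v)).natAbs : ℤ) = -γ (R ⊔ Subgroup.zpowers v) by omega,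
            mul_neg]
          exact h3.neg_right
    obtain ⟨z, hz⟩ := hνgen 1
    refine ⟨c * z, ?_⟩
    simp only [fou, MonoidHom.one_apply, Units.val_one, mul_one] at hz
    have hz' : ∑ v : A, ν v * g v = (Nat.card A : ℤ) * z := by exact_mod_cast hz
    rw [Finset.sum_congr rfl fun v _ => heq v, ← Finset.mul_sum, hz']
    ring
  -- the coefficients
  let X : (Subgroup A → ℤ) → Subgroup A → ℤ := fun a R =>
    ∑ K : Subgroup A, a K * ((K.index : ℤ) * if R ≤ K then 1 else 0)
  have hsum : ∀ a R, (Nat.card A : ℤ) ∣ ∑ v : A, X a (R ⊔ Subgroup.zpowers v) := by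
    intro a R
    simp only [X]
    rw [Finset.sum_comm]
    refine Finset.dvd_sum fun K _ => ?_
    rw [← Finset.mul_sum, ← Finset.mul_sum]
    refine Dvd.dvd.mul_left ?_ _
    by_cases hRK : R ≤ K
    · refine ⟨1, ?_⟩
      rw [mul_one, Finset.sum_congr rfl (g := fun v : A => if v ∈ K then (1 : ℤ) else 0) fun v _ =>
        if_congr (by rw [sup_le_iff, Subgroup.zpowers_le]; simp [hRK]) rfl rfl, Finset.sum_boole,
        ← Subgroup.index_mul_card K, Nat.cast_mul, Nat.card_eq_fintype_card, Fintype.card_subtype]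
    · rw [Finset.sum_eq_zero fun v _ => if_neg fun h => hRK (le_sup_left.trans h)]
      simp
  obtain ⟨a, ha⟩ : ∃ a : Subgroup A → ℤ, ∀ R, R ≠ ⊥ → X a R = γ R := by
    suffices H : ∀ (n : ℕ) (U : Finset (Subgroup A)), U.card = n → (∀ R ∈ U, R ≠ ⊥) →
        (∀ R ∈ U, ∀ R', R ≤ R' → R' ∈ U) → ∃ a, ∀ R ∈ U, X a R = γ R by
      obtain ⟨a, ha⟩ := H _ (Finset.univ.filter fun R => R ≠ ⊥) rfl (fun R hR => by simpa using hR)
        fun R hR R' hle => by
          simp only [Finset.mem_filter, Finset.mem_univ, true_and] at hR ⊢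
          exact fun h => hR (le_bot_iff.mp (h ▸ hle))
      exact ⟨a, fun R hR => ha R (by simpa using hR)⟩
    intro n
    induction n with
    | zero =>
      intro U hU _ _
      exact ⟨0, fun R hR => by simp [Finset.card_eq_zero.mp hU] at hR⟩
    | succ n ih =>
      intro U hU hbot hup
      obtain ⟨R, hR, hmin⟩ := U.exists_minimal (Finset.card_pos.mp (by omega))
      obtain ⟨a, ha⟩ := ih (U.erase R) (by rw [Finset.card_erase_of_mem hR, hU]; rfl)
        (fun R' h => hbot R' (Finset.mem_of_mem_erase h)) fun R₁ h1 R₂ h12 =>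
          Finset.mem_erase.mpr ⟨fun e => (Finset.mem_erase.mp h1).1 (le_antisymm (e ▸ h12)
            (hmin (Finset.mem_of_mem_erase h1) (e ▸ h12))), hup R₁ (Finset.mem_of_mem_erase h1) R₂ h12⟩
      have hd : (R.index : ℤ) ∣ γ R - X a R := by
        have h := dvd_sub (hcong R (hbot R hR)) (hsum a R)
        rw [← Finset.sum_sub_distrib] at h
        rw [← Finset.sum_subset (Finset.subset_univ (Finset.univ.filter (fun v : A => v ∈ R))) fun v _ hv => by
            rw [ha _ (Finset.mem_erase.mpr ⟨fun e => hv (Finset.mem_filter.mpr ⟨Finset.mem_univ _,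
              e ▸ Subgroup.mem_sup_right (Subgroup.mem_zpowers v)⟩),
              hup R hR _ le_sup_left⟩), sub_self],
          Finset.sum_congr rfl (g := fun _ => γ R - X a R) fun v hv => by
            rw [sup_eq_left.mpr (Subgroup.zpowers_le.mpr (Finset.mem_filter.mp hv).2)],
          Finset.sum_const, ← Fintype.card_subtype, ← Nat.card_eq_fintype_card, nsmul_eq_mul,
          ← Subgroup.card_mul_index R, Nat.cast_mul] at h
        exact (mul_dvd_mul_iff_left (by exact_mod_cast Nat.card_pos.ne')).mp h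
      obtain ⟨d, hd⟩ := hd
      refine ⟨fun K => a K + if K = R then d else 0, fun R' hR' => ?_⟩
      have hX : X (fun K => a K + if K = R then d else 0) R' =
          X a R' + d * ((R.index : ℤ) * if R' ≤ R then 1 else 0) := by
        simp only [X, add_mul, Finset.sum_add_distrib]
        congr 1
        rw [Finset.sum_eq_single R (fun K _ hK => by simp [hK]) (by simp)]
        simp
      rcases eq_or_ne R' R with rfl | hne
      · rw [hX, if_pos le_rfl, mul_one, mul_comm d, ← hd]
        ring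
      · rw [hX, if_neg fun hle => hne (le_antisymm hle (hmin hR' hle)),
          ha R' (Finset.mem_erase.mpr ⟨hne, hR'⟩)]
        ring
  refine ⟨fun v => ∑ K : Subgroup A, a K * ((K.index : ℤ) * if v ∈ K then 1 else 0),
    isGen_perm a Finset.univ, fun y hy => ?_⟩
  have e : ∑ K : Subgroup A, a K * ((K.index : ℤ) * if y ∈ K then 1 else 0) = γ (Subgroup.zpowers y) := by
    rw [← ha _ (by rwa [ne_eq, Subgroup.zpowers_eq_bot])]
    exact Finset.sum_congr rfl fun K _ => by simp [Subgroup.zpowers_le]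
  simp only [e]
  refine ⟨hγabs _, ?_⟩
  exact hγ _ (by rwa [ne_eq, Subgroup.zpowers_eq_bot])

end CfsgLib.Block.FreeInertial
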