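import Cfsg.Agent.Lib.Block.FreeInertial.Values
import Cfsg.Agent.Lib.Block.CyclicDefect.Pairs

/-!
# The values of a block at a source idempotent, and their inner products

`FreeFrame.val χ y` is the value of `χ` at `y` times a lift of the source idempotent.  Over the
members of the block these values have inner products `|P| * sv y * sv z` or zero, as `y, z` are
conjugate under the stabilizer or not (`FreeFrame.sum_val`).
-/

open Finset MonoidAlgebra
open scoped ComplexConjugate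

set_option autoImplicit false
set_option linter.unusedSectionVars false

namespace CfsgLib.Block.FreeInertial

open Cfsg CfsgLib CfsgLib.Block CfsgLib.Block.CyclicDefect CfsgLib.Block.AbelianDefect
open scoped Pair

universe u

variable {p : ℕ} {M : Ideal AlgInt} [M.IsMaximal]
variable {G : Type u} [Group G] [Fintype G] [DecidableEq G] [Fintype (IrrCharacter G)]

namespace FreeFrame

variable (F : FreeFrame p M G)

theorem exists_lift : ∃ c : MonoidAlgebra (locRing M) G, c * c = c ∧ toK M c = F.i ∧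
    ∀ g ∈ F.P, Commute (single g 1) c :=
  exists_lift_idem_commute (S := (F.P : Set G)) F.hsrc.idem fun g hg x => F.hsrc.cinv g hg x

/-- The lift of the source idempotent. -/
noncomputable def lift : MonoidAlgebra (locRing M) G := F.exists_lift.choose

/-- The value at an element of the group. -/
noncomputable def val (χ : IrrCharacter G) (y : F.P) : ℂ := sval F.lift χ (y : G)

/-- The part at an element of the group, at the identity. -/
noncomputable def part (χ : IrrCharacter G) (y : F.P) : ℂ :=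
  secPart χ (y : G) (lowPair F.hM F.hmax.1.1 y) 1

/-- Conjugacy under the stabilizer. -/
def Fused (y z : F.P) : Prop :=
  ∃ t, t ∈ Subgroup.normalizer (F.P : Set G) ∧ StabilizesBlock (CQ F.P) F.e t ∧
    t * (y : G) * t⁻¹ = (z : G)

theorem val_gen (χ : IrrCharacter G) : IsGeneralizedCharacter F.P (F.val χ) :=
  Char.isGeneralizedCharacter_of_isCharacter
    (isCharacter_sval F.lift F.exists_lift.choose_spec.1 F.exists_lift.choose_spec.2.2 χ)

theorem zpowers_ne_bot {y : F.P} (hy : y ≠ 1) : Subgroup.zpowers (y : G) ≠ ⊥ := by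
  rw [ne_eq, Subgroup.zpowers_eq_bot]
  exact fun h => hy (Subtype.ext h)

theorem exists_block (y : F.P) : ∃ b : Set (IrrCharacter (CQ (Subgroup.zpowers (y : G)))),
    lowPair F.hM F.hmax.1.1 y = ⟨_, b⟩ ∧ SubpairLE p M (Subgroup.zpowers (y : G)) b F.P F.e := by
  obtain ⟨b, hb⟩ := exists_eq_pairMk (a := lowPair F.hM F.hmax.1.1 y)
    (Q := Subgroup.zpowers (y : G)) rfl
  have h := lowPair_below F.hM F.hmax.1.1 y
  rw [hb] at h
  exact ⟨b, hb, h⟩

theorem pPow (y : F.P) : ∃ k : ℕ, orderOf (y : G) = p ^ k :=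
  exists_pElement_orderOf F.hmax.1.1 y F.hM.1

theorem low_mem (y : F.P) : lowPair F.hM F.hmax.1.1 y ∈ pairsAt M (y : G) :=
  mem_pairsAt.mpr ⟨lowPair_fst F.hM F.hmax.1.1 y, isPBlock_lowPair F.hM F.hmax.1.1 y⟩

theorem one_mem_regC (u : G) (F : FreeFrame p M G) : (1 : G) ∈ regC p u :=
  mem_regC.mpr ⟨Subgroup.one_mem _, by rw [orderOf_one]; exact F.hM.1.not_dvd_one⟩

theorem part_eq_zero {χ : IrrCharacter G} (hχ : χ ∉ F.B) (y : F.P) : F.part χ y = 0 :=
  secPart_eq_zero_of_not_mem F.hM hχ (F.pPow y) (F.low_mem y) (one_mem_regC _ F)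
    (lowPair_pairOf F.hM F.hmax y)

open scoped Classical in
theorem sum_part_eq (y z : F.P) :
    ∑ χ ∈ Finset.univ.filter (· ∈ F.B), F.part χ y * conj (F.part χ z) =
      ∑ χ : IrrCharacter G, F.part χ y * conj (F.part χ z) :=
  Finset.sum_subset (Finset.filter_subset _ _) fun χ _ hχ => by
    rw [F.part_eq_zero (by simpa using hχ), zero_mul]

open scoped Classical in
/-- The normalization of the parts. -/
theorem exists_norm {y : F.P} (hy : y ≠ 1) :
    ∃ n : ℕ, n ≠ 0 ∧
      (∀ χ, F.val χ y * (n : ℂ) = F.part χ y * (F.sv (Subgroup.zpowers (y : G)) : ℂ)) ∧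
      ∑ χ ∈ Finset.univ.filter (· ∈ F.B), F.part χ y * conj (F.part χ y) =
        (Nat.card F.P : ℂ) * (n : ℂ) * (n : ℂ) := by
  have := F.factPrime
  obtain ⟨b, hlow, hle⟩ := F.exists_block y
  have := Fintype.ofFinite (IrrCharacter (CQ (Subgroup.zpowers (y : G))))
  obtain ⟨η, hη, hrows, hnorm⟩ := isNilpotentBlock_unitRow F.hM
    (F.nilpotent_below (F.zpowers_ne_bot hy) hle)
  obtain ⟨n, hn, hn1⟩ := Char.isIrrCharacter_degree η.2
  have hpair := (SubpairLE.isBrauerPairOf_iff F.hM hle).mp F.hmax.1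
  obtain ⟨k, hk⟩ := F.pPow y
  have hyn : (y : G) ^ p ^ k = 1 := hk ▸ pow_orderOf_eq_one _
  refine ⟨n, hn.ne', fun χ => ?_, ?_⟩
  · obtain ⟨hc, hcK, hcP⟩ := F.exists_lift.choose_spec
    rw [val, lift, ← liftVal_eq F.hM ⟨k, hk⟩ hc (hcP _ y.2) χ, hcK,
      liftVal_eq_mul F.hM ⟨k, hk⟩ hpair.1.2 hrows F.hsrc.idem (F.hsrc.cinv.commute y.2)
        (F.isLocPt.br_block F.hM F.hmax.1.1 hle) χ, ← F.sv_eq hle ⟨hη, hrows⟩, part, hlow, rowCoeff,
      hn1]
    have : (n : ℂ) ≠ 0 := Nat.cast_ne_zero.mpr hn.ne'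
    field_simp
  · rw [F.sum_part_eq]
    have hC : ∀ t : G, t ∈ CQ (Subgroup.zpowers (y : G)) ↔ Commute t (y : G) :=
      fun t => mem_cq_zpowers_iff
    have hC' : ∀ t : CQ (Subgroup.zpowers (y : G)), Commute (t : G) (y : G) := fun t => (hC t).mp t.2
    have h1 : ∀ χ, F.part χ y =
        blockPart b (secFun (y : G) (CQ (Subgroup.zpowers (y : G))) χ) 1 := fun χ => by
      rw [part, hlow, show (1 : G) = ((1 : CQ (Subgroup.zpowers (y : G))) : G) from rfl,
        secPart_eq_blockPart b hC']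
    have hreg : ¬ p ∣ orderOf (1 : CQ (Subgroup.zpowers (y : G))) := by
      rw [orderOf_one]; exact F.hM.1.not_dvd_one
    rw [Finset.sum_congr rfl (g := fun χ : IrrCharacter G =>
      blockPart b (secFun (y : G) (CQ (Subgroup.zpowers (y : G))) χ) 1 *
        conj (blockPart b (secFun (y : G) (CQ (Subgroup.zpowers (y : G))) χ) 1)) fun χ _ => by rw [h1],
      sum_blockPart_mul_conj F.hM ⟨k, hk⟩ hC hpair.1.2 hpair.1.2 hreg hreg, if_pos rfl]
    choose! d hd using hrows
    have hcard : (Nat.card F.P : ℂ) = (p : ℂ) ^ blockDefect p b := by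
      have hPC := le_cq F.hab (SubpairLE.le hle)
      have h := defectGroup_card F.hM hpair.1.2
        (isDefectGroup_below_abelian F.hM F.hmax hPC (nSub_of_le F.hM F.hmax.1.1 F.hab hle))
      rw [Nat.card_congr (Subgroup.subgroupOfEquivOfLe hPC).toEquiv] at h
      rw [h, Nat.cast_pow]
    have hsq : regInner p η η *
        ∑ θ ∈ Finset.univ.filter (· ∈ b), (d θ : ℂ) * (d θ : ℂ) = 1 := by
      have h := sum_regInner_mul p η (1 : CQ (Subgroup.zpowers (y : G)))
      simp only [regFun, hreg, if_false] at h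
      have hval : ∀ θ ∈ b, regInner p η θ = (d θ : ℂ) * regInner p η η := fun θ hθ => by
        refine mul_left_cancel₀
          (Nat.cast_ne_zero.mpr Nat.card_pos.ne' :
            (Nat.card (CQ (Subgroup.zpowers (y : G))) : ℂ) ≠ 0) ?_
        rw [card_mul_regInner, mul_left_comm, card_mul_regInner, Finset.mul_sum]
        refine Finset.sum_congr rfl fun g hg => ?_
        have hg' := (Finset.mem_filter.mp hg).2
        rw [hd θ hθ g⁻¹ (by rwa [orderOf_inv])]
        ring
      rw [← Finset.sum_subset (Finset.filter_subset (fun θ => θ ∈ b) Finset.univ) fun θ _ hθ => by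
        rw [regInner_eq_zero_of_not_mem F.hM (.of_isPBlock hpair.1.2) hη (by simpa using hθ),
          zero_mul]] at h
      rw [Finset.sum_congr rfl (g := fun θ => regInner p η η * ((d θ : ℂ) * (d θ : ℂ)) *
          (η : CQ (Subgroup.zpowers (y : G)) → ℂ) 1) fun θ hθ => by
        rw [hval θ (Finset.mem_filter.mp hθ).2, hd θ (Finset.mem_filter.mp hθ).2 1 hreg]
        ring, ← Finset.sum_mul, ← Finset.mul_sum] at h
      exact (mul_eq_right₀ (Char.irr_one_ne_zero η)).mp h
    have hrne : regInner p η η ≠ 0 := fun h => by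
      rw [h, zero_mul] at hnorm; exact zero_ne_one hnorm
    rw [Finset.sum_congr rfl (g := fun θ => (d θ : ℂ) * (d θ : ℂ) * ((n : ℂ) * (n : ℂ))) fun θ hθ => by
      rw [hd θ (Finset.mem_filter.mp hθ).2 1 hreg, hn1, map_mul, map_natCast, map_natCast]
      ring, ← Finset.sum_mul, hcard]
    refine mul_left_cancel₀ hrne ?_
    linear_combination ((n : ℂ) * (n : ℂ)) * hsq - ((n : ℂ) * (n : ℂ)) * hnorm

/-- The parts are carried along. -/
theorem part_cjP (χ : IrrCharacter G) (y : F.P) (g : G) :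
    secPart χ (g * (y : G) * g⁻¹) (cjP g (lowPair F.hM F.hmax.1.1 y)) 1 = F.part χ y := by
  have h := secPart_cjP χ g (y : G) (lowPair F.hM F.hmax.1.1 y) 1
  rwa [mul_one, mul_inv_cancel] at h

theorem cjP_low_of_fused {y z : F.P} {t : G} (htN : t ∈ Subgroup.normalizer (F.P : Set G))
    (htS : StabilizesBlock (CQ F.P) F.e t) (h : t * (y : G) * t⁻¹ = (z : G)) :
    cjP t (lowPair F.hM F.hmax.1.1 y) = lowPair F.hM F.hmax.1.1 z := by
  refine below_ext F.hM F.hmax.1.1 (below_conj F.hM (lowPair_below F.hM F.hmax.1.1 y)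
    (cjP_eq_of_stabilizes F.hM htN F.hmax.1.1.2 htS)) (lowPair_below F.hM F.hmax.1.1 z) ?_
  show cjS t (Subgroup.zpowers (y : G)) = Subgroup.zpowers (z : G)
  rw [cjS_zpowers, h]

theorem part_fused {y z : F.P} (h : F.Fused y z) (χ : IrrCharacter G) :
    F.part χ z = F.part χ y := by
  obtain ⟨t, htN, htS, h⟩ := h
  rw [← F.part_cjP χ y t, F.cjP_low_of_fused htN htS h, h]
  rfl

theorem sv_fused {y z : F.P} (hy : y ≠ 1) (h : F.Fused y z) :
    F.sv (Subgroup.zpowers (z : G)) = F.sv (Subgroup.zpowers (y : G)) := by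
  obtain ⟨t, htN, htS, h⟩ := h
  rw [← h, ← cjS_zpowers]
  exact F.sv_conj htN htS (F.zpowers_ne_bot hy) (Subgroup.zpowers_le.mpr y.2)

theorem ne_one_of_fused {y z : F.P} (hy : y ≠ 1) (h : F.Fused y z) : z ≠ 1 := by
  obtain ⟨t, -, -, h⟩ := h
  intro hz
  rw [hz, OneMemClass.coe_one, conj_eq_one_iff] at h
  exact hy (Subtype.ext h)

theorem val_fused {y z : F.P} (hy : y ≠ 1) (h : F.Fused y z) (χ : IrrCharacter G) :
    F.val χ z = F.val χ y := by
  classical
  obtain ⟨n, hn, hv, hsum⟩ := F.exists_norm hy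
  obtain ⟨n', hn', hv', hsum'⟩ := F.exists_norm (F.ne_one_of_fused hy h)
  simp only [F.part_fused h] at hsum'
  rw [hsum, mul_assoc, mul_assoc] at hsum'
  have hnn : n = n' := Nat.mul_self_inj.mp (by
    exact_mod_cast mul_left_cancel₀
      (Nat.cast_ne_zero.mpr Nat.card_pos.ne' : (Nat.card F.P : ℂ) ≠ 0) hsum')
  have h1 := hv' χ
  rw [F.part_fused h, F.sv_fused hy h, ← hv χ, hnn] at h1
  exact mul_right_cancel₀ (Nat.cast_ne_zero.mpr hn') h1

open scoped Classical in
/-- Parts at elements not conjugate under the stabilizer are orthogonal. -/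
theorem sum_part_zero {y z : F.P} (hne : ¬ F.Fused y z) :
    ∑ χ ∈ Finset.univ.filter (· ∈ F.B), F.part χ y * conj (F.part χ z) = 0 := by
  rw [F.sum_part_eq]
  by_cases hc : IsConj (y : G) (z : G)
  · obtain ⟨g, hg⟩ := isConj_iff.mp hc
    have hbl := isPBlock_lowPair F.hM F.hmax.1.1 y
    obtain ⟨b', hb'⟩ := exists_eq_pairMk (a := cjP g (lowPair F.hM F.hmax.1.1 y))
      (Q := Subgroup.zpowers (z : G)) (by
        show cjS g (Subgroup.zpowers (y : G)) = _
        rw [cjS_zpowers, hg])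
    obtain ⟨b, hb⟩ := exists_eq_pairMk (a := lowPair F.hM F.hmax.1.1 z)
      (Q := Subgroup.zpowers (z : G)) rfl
    have hof := IsBrauerPairOf.conj F.hM g (lowPair_pairOf F.hM F.hmax y)
    change IsBrauerPairOf p M F.B (cjP g (lowPair F.hM F.hmax.1.1 y)).1
      (cjP g (lowPair F.hM F.hmax.1.1 y)).2 at hof
    rw [hb'] at hof
    have hofz := lowPair_pairOf F.hM F.hmax z
    rw [hb] at hofz
    have hbb : b' ≠ b := fun e => hne (by
      have hm : z ∈ fusClass F.hM F.hmax.1.1 y :=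
        (mem_fusClass F.hM F.hmax.1.1).mpr ⟨g, hg, by rw [hb', hb, e]⟩
      obtain ⟨T, hT⟩ : ∃ T : Subgroup G, ∀ w, w ∈ T ↔
          w ∈ Subgroup.normalizer (F.P : Set G) ∧ StabilizesBlock (CQ F.P) F.e w :=
        ⟨{ carrier := {w | w ∈ Subgroup.normalizer (F.P : Set G) ∧ StabilizesBlock (CQ F.P) F.e w}
           one_mem' := ⟨Subgroup.one_mem _,
             (stabilizesBlock_iff F.hM (Subgroup.one_mem _) F.hmax.1.1.2).mpr (cj_one _)⟩
           mul_mem' := fun {a b} ha hb => ⟨Subgroup.mul_mem _ ha.1 hb.1,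
             (stabilizesBlock_iff F.hM (Subgroup.mul_mem _ ha.1 hb.1) F.hmax.1.1.2).mpr (by
               rw [← cj_cj, (stabilizesBlock_iff F.hM hb.1 F.hmax.1.1.2).mp hb.2,
                 (stabilizesBlock_iff F.hM ha.1 F.hmax.1.1.2).mp ha.2])⟩
           inv_mem' := fun {a} ha => ⟨Subgroup.inv_mem _ ha.1,
             (stabilizesBlock_iff F.hM (Subgroup.inv_mem _ ha.1) F.hmax.1.1.2).mpr (by
               conv_lhs => rw [← (stabilizesBlock_iff F.hM ha.1 F.hmax.1.1.2).mp ha.2]
               rw [cj_cj, inv_mul_cancel, cj_one])⟩ }, fun w => Iff.rfl⟩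
      obtain ⟨t, ht, htz⟩ := (AbelianDefect.mem_fusClass_iff F.hM F.hmax F.hab hT).mp hm
      exact ⟨t, ((hT t).mp ht).1, ((hT t).mp ht).2, htz⟩)
    have := Fintype.ofFinite (IrrCharacter (CQ (Subgroup.zpowers (z : G))))
    have hC : ∀ t : G, t ∈ CQ (Subgroup.zpowers (z : G)) ↔ Commute t (z : G) :=
      fun t => mem_cq_zpowers_iff
    have hC' : ∀ t : CQ (Subgroup.zpowers (z : G)), Commute (t : G) (z : G) := fun t => (hC t).mp t.2
    have hreg : ¬ p ∣ orderOf (1 : CQ (Subgroup.zpowers (z : G))) := by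
      rw [orderOf_one]; exact F.hM.1.not_dvd_one
    refine Eq.trans (Finset.sum_congr rfl (g := fun χ : IrrCharacter G =>
      blockPart b' (secFun (z : G) (CQ (Subgroup.zpowers (z : G))) χ) 1 *
        conj (blockPart b (secFun (z : G) (CQ (Subgroup.zpowers (z : G))) χ) 1)) fun χ _ => ?_) ?_
    · rw [← F.part_cjP χ y g, hg, hb', part, hb,
        show (1 : G) = ((1 : CQ (Subgroup.zpowers (z : G))) : G) from rfl,
        secPart_eq_blockPart b' hC', secPart_eq_blockPart b hC']
    · rw [sum_blockPart_mul_conj F.hM (F.pPow z) hC hof.1.2 hofz.1.2 hreg hreg, if_neg hbb]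
  · have hsupp : ∀ (x : F.P) (t : G),
        subgroupBlockCoeff (CQ (lowPair F.hM F.hmax.1.1 x).1) (lowPair F.hM F.hmax.1.1 x).2 t ≠ 0 →
          IsPPart p ((x : G) * (t * 1)) (x : G) := by
      intro x t ht
      obtain ⟨b, hlow, hle⟩ := F.exists_block x
      rw [hlow] at ht
      dsimp only at ht
      have := Fintype.ofFinite (IrrCharacter (CQ (Subgroup.zpowers (x : G))))
      have htC : t ∈ CQ (Subgroup.zpowers (x : G)) := by
        by_contra h
        exact ht (subgroupBlockCoeff_of_notMem b h)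
      rw [show t = ((⟨t, htC⟩ : CQ (Subgroup.zpowers (x : G))) : G) from rfl,
        subgroupBlockCoeff_coe] at ht
      refine ⟨t, by rw [mul_one], (mem_cq_zpowers_iff.mp htC).symm, F.pPow x, fun hd => ht ?_⟩
      exact blockCoeff_eq_zero_of_singular F.hM (IsBlockUnion.of_isPBlock
        ((SubpairLE.isBrauerPairOf_iff F.hM hle).mp F.hmax.1).1.2) (by rwa [← Subgroup.orderOf_coe])
    rw [← F.sum_part_eq]
    simp only [part, secPart, map_sum, map_mul, Finset.sum_mul_sum]
    rw [Finset.sum_comm]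
    refine Finset.sum_eq_zero fun t _ => ?_
    rw [Finset.sum_comm]
    refine Finset.sum_eq_zero fun t' _ => ?_
    rcases eq_or_ne (subgroupBlockCoeff (CQ (lowPair F.hM F.hmax.1.1 y).1)
      (lowPair F.hM F.hmax.1.1 y).2 t) 0 with h | h
    · simp [h]
    rcases eq_or_ne (subgroupBlockCoeff (CQ (lowPair F.hM F.hmax.1.1 z).1)
      (lowPair F.hM F.hmax.1.1 z).2 t') 0 with h' | h'
    · simp [h']
    have horth := blockUnion_orthogonal_conj F.hM (IsBlockUnion.of_isPBlock F.hmax.1.2.1)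
      (hsupp y t h) (hsupp z t' h') hc
    rw [finsum_mem_eq_finite_toFinset_sum _ (Set.toFinite _),
      show (Set.toFinite F.B).toFinset = Finset.univ.filter (· ∈ F.B) by ext; simp] at horth
    rw [Finset.sum_congr rfl (g := fun χ : IrrCharacter G =>
      subgroupBlockCoeff (CQ (lowPair F.hM F.hmax.1.1 y).1) (lowPair F.hM F.hmax.1.1 y).2 t *
        conj (subgroupBlockCoeff (CQ (lowPair F.hM F.hmax.1.1 z).1)
          (lowPair F.hM F.hmax.1.1 z).2 t') *
        ((χ : G → ℂ) ((y : G) * (t * 1)) * conj ((χ : G → ℂ) ((z : G) * (t' * 1)))))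
      fun χ _ => by ring, ← Finset.mul_sum, horth, mul_zero]

open scoped Classical in
/-- The inner products. -/
theorem sum_val {y z : F.P} (hy : y ≠ 1) (hz : z ≠ 1) :
    ∑ χ ∈ Finset.univ.filter (· ∈ F.B), F.val χ y * conj (F.val χ z) =
      if F.Fused y z then (Nat.card F.P : ℂ) * (F.sv (Subgroup.zpowers (y : G)) : ℂ) *
        (F.sv (Subgroup.zpowers (z : G)) : ℂ) else 0 := by
  obtain ⟨n, hn, hv, hsum⟩ := F.exists_norm hy
  obtain ⟨n', hn', hv', -⟩ := F.exists_norm hz
  split_ifs with h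
  · simp only [F.val_fused hy h, F.sv_fused hy h]
    refine mul_right_cancel₀ (mul_ne_zero (Nat.cast_ne_zero.mpr hn) (Nat.cast_ne_zero.mpr hn) :
      (n : ℂ) * (n : ℂ) ≠ 0) ?_
    rw [Finset.sum_mul, Finset.sum_congr rfl (g := fun χ => F.part χ y * conj (F.part χ y) *
      ((F.sv (Subgroup.zpowers (y : G)) : ℂ) * (F.sv (Subgroup.zpowers (y : G)) : ℂ))) fun χ _ => by
        rw [show F.val χ y * conj (F.val χ y) * ((n : ℂ) * (n : ℂ)) =
          (F.val χ y * (n : ℂ)) * conj (F.val χ y * (n : ℂ)) by rw [map_mul, map_natCast]; ring, hv,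
          map_mul, map_natCast]
        ring, ← Finset.sum_mul, hsum]
    ring
  · refine mul_right_cancel₀ (mul_ne_zero (Nat.cast_ne_zero.mpr hn) (Nat.cast_ne_zero.mpr hn') :
      (n : ℂ) * (n' : ℂ) ≠ 0) ?_
    rw [zero_mul, Finset.sum_mul, Finset.sum_congr rfl (g := fun χ => F.part χ y * conj (F.part χ z) *
      ((F.sv (Subgroup.zpowers (y : G)) : ℂ) * (F.sv (Subgroup.zpowers (z : G)) : ℂ))) fun χ _ => by
        rw [show F.val χ y * conj (F.val χ z) * ((n : ℂ) * (n' : ℂ)) =
          (F.val χ y * (n : ℂ)) * conj (F.val χ z * (n' : ℂ)) by rw [map_mul, map_natCast]; ring, hv,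
          hv', map_mul, map_natCast]
        ring, ← Finset.sum_mul, F.sum_part_zero h, zero_mul]

/-- No value of a member vanishes. -/
theorem val_ne_zero {χ : IrrCharacter G} (hχ : χ ∈ F.B) {y : F.P} (hy : y ≠ 1) :
    F.val χ y ≠ 0 := by
  classical
  have := F.factPrime
  obtain ⟨n, hn, hv, -⟩ := F.exists_norm hy
  obtain ⟨s, hs, hne⟩ := exists_secPart_ne_zero_of_center F.hM F.hmax hχ (y := y)
    (Subgroup.mem_center_iff.mpr fun x => Subtype.ext (F.hab x x.2 y y.2))
  obtain ⟨b, hlow, hle⟩ := F.exists_block y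
  obtain ⟨η, hη⟩ := F.exists_row (F.zpowers_ne_bot hy) hle
  obtain ⟨k, hk⟩ := F.pPow y
  choose! d hd using hη.2
  obtain ⟨-, hrc⟩ := rowCoeff_spec F.hM (pow_ne_zero k F.hM.1.ne_zero)
    (hk ▸ pow_orderOf_eq_one (y : G)) d hd χ
  obtain ⟨hs1, hs2⟩ := mem_regC.mp hs
  have h0 : F.part χ y ≠ 0 := fun h => by
    refine hne ?_
    rw [hlow]
    refine (hrc ⟨s, hs1⟩ (by rwa [← Subgroup.orderOf_coe])).trans ?_
    rw [part, hlow] at h
    rw [rowCoeff, h, zero_div, zero_mul]
  intro h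
  have h1 := hv χ
  rw [h, zero_mul] at h1
  exact mul_ne_zero h0 (Nat.cast_ne_zero.mpr fun (e : F.sv (Subgroup.zpowers (y : G)) = 0) => F.sv_not_dvd (F.zpowers_ne_bot hy)
    (Subgroup.zpowers_le.mpr y.2) (by rw [e]; exact dvd_zero p)) h1.symm

end FreeFrame

end CfsgLib.Block.FreeInertial
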