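import Cfsg.Agent.Lib.Block.FreeInertial.PairData
import Cfsg.Agent.Lib.Block.CyclicDefect.RankOne

/-!
# The signed values of the source idempotent

The values `sv Q` are prime to `p` and invariant under the stabilizer; the gluing gives the signed
function `U` on `P` (`FreeFrame.exists_unit`).
-/

open Finset MonoidAlgebra
open scoped ComplexConjugate

set_option autoImplicit false
set_option linter.unusedSectionVars false

namespace CfsgLib.Block.FreeInertial

open Cfsg CfsgLib CfsgLib.Block CfsgLib.Block.CyclicDefect CfsgLib.Block.AbelianDefect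
open scoped Pair

universe u

variable {p : ℕ} {M : Ideal AlgInt} [M.IsMaximal] {G : Type u} [Group G] [Fintype G] [DecidableEq G]
  [Fintype (IrrCharacter G)]

theorem resTo_mul (hM : IsPModular p M) {Q : Subgroup G} (hQ : IsPGroup p Q)
    {x y : MonoidAlgebra (ResField M) G} (hx : CInv Q x) (hy : CInv Q y) :
    resTo (CQ Q) (trC Q (x * y)) = resTo (CQ Q) (trC Q x) * resTo (CQ Q) (trC Q y) := by
  have hinj : Function.Injective
      (emb : MonoidAlgebra (ResField M) (CQ Q) → MonoidAlgebra (ResField M) G) :=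
    fun x y hxy => ga_ext fun t => by rw [← coeff_emb_coe (G := G) x t, hxy, coeff_emb_coe]
  refine hinj ?_
  rw [emb_mul, ← eq_emb_of_suppIn (suppIn_trC _), ← eq_emb_of_suppIn (suppIn_trC _),
    ← eq_emb_of_suppIn (suppIn_trC _), trC_mul hM hQ hx hy]

namespace FreeFrame

variable (F : FreeFrame p M G)

theorem isPt_i : Points.IsPt (⟨F.i, F.hsrc.cinv⟩ : fixAlg M F.P) :=
  ⟨Subtype.ext F.hsrc.idem,
    fun h => F.hsrc.trB_ne (by rw [show F.i = 0 from congrArg Subtype.val h]; simp [trB]),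
    fun a ha h1 h2 => (F.hsrc.prim a.1 (congrArg Subtype.val ha) a.2 (congrArg Subtype.val h2)
      (congrArg Subtype.val h1)).imp (fun h => Subtype.ext h) fun h => Subtype.ext h⟩

/-- All conjugates of the source idempotent under the stabilizer are one point. -/
theorem eqPt_cj (hP1 : F.P ≠ ⊥) {t : G} (htN : t ∈ Subgroup.normalizer (F.P : Set G))
    (htS : StabilizesBlock (CQ F.P) F.e t) :
    ∃ h : CInv F.P (cj t F.i),
      Points.EqPt (⟨F.i, F.hsrc.cinv⟩ : fixAlg M F.P) ⟨cj t F.i, h⟩ := by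
  classical
  have := F.factPrime
  have := charP_resField F.hM
  have := isAlgClosed_resField (M := M)
  have := Fintype.ofFinite (IrrCharacter (CQ F.P))
  have hn1 : ∀ s ∈ F.P, t⁻¹ * s * t ∈ F.P := fun s hs => by
    have := (Subgroup.mem_normalizer_iff.mp (inv_mem htN) s).mp hs
    simpa using this
  have hn2 : ∀ s ∈ F.P, t * s * t⁻¹ ∈ F.P := fun s hs => (Subgroup.mem_normalizer_iff.mp htN s).mp hs
  refine ⟨(cjFix M F.P t hn1 hn2 ⟨F.i, F.hsrc.cinv⟩).2, ?_⟩
  set i' := cj t F.i with hi'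
  have hi'c : CInv F.P i' := (cjFix M F.P t hn1 hn2 ⟨F.i, F.hsrc.cinv⟩).2
  have hI := F.isPt_i
  have hI' : Points.IsPt (⟨i', hi'c⟩ : fixAlg M F.P) := hI.map (σ := cjFix M F.P t hn1 hn2)
  have hPp := F.isPGroup_P
  have hinj : Function.Injective
      (emb : MonoidAlgebra (ResField M) (CQ F.P) → MonoidAlgebra (ResField M) G) :=
    fun x y hxy => ga_ext fun c => by rw [← coeff_emb_coe (G := G) x c, hxy, coeff_emb_coe]
  set a := resTo (CQ F.P) (trC F.P F.i) with ha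
  set a' := resTo (CQ F.P) (trC F.P i') with ha'
  have hcjS : cjS t F.P = F.P := cjS_eq_of_mem_normalizer htN
  have htr' : trC F.P i' = cj t (trC F.P F.i) := by
    conv_lhs => rw [← hcjS]
    exact trC_cj t F.P F.i
  have heq : emb (eK M F.e) = eG M F.e := by
    refine congrArg emb (ga_ext fun c => ?_)
    rw [coeff_blockBar, eK, coeff_toK]
    rfl
  have hae : a * eK M F.e = a := hinj (by
    rw [emb_mul, ← eq_emb_of_suppIn (suppIn_trC _), heq, F.hsrc.br])
  have ha'e : a' * eK M F.e = a' := hinj (by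
    rw [emb_mul, ← eq_emb_of_suppIn (suppIn_trC _), heq, htr',
      ← (stabilizesBlock_iff F.hM htN F.hmax.1.1.2).mp htS, ← cj_mul, F.hsrc.br])
  have haa : a * a = a := resTo_idem F.hM hPp F.hsrc.idem F.hsrc.cinv
  have ha'a : a' * a' = a' := resTo_idem F.hM hPp (congrArg Subtype.val hI'.idem) hi'c
  have hane : a ≠ 0 := fun h => F.hsrc.trC_ne_zero F.hM hPp (by
    rw [eq_emb_of_suppIn (suppIn_trC (R := F.P) F.i), show resTo _ (trC F.P F.i) = 0 from h]
    exact ga_ext fun x => by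
      by_cases hx : x ∈ CQ F.P
      · rw [show x = ((⟨x, hx⟩ : CQ F.P) : G) from rfl, coeff_emb_coe]; simp
      · rw [suppIn_emb _ _ hx]; simp)
  have ha'ne : a' ≠ 0 := fun h => by
    have h1 : cj t (trC F.P F.i) = 0 := by
      rw [← htr', eq_emb_of_suppIn (suppIn_trC (R := F.P) i'), show resTo _ (trC F.P i') = 0 from h]
      exact ga_ext fun x => by
        by_cases hx : x ∈ CQ F.P
        · rw [show x = ((⟨x, hx⟩ : CQ F.P) : G) from rfl, coeff_emb_coe]; simp
        · rw [suppIn_emb _ _ hx]; simp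
    refine F.hsrc.trC_ne_zero F.hM hPp (ga_ext fun x => ?_)
    have h2 := congrArg (fun z => z.coeff (t * x * t⁻¹)) h1
    simp only [coeff_cj, show t⁻¹ * (t * x * t⁻¹) * t = x by group] at h2
    simpa using h2
  -- points below the images
  have hr : blockRank p F.e = 1 := (blockRank_eq_one_of_unitRow F.hM.1.ne_one
    (isNilpotentBlock_unitRow F.hM (F.nilpotent_below hP1 (Relation.ReflTransGen.refl)))).1
  obtain ⟨n, s, hs, -, hsum, hbelow⟩ := Points.exists_decomp (k := ResField M) a haa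
  obtain ⟨n', s', hs', -, hsum', hbelow'⟩ := Points.exists_decomp (k := ResField M) a' ha'a
  cases n with
  | zero => exact absurd (hsum.symm.trans (by simp)) hane
  | succ n =>
  cases n' with
  | zero => exact absurd (hsum'.symm.trans (by simp)) ha'ne
  | succ n' =>
  obtain ⟨x, y, h1, h2, h3, h4, h5, -⟩ := eqPt_below F.hM F.hmax.1.1.2 hr (hs 0) (hs' 0)
    (by rw [← (hbelow 0).2, mul_assoc, hae]) (by rw [← (hbelow' 0).2, mul_assoc, ha'e])
  set j := s 0
  have hxinv : CInv F.P (emb x : MonoidAlgebra (ResField M) G) := cinv_of_suppIn (suppIn_emb x)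
  have hyinv : CInv F.P (emb y : MonoidAlgebra (ResField M) G) := cinv_of_suppIn (suppIn_emb y)
  refine Points.eqPt_of_val_ne_zero (k := ResField M) hI hI' (x := ⟨emb x, hxinv⟩) (y := ⟨emb y, hyinv⟩)
    fun hval => ?_
  have hnil := Points.val_nil (k := ResField M) hI
    ((⟨emb x, hxinv⟩ : fixAlg M F.P) * ⟨i', hi'c⟩ * ⟨emb y, hyinv⟩)
  rw [hval, zero_smul, sub_zero] at hnil
  obtain ⟨m, hm⟩ := hnil
  set z : MonoidAlgebra (ResField M) G := F.i * (emb x * i' * emb y) * F.i with hz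
  have hzc : CInv F.P z := (F.hsrc.cinv.mul ((hxinv.mul hi'c).mul hyinv)).mul F.hsrc.cinv
  have hax : a * x = x := by
    rw [← h1, ← mul_assoc, (hbelow 0).1]
  have hxa : x * a' = x := by
    rw [← h2, mul_assoc, (hbelow' 0).2]
  have hya : y * a = y := by
    rw [← h4, mul_assoc, (hbelow 0).2]
  have hres : resTo (CQ F.P) (trC F.P z) = j := by
    have hr1 : ∀ w : MonoidAlgebra (ResField M) (CQ F.P),
        resTo (CQ F.P) (trC F.P (emb w : MonoidAlgebra (ResField M) G)) = w := fun w => ga_ext fun c => by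
      rw [coeff_resTo, coeff_trC _ c.2, coeff_emb_coe]
    rw [hz, resTo_mul F.hM hPp (F.hsrc.cinv.mul ((hxinv.mul hi'c).mul hyinv)) F.hsrc.cinv,
      resTo_mul F.hM hPp F.hsrc.cinv ((hxinv.mul hi'c).mul hyinv),
      resTo_mul F.hM hPp (hxinv.mul hi'c) hyinv, resTo_mul F.hM hPp hxinv hi'c, hr1, hr1, ← ha, ← ha',
      hxa, ← mul_assoc, hax, mul_assoc, hya, h5]
  have hpow : ∀ l, resTo (CQ F.P) (trC F.P (z ^ (l + 1))) = j := by
    intro l
    induction l with
    | zero => rw [pow_one, hres]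
    | succ l ih =>
      rw [pow_succ, resTo_mul F.hM hPp (cinv_of_commute fun s hs => (hzc.commute hs).pow_right _) hzc,
        ih, hres]
      exact (hs 0).idem
  refine (hs 0).ne ?_
  have hm' : z ^ m = 0 := congrArg Subtype.val hm
  refine (hpow m).symm.trans ?_
  rw [pow_succ, hm', zero_mul]
  exact ga_ext fun c => by rw [coeff_resTo, coeff_trC _ c.2]; simp

/-- Invariance under the stabilizer. -/
theorem sv_conj {t : G} (htN : t ∈ Subgroup.normalizer (F.P : Set G))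
    (htS : StabilizesBlock (CQ F.P) F.e t) {Q : Subgroup G} (hQ1 : Q ≠ ⊥) (hQP : Q ≤ F.P) :
    F.sv (cjS t Q) = F.sv Q := by
  classical
  have hP1 : F.P ≠ ⊥ := fun h => hQ1 (le_bot_iff.mp (h ▸ hQP))
  have := F.factPrime
  obtain ⟨g, hgB, hle⟩ := exists_subpairLE F.hM F.hmax.1.1 Q hQP
  obtain ⟨η, hη⟩ := F.exists_row hQ1 hle
  have := Fintype.ofFinite (IrrCharacter (CQ Q))
  have := Fintype.ofFinite (IrrCharacter (CQ (cjS t Q)))
  have hiff : ∀ x, x ∈ CQ Q ↔ t * x * t⁻¹ ∈ CQ (cjS t Q) := cq_cjS_iff t Q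
  let φ : CQ Q ≃* CQ (cjS t Q) := cjHom hiff
  have hle' : SubpairLE p M (cjS t Q) (conjBlock Q t g) F.P F.e :=
    below_conj F.hM (a := (⟨Q, g⟩ : BrauerPairIdx G)) hle (cjP_eq_of_stabilizes F.hM htN F.hmax.1.1.2 htS)
  have hrow : IsRow p (conjBlock Q t g) (irrEquiv φ η) := by
    refine ⟨⟨η, hη.1, fun c c' hc => ?_⟩, fun θ hθ => ?_⟩
    · have hc' : c' = φ c := Subtype.ext hc
      rw [hc']
      exact (irrEquiv_apply φ η (φ c)).trans (congrArg _ (φ.symm_apply_apply c))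
    · obtain ⟨θ₀, hθ₀, hθv⟩ := hθ
      obtain ⟨d, hd⟩ := hη.2 θ₀ hθ₀
      refine ⟨d, fun c hc => ?_⟩
      rw [irrEquiv_apply, ← hd _ (by rwa [φ.symm.orderOf_eq])]
      exact hθv _ _ (congrArg Subtype.val (φ.apply_symm_apply c)).symm
  obtain ⟨hcj, heq⟩ := F.eqPt_cj hP1 htN htS
  have hQ'P : cjS t Q ≤ F.P := SubpairLE.le hle'
  have hQp' := F.isPGroup_of_le hQ'P
  rw [F.sv_eq hle' hrow, F.sv_eq hle hη]
  have h1 : idemVal (irrEquiv φ η) (resTo (CQ (cjS t Q)) (trC (cjS t Q) F.i)) =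
      idemVal (irrEquiv φ η) (resTo (CQ (cjS t Q)) (trC (cjS t Q) (cj t F.i))) := by
    obtain ⟨x, y, e1, e2, e3, e4, e5, e6⟩ := heq
    refine idemVal_eqPt F.hM _ ⟨resTo _ (trC (cjS t Q) x.1), resTo _ (trC (cjS t Q) y.1),
      ?_, ?_, ?_, ?_, ?_, ?_⟩
    · rw [← resTo_mul F.hM hQp' (F.hsrc.cinv.mono hQ'P) (x.2.mono hQ'P)]
      exact congrArg (fun w => resTo _ (trC (cjS t Q) w)) (congrArg Subtype.val e1)
    · rw [← resTo_mul F.hM hQp' (x.2.mono hQ'P) (hcj.mono hQ'P)]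
      exact congrArg (fun w => resTo _ (trC (cjS t Q) w)) (congrArg Subtype.val e2)
    · rw [← resTo_mul F.hM hQp' (hcj.mono hQ'P) (y.2.mono hQ'P)]
      exact congrArg (fun w => resTo _ (trC (cjS t Q) w)) (congrArg Subtype.val e3)
    · rw [← resTo_mul F.hM hQp' (y.2.mono hQ'P) (F.hsrc.cinv.mono hQ'P)]
      exact congrArg (fun w => resTo _ (trC (cjS t Q) w)) (congrArg Subtype.val e4)
    · rw [← resTo_mul F.hM hQp' (x.2.mono hQ'P) (y.2.mono hQ'P)]
      exact congrArg (fun w => resTo _ (trC (cjS t Q) w)) (congrArg Subtype.val e5)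
    · rw [← resTo_mul F.hM hQp' (y.2.mono hQ'P) (x.2.mono hQ'P)]
      exact congrArg (fun w => resTo _ (trC (cjS t Q) w)) (congrArg Subtype.val e6)
  rw [h1]
  refine idemVal_equiv F.hM φ η
    (resTo_idem F.hM (F.isPGroup_of_le hQP) F.hsrc.idem (F.hsrc.cinv.mono hQP)) fun x => ?_
  rw [coeff_resTo, coeff_resTo, trC_cj, coeff_cj]
  congr 1
  show t⁻¹ * (t * (x : G) * t⁻¹) * t = (x : G)
  group

/-- The values near one prime to `p`: signed characters. -/
theorem exists_signed_local {Q : Subgroup G} (hQ1 : Q ≠ ⊥) (hQP : Q ≤ F.P)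
    (hQs : ¬ p ∣ F.sv Q) :
    letI : CommGroup F.P := { mul_comm := fun a b => Subtype.ext (F.hab a a.2 b b.2) }
    ∃ g : F.P → ℤ, (IsGen fun v => (g v : ℂ)) ∧
      ∀ v : F.P, (g v).natAbs = F.sv (Q ⊔ Subgroup.zpowers (v : G)) ∧
        ¬ p ∣ F.sv (Q ⊔ Subgroup.zpowers (v : G)) := by
  classical
  letI : CommGroup F.P := { mul_comm := fun a b => Subtype.ext (F.hab a a.2 b b.2) }
  haveI := F.factPrime
  obtain ⟨g, hgB, hle⟩ := exists_subpairLE F.hM F.hmax.1.1 Q hQP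
  obtain ⟨η, hη⟩ := F.exists_row hQ1 hle
  have := Fintype.ofFinite (IrrCharacter (CQ Q))
  have hnil := F.nilpotent_below hQ1 hle
  have hmaxl := isMaximal_local F.hM F.hmax F.hab hle
  have hPC := le_cq F.hab hQP
  have hloc := F.isLocPt_local hle
  set P' : Subgroup (CQ Q) := F.P.subgroupOf (CQ Q)
  have hP'p : IsPGroup p P' := hmaxl.1.1.1
  have := Fintype.ofFinite P'
  let κ : F.P ≃* P' := (Subgroup.subgroupOfEquivOfLe hPC).symm
  obtain ⟨c, hc, hcK, hcP⟩ := exists_lift_idem_commute (S := (P' : Set (CQ Q))) hloc.idem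
    fun g hg x => hloc.cinv g hg x
  -- the values
  set f : F.P → ℂ := fun v => sval c η ((κ v : P') : CQ Q) with hf
  have hfgen : IsGeneralizedCharacter F.P f := Char.isGeneralizedCharacter_of_isCharacter
    (Char.isCharacter_comp (isCharacter_sval c hc hcP η) κ.toMonoidHom)
  have hone : sval c η 1 = (F.sv Q : ℂ) := by
    rw [sval_one, idemVal_spec F.hM hc hcK, F.sv_eq hle hη]
  obtain ⟨w₁, hw₁, hw₁r⟩ := exists_sval_res F.hM hP'p hcK hloc.cinv η 1
  have hQne : res M w₁ ≠ 0 := by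
    have : w₁ = (F.sv Q : locRing M) := Subtype.ext (by
      rw [hw₁, OneMemClass.coe_one, hone]; simp)
    have := charP_resField F.hM
    rw [‹w₁ = _›, map_natCast]
    exact fun h => hQs ((CharP.cast_eq_zero_iff (ResField M) p _).mp h)
  set low : P' → BrauerPairIdx (CQ Q) := lowPair F.hM hmaxl.1.1 with hlowdef
  obtain ⟨K, hK⟩ : ∃ K, Nat.card P' = p ^ K := IsPGroup.iff_card.mp hP'p
  have key : ∀ y : P', ∃ (d : ℂ) (n : ℕ), sval c η (y : CQ Q) = (n : ℂ) * d ∧
      n = F.sv (Q ⊔ (Subgroup.zpowers (y : CQ Q)).map (CQ Q).subtype) ∧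
      d ∈ cycInt (Nat.card P') ∧
      (Nat.card (Subgroup.centralizer ({y} : Set P')) : ℂ) * secSum p η η (y : CQ Q) (low y) /
        (Nat.card (CQ (Subgroup.zpowers (y : CQ Q))) : ℂ) = d * conj d := by
    intro y
    obtain ⟨b, hlb⟩ := exists_eq_pairMk (a := low y) (Q := Subgroup.zpowers (y : CQ Q)) rfl
    have hbel : SubpairLE p M (Subgroup.zpowers (y : CQ Q)) b P' (locE hPC (cq_mono hQP) F.e) := by
      have := lowPair_below F.hM hmaxl.1.1 y
      rw [← hlowdef, hlb] at this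
      exact this
    have hpair := (SubpairLE.isBrauerPairOf_iff F.hM hbel).mp hmaxl.1
    have := Fintype.ofFinite (IrrCharacter (CQ (Subgroup.zpowers (y : CQ Q))))
    obtain ⟨ζ, hζ, hrows, hnorm⟩ := isNilpotentBlock_unitRow F.hM
      (isNilpotentBlock_local F.hM hnil hpair)
    have hu := isPPow_of_mem F.hM hP'p y
    have hyn : (y : CQ Q) ^ Nat.card P' = 1 := congrArg Subtype.val (pow_card_eq_one' (x := y))
    have hcy : Commute (single (y : CQ Q) 1) c := hcP _ y.2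
    have hiy : Commute (single (y : CQ Q) 1) (resTo (CQ Q) (trC Q F.i)) := hloc.cinv.commute y.2
    refine ⟨rowCoeff ζ η (y : CQ Q) b, idemVal ζ (resTo _ (trC (Subgroup.zpowers (y : CQ Q))
      (resTo (CQ Q) (trC Q F.i)))), ?_, F.sv_sup hle hbel ⟨hζ, hrows⟩ rfl, ?_, ?_⟩
    · rw [← liftVal_eq F.hM hu hc hcy η, hcK, liftVal_eq_mul F.hM hu hpair.1.2 hrows hloc.idem hiy
        (hloc.br_block F.hM hmaxl.1.1 hbel) η, mul_comm]
    · choose! d hd using hrows
      exact (rowCoeff_spec F.hM Nat.card_pos.ne' hyn d hd η).1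
    · rw [hlb, secSum_eq_mul F.hM Nat.card_pos.ne' hyn hrows]
      have hcard : (Nat.card (Subgroup.centralizer ({y} : Set P')) : ℂ) = (p : ℂ) ^ blockDefect p b := by
        rw [card_centralizer_eq_inf, ← card_subgroupOf_inf, defectGroup_card F.hM hpair.1.2
          (isDefectGroup_inf_of_nilpotent F.hM hmaxl hnil hbel), Nat.cast_pow]
      have hQ0 : (Nat.card (CQ (Subgroup.zpowers (y : CQ Q))) : ℂ) ≠ 0 :=
        Nat.cast_ne_zero.mpr Nat.card_pos.ne'
      rw [hcard, div_eq_iff hQ0]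
      linear_combination (rowCoeff ζ η (y : CQ Q) b * conj (rowCoeff ζ η (y : CQ Q) b) *
        (Nat.card (CQ (Subgroup.zpowers (y : CQ Q))) : ℂ)) * hnorm
  choose d n hdn hn hdcyc hsec using key
  have := charP_resField F.hM
  have hdint : ∀ y, IsIntegral ℤ (d y) := fun y => isIntegral_of_mem_cycInt Nat.card_pos.ne' (hdcyc y)
  have hboth : ∀ y, d y ≠ 0 ∧ ¬ p ∣ n y := by
    intro y
    obtain ⟨w, hw, hwres⟩ := exists_sval_res F.hM hP'p hcK hloc.cinv η y
    have hne : res M w ≠ 0 := by rw [hwres, ← hw₁r]; exact hQne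
    rw [hdn y] at hw
    refine ⟨fun h => hne ?_, fun h => hne ?_⟩
    · rw [show w = 0 from Subtype.ext (by rw [hw, h, mul_zero, ZeroMemClass.coe_zero]), map_zero]
    · rw [show w = (n y : locRing M) * ⟨d y, integral_mem M (hdint y)⟩ from Subtype.ext (by
        rw [Subring.coe_mul, hw]; simp), map_mul, map_natCast,
        (CharP.cast_eq_zero_iff (ResField M) p (n y)).mpr h, zero_mul]
  have htot := sum_secSum_nilpotent F.hM hmaxl hnil low
    (fun y => ⟨rfl, lowPair_below F.hM hmaxl.1.1 y⟩) hη.1 hη.1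
  rw [if_pos rfl, Finset.sum_congr rfl fun y _ => hsec y] at htot
  have hunit : ∀ y, d y * conj (d y) = 1 :=
    normSq_eq_one_of_card_eq Nat.card_pos.ne' (fun y => (⟨d y, hdcyc y⟩ : cycInt (Nat.card P')))
      (fun y => (hboth y).1) (by
        rw [Int.cast_natCast, ← Nat.card_eq_fintype_card]
        exact htot)
  have hd1 : d (κ 1) = 1 := by
    have h := hdn (κ 1)
    rw [map_one, OneMemClass.coe_one, hone] at h
    have h' : ((n 1 : ℂ) * d 1) * conj ((n 1 : ℂ) * d 1) = ((F.sv Q : ℂ)) * (F.sv Q : ℂ) := by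
      rw [← h, map_natCast]
    rw [map_mul, map_natCast, show (n 1 : ℂ) * d 1 * ((n 1 : ℂ) * conj (d 1)) =
      (n 1 : ℂ) * (n 1 : ℂ) * (d 1 * conj (d 1)) by ring, hunit, mul_one] at h'
    have hnS : n 1 = F.sv Q := Nat.mul_self_inj.mp (by exact_mod_cast h')
    rw [map_one]
    rw [hnS] at h
    exact ((mul_eq_left₀ (Nat.cast_ne_zero.mpr fun (h0 : F.sv Q = 0) => hQs (by rw [h0]; exact dvd_zero p))).mp h.symm)
  obtain ⟨g', hg', habs⟩ := exists_signed (A := F.P) (p := p) F.isPGroup_P (f := f) hfgen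
    (N := fun v => n (κ v)) (d := fun v => d (κ v)) (fun v => hdn (κ v))
    (fun v => (hboth (κ v)).2) (fun v => hdint (κ v)) (fun v => hunit (κ v)) hd1
  have hmap : ∀ v : F.P, n (κ v) = F.sv (Q ⊔ Subgroup.zpowers (v : G)) := by
    intro v
    rw [hn (κ v), MonoidHom.map_zpowers]
    rfl
  exact ⟨g', hg', fun v => ⟨by rw [habs v, hmap v], hmap v ▸ (hboth (κ v)).2⟩⟩

/-- The values at cyclic subgroups are prime to `p`. -/
theorem sv_zpowers_not_dvd {y : G} (hy : y ∈ F.P) (hy1 : y ≠ 1) :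
    ¬ p ∣ F.sv (Subgroup.zpowers y) := by
  classical
  have := F.factPrime
  have := charP_resField F.hM
  have := Fintype.ofFinite F.P
  have hQ1 : Subgroup.zpowers y ≠ ⊥ := by rwa [ne_eq, Subgroup.zpowers_eq_bot]
  have hQP : Subgroup.zpowers y ≤ F.P := Subgroup.zpowers_le.mpr hy
  obtain ⟨g, hgB, hle⟩ := exists_subpairLE F.hM F.hmax.1.1 _ hQP
  obtain ⟨η, hη⟩ := F.exists_row hQ1 hle
  obtain ⟨c, hc, hcK, hcP⟩ := exists_lift_idem_commute (S := (F.P : Set G)) F.hsrc.idem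
    fun g hg x => F.hsrc.cinv g hg x
  obtain ⟨k, hk⟩ := isPPow_of_mem F.hM F.isPGroup_P ⟨y, hy⟩
  obtain ⟨w, hw, hwres⟩ := exists_sval_res F.hM F.isPGroup_P hcK F.hsrc.cinv F.χ₀ ⟨y, hy⟩
  have hne : res M w ≠ 0 := hwres ▸ F.hsrc.trB_ne
  have hyn : y ^ p ^ k = 1 := hk ▸ pow_orderOf_eq_one y
  rw [← liftVal_eq F.hM ⟨k, hk⟩ hc (hcP _ hy) F.χ₀, hcK, liftVal_eq_mul F.hM ⟨k, hk⟩ hgB.2 hη.2
    F.hsrc.idem (F.hsrc.cinv.commute hy) (F.isLocPt.br_block F.hM F.hmax.1.1 hle) F.χ₀,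
    ← F.sv_eq hle hη] at hw
  choose! d hd using hη.2
  have hint := isIntegral_of_mem_cycInt (pow_ne_zero k F.hM.1.ne_zero)
    (rowCoeff_spec F.hM (pow_ne_zero k F.hM.1.ne_zero) hyn d hd F.χ₀).1
  intro h
  refine hne ?_
  rw [show w = (⟨_, integral_mem M hint⟩ : locRing M) * (F.sv (Subgroup.zpowers y) : locRing M)
    from Subtype.ext (by rw [Subring.coe_mul, hw]; simp), map_mul, map_natCast,
    (CharP.cast_eq_zero_iff (ResField M) p _).mpr h, mul_zero]

/-- All values are prime to `p`. -/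
theorem sv_not_dvd {Q : Subgroup G} (hQ1 : Q ≠ ⊥) (hQP : Q ≤ F.P) : ¬ p ∣ F.sv Q := by
  classical
  obtain ⟨y, hyQ, hy1⟩ := (Subgroup.ne_bot_iff_exists_ne_one.mp hQ1) |> fun ⟨x, hx⟩ =>
    (⟨x.1, x.2, fun h => hx (Subtype.ext h)⟩ : ∃ x, x ∈ Q ∧ x ≠ 1)
  set S : Finset (Subgroup G) :=
    Finset.univ.filter fun R => R ≤ Q ∧ R ≠ ⊥ ∧ ¬ p ∣ F.sv R with hS
  have hyS : Subgroup.zpowers y ∈ S := Finset.mem_filter.mpr ⟨Finset.mem_univ _,
    Subgroup.zpowers_le.mpr hyQ, by rwa [ne_eq, Subgroup.zpowers_eq_bot],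
    F.sv_zpowers_not_dvd (hQP hyQ) hy1⟩
  obtain ⟨R, hR, hmax⟩ := S.exists_maximal ⟨_, hyS⟩
  obtain ⟨-, hRQ, hR1, hRs⟩ := Finset.mem_filter.mp hR
  rcases eq_or_lt_of_le hRQ with h | h
  · exact h ▸ hRs
  exfalso
  obtain ⟨v, hvQ, hvR⟩ := SetLike.exists_of_lt h
  obtain ⟨g, -, hg⟩ := F.exists_signed_local hR1 (hRQ.trans hQP) hRs
  have hlt : R < R ⊔ Subgroup.zpowers v := lt_of_le_of_ne le_sup_left fun e =>
    hvR (e ▸ Subgroup.mem_sup_right (Subgroup.mem_zpowers v))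
  refine not_le_of_gt hlt (hmax (Finset.mem_filter.mpr ⟨Finset.mem_univ _,
    sup_le hRQ (Subgroup.zpowers_le.mpr hvQ), fun e => hR1 (le_bot_iff.mp (e ▸ hlt.le)),
    (hg ⟨v, hQP hvQ⟩).2⟩) hlt.le)

/-- The signed function. -/
theorem exists_unit :
    letI : CommGroup F.P := { mul_comm := fun a b => Subtype.ext (F.hab a a.2 b b.2) }
    ∃ U : F.P → ℤ, (IsGen fun v => (U v : ℂ)) ∧
      (∀ y : F.P, y ≠ 1 → (U y).natAbs = F.sv (Subgroup.zpowers (y : G))) ∧
      ∀ t ∈ Subgroup.normalizer (F.P : Set G), StabilizesBlock (CQ F.P) F.e t → ∀ y z : F.P,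
        t * (y : G) * t⁻¹ = (z : G) → y ≠ 1 → U z = U y := by
  classical
  letI : CommGroup F.P := { mul_comm := fun a b => Subtype.ext (F.hab a a.2 b b.2) }
  haveI := F.factPrime
  letI := Fintype.ofFinite F.P
  set S : Subgroup F.P → ℕ := fun R => F.sv (R.map F.P.subtype) with hSdef
  have hne : ∀ R : Subgroup F.P, R ≠ ⊥ → R.map F.P.subtype ≠ ⊥ := fun R hR h =>
    hR ((Subgroup.map_eq_bot_iff_of_injective R F.P.subtype_injective).mp h)
  have hS : ∀ R, R ≠ ⊥ → ¬ p ∣ S R := fun R hR => F.sv_not_dvd (hne R hR) (Subgroup.map_subtype_le R)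
  obtain ⟨U, hU, hval⟩ := exists_glue (p := p) F.isPGroup_P S hS fun R hR => by
    obtain ⟨g, hg, hv⟩ := F.exists_signed_local (hne R hR) (Subgroup.map_subtype_le R) (hS R hR)
    refine ⟨g, hg, fun v => ?_⟩
    rw [(hv v).1, hSdef]
    simp only [Subgroup.map_sup, MonoidHom.map_zpowers]
    rfl
  have hsv : ∀ y : F.P, S (Subgroup.zpowers y) = F.sv (Subgroup.zpowers (y : G)) := fun y => by
    simp only [hSdef, MonoidHom.map_zpowers]
    rfl
  refine ⟨U, hU, fun y hy => (hval y hy).1.trans (hsv y), fun t htN htS y z hyz hy => ?_⟩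
  have hz : z ≠ 1 := fun h => hy (Subtype.ext (by
    rw [h, OneMemClass.coe_one] at hyz
    rw [OneMemClass.coe_one]
    exact mul_left_cancel (a := t) ((mul_inv_eq_one.mp hyz).trans (mul_one t).symm)))
  obtain ⟨hy1, hy2⟩ := hval y hy
  obtain ⟨hz1, hz2⟩ := hval z hz
  have hsame : (U z).natAbs = (U y).natAbs := by
    rw [hy1, hz1, hsv, hsv, ← hyz, ← cjS_zpowers]
    exact F.sv_conj htN htS (by simpa [Subgroup.zpowers_eq_bot] using hy)
      (Subgroup.zpowers_le.mpr y.2)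
  rcases Int.natAbs_eq_natAbs_iff.mp hsame with h | h
  · exact h
  · exfalso
    refine not_modP_dvd_two_mul (hS (Subgroup.zpowers y) (by rwa [ne_eq, Subgroup.zpowers_eq_bot])) ?_
    have h3 := dvd_sub hy2 hz2
    rw [h, sub_sub_sub_cancel_right, sub_neg_eq_add, ← two_mul] at h3
    rw [← hy1]
    rcases Int.natAbs_eq (U y) with e | e
    · rwa [← e]
    · rw [show ((U y).natAbs : ℤ) = -U y by omega, mul_neg]
      exact h3.neg_right

end FreeFrame

end CfsgLib.Block.FreeInertial
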