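import Cfsg.Agent.Lib.Block.FreeInertial.Sums
import Cfsg.Agent.Lib.Block.FreeInertial.Integral

/-!
# The integral vectors of a block with free inertial action

For a character `ψ` of `P` the numbers `|P|⁻¹ * ∑ val χ y / U y * (conj (ψ y) - 1)` are integers;
their inner products over the block are `e + [same orbit]` (`FreeFrame.exists_vectors`).
-/

open Finset MonoidAlgebra
open scoped ComplexConjugate

set_option autoImplicit false
set_option linter.unusedSectionVars false

namespace CfsgLib.Block.FreeInertial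

open Cfsg CfsgLib CfsgLib.Block CfsgLib.Block.CyclicDefect CfsgLib.Block.AbelianDefect
open scoped Pair

universe u

attribute [-instance] MonoidHom.instPow

variable {p : ℕ} {M : Ideal AlgInt} [M.IsMaximal]
variable {G : Type u} [Group G] [Fintype G] [DecidableEq G] [Fintype (IrrCharacter G)]

/-- Conjugation by an element of the normalizer. -/
def conjP (P : Subgroup G) (t : Subgroup.normalizer (P : Set G)) : P →* P where
  toFun y := ⟨(t : G) * (y : G) * (t : G)⁻¹, (Subgroup.mem_normalizer_iff.mp t.2 y).mp y.2⟩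
  map_one' := Subtype.ext (by simp)
  map_mul' a b := Subtype.ext (by simp [mul_assoc])

theorem conjP_inj (P : Subgroup G) (t : Subgroup.normalizer (P : Set G)) :
    Function.Injective (conjP P t) := fun a b h => Subtype.ext (by
  simpa [conjP] using congrArg Subtype.val h)

namespace FreeFrame

variable (F : FreeFrame p M G)

theorem val_div_integral {U : F.P → ℤ}
    (hU : ∀ y : F.P, y ≠ 1 → (U y).natAbs = F.sv (Subgroup.zpowers (y : G))) (χ : IrrCharacter G)
    {y : F.P} (hy : y ≠ 1) : IsIntegral ℤ (F.val χ y / (U y : ℂ)) := by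
  classical
  have := F.factPrime
  obtain ⟨b, hlow, hle⟩ := F.exists_block y
  obtain ⟨η, hη⟩ := F.exists_row (F.zpowers_ne_bot hy) hle
  obtain ⟨k, hk⟩ := F.pPow y
  have := Fintype.ofFinite (IrrCharacter (CQ (Subgroup.zpowers (y : G))))
  have hpair := (SubpairLE.isBrauerPairOf_iff F.hM hle).mp F.hmax.1
  obtain ⟨hc, hcK, hcP⟩ := F.exists_lift.choose_spec
  have hval : F.val χ y = rowCoeff η χ (y : G) b * (F.sv (Subgroup.zpowers (y : G)) : ℂ) := by
    rw [val, lift, ← liftVal_eq F.hM ⟨k, hk⟩ hc (hcP _ y.2) χ, hcK,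
      liftVal_eq_mul F.hM ⟨k, hk⟩ hpair.1.2 hη.2 F.hsrc.idem (F.hsrc.cinv.commute y.2)
        (F.isLocPt.br_block F.hM F.hmax.1.1 hle) χ, ← F.sv_eq hle hη]
  choose! d hd using hη.2
  have hrc := isIntegral_of_mem_cycInt (pow_ne_zero k F.hM.1.ne_zero)
    (rowCoeff_spec F.hM (pow_ne_zero k F.hM.1.ne_zero) (hk ▸ pow_orderOf_eq_one (y : G)) d hd χ).1
  have hs0 : (F.sv (Subgroup.zpowers (y : G)) : ℂ) ≠ 0 :=
    Nat.cast_ne_zero.mpr fun (e : F.sv (Subgroup.zpowers (y : G)) = 0) =>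
      F.sv_not_dvd (F.zpowers_ne_bot hy) (Subgroup.zpowers_le.mpr y.2) (by rw [e]; exact dvd_zero p)
  rw [hval, ← hU y hy]
  rw [← hU y hy] at hs0
  rcases Int.natAbs_eq (U y) with e | e
  · rw [show (U y : ℂ) = ((U y).natAbs : ℂ) by conv_lhs => rw [e, Int.cast_natCast],
      mul_div_assoc, div_self hs0, mul_one]
    exact hrc
  · rw [show (U y : ℂ) = -((U y).natAbs : ℂ) by conv_lhs => rw [e, Int.cast_neg, Int.cast_natCast],
      div_neg, mul_div_assoc, div_self hs0, mul_one]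
    exact hrc.neg

/-- The signed values of `sv`. -/
noncomputable def unit : F.P → ℤ := F.exists_unit.choose

theorem natAbs_unit {y : F.P} (hy : y ≠ 1) :
    (F.unit y).natAbs = F.sv (Subgroup.zpowers (y : G)) := F.exists_unit.choose_spec.2.1 y hy

theorem unit_ne_zero {y : F.P} (hy : y ≠ 1) : (F.unit y : ℂ) ≠ 0 :=
  Int.cast_ne_zero.mpr fun h => F.sv_not_dvd (F.zpowers_ne_bot hy) (Subgroup.zpowers_le.mpr y.2) (by
    rw [← F.natAbs_unit hy, h]; exact dvd_zero p)

open scoped Classical in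
/-- The normalized values. -/
noncomputable def gv (χ : IrrCharacter G) (y : F.P) : ℂ :=
  if y = 1 then 0 else F.val χ y / (F.unit y : ℂ)

theorem gv_one (χ : IrrCharacter G) : F.gv χ 1 = 0 := if_pos rfl

theorem gv_of_ne (χ : IrrCharacter G) {y : F.P} (hy : y ≠ 1) :
    F.gv χ y = F.val χ y / (F.unit y : ℂ) := if_neg hy

open scoped Classical in
/-- The vectors. -/
theorem exists_vectors (T : Subgroup G)
    (hT : ∀ g, g ∈ T ↔ g ∈ Subgroup.normalizer (F.P : Set G) ∧ StabilizesBlock (CQ F.P) F.e g) :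
    ∃ v : (F.P →* ℂˣ) → IrrCharacter G → ℤ,
      (∀ ψ φ : F.P →* ℂˣ, ψ ≠ 1 → φ ≠ 1 →
        (Nat.card (CQ F.P) : ℤ) * ∑ χ ∈ Finset.univ.filter (· ∈ F.B), v ψ χ * v φ χ =
          (Nat.card T : ℤ) +
            (Nat.card {t : T // φ.comp (conjP F.P ⟨t, ((hT t).mp t.2).1⟩) = ψ} : ℤ)) ∧
      (∀ χ ∈ F.B, (∃ y : F.P, y ≠ 1) → ∃ ψ : F.P →* ℂˣ, ψ ≠ 1 ∧ v ψ χ ≠ 0) ∧
      ∀ [Fintype (F.P →* ℂˣ)] (χ : IrrCharacter G) (y : F.P), y ≠ 1 →
        F.gv χ y = ∑ ψ : F.P →* ℂˣ, if ψ = 1 then 0 else (v ψ χ : ℂ) * (ψ y : ℂ) := by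
  letI : CommGroup F.P := { mul_comm := fun a b => Subtype.ext (F.hab a a.2 b b.2) }
  haveI := F.factPrime
  letI := Fintype.ofFinite F.P
  obtain ⟨hU, habs, hinv⟩ := F.exists_unit.choose_spec
  set U := F.exists_unit.choose with hUdef
  have hUp : ∀ y : F.P, y ≠ 1 → ¬ (p : ℤ) ∣ U y := fun y hy h => by
    rw [Int.natCast_dvd, habs y hy] at h
    exact F.sv_not_dvd (F.zpowers_ne_bot hy) (Subgroup.zpowers_le.mpr y.2) h
  have hU0 : ∀ y : F.P, y ≠ 1 → (U y : ℂ) ≠ 0 := fun y hy =>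
    Int.cast_ne_zero.mpr fun h => hUp y hy (h ▸ dvd_zero _)
  choose v hv using fun (ψ : F.P →* ℂˣ) (χ : IrrCharacter G) => exists_int_quot (p := p) F.isPGroup_P
    (isGen_iff.mpr (F.val_gen χ)) hU hUp (fun y hy => F.val_div_integral habs χ hy) ψ
  have hN : (Nat.card F.P : ℂ) ≠ 0 := Nat.cast_ne_zero.mpr Nat.card_pos.ne'
  set C := CQ F.P with hCdef
  have hCT : C ≤ T := fun c hc => (hT c).mpr ⟨centralizer_le_normalizer' _ hc,
    (stabilizesBlock_iff F.hM (centralizer_le_normalizer' _ hc) F.hmax.1.1.2).mpr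
      (cinv_iff_cj.mp (cinv_eG F.e) c hc)⟩
  letI := Fintype.ofFinite T
  let cT : T → (F.P →* F.P) := fun t => conjP F.P ⟨t, ((hT t).mp t.2).1⟩
  -- the number of elements carrying `y` to `z`
  have hcount : ∀ y z : F.P, y ≠ 1 →
      ((Finset.univ.filter fun t : T => cT t y = z).card : ℂ) =
        if F.Fused y z then (Nat.card C : ℂ) else 0 := by
    intro y z hy
    split_ifs with h
    · obtain ⟨t₀, ht₀N, ht₀S, ht₀⟩ := h
      have ht₀T : t₀ ∈ T := (hT t₀).mpr ⟨ht₀N, ht₀S⟩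
      rw [Nat.cast_inj, ← Fintype.card_subtype, ← Nat.card_eq_fintype_card]
      refine (Nat.card_congr
        { toFun := fun c : C => (⟨⟨t₀ * c, T.mul_mem ht₀T (hCT c.2)⟩, Subtype.ext (by
            show t₀ * (c : G) * (y : G) * (t₀ * (c : G))⁻¹ = (z : G)
            rw [← ht₀, mul_inv_rev, show t₀ * (c : G) * (y : G) * ((c : G)⁻¹ * t₀⁻¹) =
              t₀ * ((c : G) * (y : G) * (c : G)⁻¹) * t₀⁻¹ by group,
              ← Subgroup.mem_centralizer_iff.mp c.2 _ y.2, mul_inv_cancel_right])⟩ :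
            {t : T // cT t y = z})
          invFun := fun t => ⟨t₀⁻¹ * (t.1 : G), by
            have hmem : t₀⁻¹ * (t.1 : G) ∈ T := T.mul_mem (T.inv_mem ht₀T) t.1.2
            refine F.hfree _ ((hT _).mp hmem).1 ((hT _).mp hmem).2 y y.2
              (fun h => hy (Subtype.ext h)) ?_
            have h1 : (t.1 : G) * (y : G) * (t.1 : G)⁻¹ = (z : G) := congrArg Subtype.val t.2
            show t₀⁻¹ * (t.1 : G) * (y : G) = (y : G) * (t₀⁻¹ * (t.1 : G))
            rw [show t₀⁻¹ * (t.1 : G) * (y : G) =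
              t₀⁻¹ * ((t.1 : G) * (y : G) * (t.1 : G)⁻¹) * (t.1 : G) by group, h1, ← ht₀]
            group⟩
          left_inv := fun c => Subtype.ext (by simp)
          right_inv := fun t => Subtype.ext (Subtype.ext (by simp)) }).symm
    · rw [Nat.cast_eq_zero, Finset.card_eq_zero, Finset.filter_eq_empty_iff]
      exact fun t _ ht => h ⟨t, ((hT t).mp t.2).1, ((hT t).mp t.2).2, congrArg Subtype.val ht⟩
  have hlin : ∀ μ : F.P →* ℂˣ, ∑ y : F.P, (μ y : ℂ) =
      if μ = 1 then (Nat.card F.P : ℂ) else 0 := fun μ => by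
    split_ifs with h
    · subst h; simp [Nat.card_eq_fintype_card]
    · exact sum_hom_units_eq_zero ((Units.coeHom ℂ).comp μ) fun e => h (MonoidHom.ext fun y =>
        Units.ext (DFunLike.congr_fun e y))
  refine ⟨v, fun ψ φ hψ hφ => ?_, fun χ hχ ⟨y₁, hy₁⟩ => ?_, fun χ y hy => ?_⟩
  · -- the inner products
    have hre : ∀ χ, (Nat.card F.P : ℂ) * (v φ χ : ℂ) =
        ∑ z : F.P, conj (F.val χ z / (U z : ℂ)) * ((φ z : ℂ) - 1) := fun χ => by
      have h := congrArg conj (hv φ χ)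
      rw [map_mul, map_natCast, map_intCast, map_sum] at h
      rw [← h]
      exact Finset.sum_congr rfl fun z _ => by
        rw [map_mul, map_sub, map_one, ← conj_lin, Complex.conj_conj]
    have hterm : ∀ y z : F.P,
        (∑ χ ∈ Finset.univ.filter (· ∈ F.B), F.val χ y / (U y : ℂ) * conj (F.val χ z / (U z : ℂ))) *
          ((Nat.card C : ℂ) * (((ψ y⁻¹ : ℂ) - 1) * ((φ z : ℂ) - 1))) =
        (Nat.card F.P : ℂ) * ((Finset.univ.filter fun t : T => cT t y = z).card : ℂ) *
          (((ψ y⁻¹ : ℂ) - 1) * ((φ z : ℂ) - 1)) := by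
      intro y z
      rcases eq_or_ne y 1 with rfl | hy
      · simp
      rcases eq_or_ne z 1 with rfl | hz
      · simp
      have hS : ∑ χ ∈ Finset.univ.filter (· ∈ F.B), F.val χ y / (U y : ℂ) * conj (F.val χ z / (U z : ℂ)) =
          (∑ χ ∈ Finset.univ.filter (· ∈ F.B), F.val χ y * conj (F.val χ z)) /
            ((U y : ℂ) * (U z : ℂ)) := by
        rw [Finset.sum_div]
        refine Finset.sum_congr rfl fun χ _ => ?_
        rw [map_div₀, map_intCast]
        ring
      rw [hS, F.sum_val hy hz, hcount y z hy]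
      split_ifs with h
      · obtain ⟨t, htN, htS, ht⟩ := h
        rw [hinv t htN htS y z ht hy, F.sv_fused hy ⟨t, htN, htS, ht⟩]
        have hsq : (F.sv (Subgroup.zpowers (y : G)) : ℂ) * (F.sv (Subgroup.zpowers (y : G)) : ℂ) =
            (U y : ℂ) * (U y : ℂ) := by
          rw [← habs y hy]
          rcases Int.natAbs_eq (U y) with e | e <;> rw [e] <;> simp
        rw [mul_assoc (Nat.card F.P : ℂ), hsq]
        field_simp [hU0 y hy]
      · simp
    have hmain : (Nat.card C : ℂ) * ((Nat.card F.P : ℂ) * (Nat.card F.P : ℂ) *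
        ∑ χ ∈ Finset.univ.filter (· ∈ F.B), (v ψ χ : ℂ) * (v φ χ : ℂ)) =
        (Nat.card F.P : ℂ) * ∑ t : T, ∑ y : F.P, ((ψ y⁻¹ : ℂ) - 1) * ((φ (cT t y) : ℂ) - 1) := by
      rw [Finset.mul_sum, Finset.mul_sum, Finset.sum_congr rfl (g := fun χ => ∑ y : F.P, ∑ z : F.P,
        F.val χ y / (U y : ℂ) * conj (F.val χ z / (U z : ℂ)) *
          ((Nat.card C : ℂ) * (((ψ y⁻¹ : ℂ) - 1) * ((φ z : ℂ) - 1)))) fun χ _ => by
        rw [show (Nat.card C : ℂ) * ((Nat.card F.P : ℂ) * (Nat.card F.P : ℂ) *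
            ((v ψ χ : ℂ) * (v φ χ : ℂ))) = (Nat.card C : ℂ) *
            (((Nat.card F.P : ℂ) * (v ψ χ : ℂ)) * ((Nat.card F.P : ℂ) * (v φ χ : ℂ))) by ring,
          ← hv ψ χ, hre χ, Finset.sum_mul_sum, Finset.mul_sum]
        refine Finset.sum_congr rfl fun y _ => ?_
        rw [Finset.mul_sum]
        exact Finset.sum_congr rfl fun z _ => by ring, Finset.sum_comm]
      rw [Finset.sum_congr rfl (g := fun y : F.P => ∑ t : T, (Nat.card F.P : ℂ) *
        (((ψ y⁻¹ : ℂ) - 1) * ((φ (cT t y) : ℂ) - 1))) fun y _ => by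
        rw [Finset.sum_comm, Finset.sum_congr rfl fun z _ => by rw [← Finset.sum_mul, hterm y z],
          ← Finset.sum_fiberwise_of_maps_to (s := (Finset.univ : Finset T)) (t := Finset.univ)
            (g := fun t => cT t y) fun t _ => Finset.mem_univ _]
        refine Finset.sum_congr rfl fun z _ => ?_
        rw [Finset.sum_congr rfl (g := fun _ => (Nat.card F.P : ℂ) *
          (((ψ y⁻¹ : ℂ) - 1) * ((φ z : ℂ) - 1))) fun t ht => by rw [(Finset.mem_filter.mp ht).2],
          Finset.sum_const, nsmul_eq_mul]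
        ring, Finset.sum_comm]
      simp only [Finset.mul_sum]
    have hinner : ∀ t : T, ∑ y : F.P, ((ψ y⁻¹ : ℂ) - 1) * ((φ (cT t y) : ℂ) - 1) =
        (Nat.card F.P : ℂ) * (1 + if φ.comp (cT t) = ψ then 1 else 0) := by
      intro t
      have hne : φ.comp (cT t) ≠ 1 := fun h => hφ (MonoidHom.ext fun z => by
        obtain ⟨y, hy⟩ := (Finite.injective_iff_surjective.mp
          (conjP_inj F.P ⟨t, ((hT t).mp t.2).1⟩)) z
        rw [← hy]
        exact DFunLike.congr_fun h y)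
      have hψ' : ψ⁻¹ ≠ 1 := fun h => hψ (MonoidHom.ext fun y => by
        have h1 := DFunLike.congr_fun h y
        simpa using h1)
      have e : ∀ y : F.P, ((ψ y⁻¹ : ℂ) - 1) * ((φ (cT t y) : ℂ) - 1) =
          ((ψ⁻¹ * φ.comp (cT t)) y : ℂ) - ((ψ⁻¹) y : ℂ) - ((φ.comp (cT t)) y : ℂ) + 1 := fun y => by
        rw [MonoidHom.mul_apply, Units.val_mul, MonoidHom.inv_apply, MonoidHom.comp_apply, map_inv]
        ring
      rw [Finset.sum_congr rfl fun y _ => e y, Finset.sum_add_distrib, Finset.sum_sub_distrib,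
        Finset.sum_sub_distrib, hlin, hlin, hlin, if_neg hψ', if_neg hne, Finset.sum_const,
        Finset.card_univ, nsmul_eq_mul, mul_one, ← Nat.card_eq_fintype_card]
      have hiff : ψ⁻¹ * φ.comp (cT t) = 1 ↔ ψ = φ.comp (cT t) := by
        constructor <;> intro h
        · ext y
          have h1 := DFunLike.congr_fun h y
          rw [MonoidHom.mul_apply, MonoidHom.inv_apply, MonoidHom.one_apply] at h1
          exact congrArg Units.val (inv_mul_eq_one.mp h1)
        · ext y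
          rw [h, MonoidHom.mul_apply, MonoidHom.inv_apply, inv_mul_cancel, MonoidHom.one_apply]
      simp only [hiff]
      by_cases h : φ.comp (cT t) = ψ
      · rw [if_pos h.symm, if_pos h]; ring
      · rw [if_neg (Ne.symm h), if_neg h]; ring
    simp only [hinner] at hmain
    rw [← Finset.mul_sum, Finset.sum_add_distrib, Finset.sum_const, Finset.card_univ, nsmul_eq_mul,
      mul_one, ← Nat.card_eq_fintype_card, Finset.sum_boole, ← mul_assoc (Nat.card F.P : ℂ),
      mul_left_comm] at hmain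
    have h2 := mul_left_cancel₀ (mul_ne_zero hN hN) hmain
    rw [Nat.card_eq_fintype_card (α := {t : T // φ.comp (cT t) = ψ}), Fintype.card_subtype]
    exact_mod_cast h2
  · -- non-vanishing
    by_contra hall
    push Not at hall
    refine F.val_ne_zero hχ hy₁ ?_
    letI := Fintype.ofFinite (F.P →* ℂˣ)
    let g : F.P → ℂ := fun y => F.val χ y / (U y : ℂ)
    have hconst : ∀ ψ : F.P →* ℂˣ, fou g ψ = fou g 1 := fun ψ => by
      rcases eq_or_ne ψ 1 with rfl | h
      · rfl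
      have h1 := hv ψ χ
      rw [hall ψ h, Int.cast_zero, mul_zero] at h1
      rw [← sub_eq_zero, ← h1, fou, fou, ← Finset.sum_sub_distrib]
      exact Finset.sum_congr rfl fun y _ => by simp [g, mul_sub]
    have h2 := fou_inv_sum g y₁
    simp only [hconst, ← Finset.mul_sum, Char.sum_hom_units hy₁, mul_zero] at h2
    rcases div_eq_zero_iff.mp ((mul_eq_zero.mp h2.symm).resolve_left hN) with h | h
    · exact h
    · exact absurd h (hU0 y₁ hy₁)
  · -- the expansion
    let g : F.P → ℂ := fun y => F.val χ y / (U y : ℂ)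
    rw [F.gv_of_ne χ hy, unit, ← hUdef]
    refine mul_left_cancel₀ hN ?_
    rw [show F.val χ y / (U y : ℂ) = g y from rfl, ← fou_inv_sum g y, Finset.mul_sum]
    have hconst : ∑ ψ : F.P →* ℂˣ, fou g 1 * (ψ y : ℂ) = 0 := by
      rw [← Finset.mul_sum, Char.sum_hom_units hy, mul_zero]
    rw [show ∑ ψ : F.P →* ℂˣ, fou g ψ * (ψ y : ℂ) =
      ∑ ψ : F.P →* ℂˣ, (fou g ψ * (ψ y : ℂ) - fou g 1 * (ψ y : ℂ)) by
        rw [Finset.sum_sub_distrib, hconst, sub_zero]]
    refine Finset.sum_congr rfl fun ψ _ => ?_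
    have h1 : fou g ψ - fou g 1 = (Nat.card F.P : ℂ) * (v ψ χ : ℂ) := by
      rw [← hv ψ χ, fou, fou, ← Finset.sum_sub_distrib]
      exact Finset.sum_congr rfl fun z _ => by simp [g, mul_sub]
    rw [← sub_mul, h1, mul_assoc]
    rcases eq_or_ne ψ 1 with rfl | h
    · have h2 := hv 1 χ
      simp only [MonoidHom.one_apply, Units.val_one, sub_self, mul_zero, Finset.sum_const_zero] at h2
      rw [if_pos rfl, ← mul_assoc (Nat.card F.P : ℂ), ← h2, zero_mul, mul_zero]
    · rw [if_neg h]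

end FreeFrame

end CfsgLib.Block.FreeInertial
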